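import Cfsg.Agent.Lib.Invol.EssThree.Linear

/-!
# Irreducibility in the regular case and the torus in the transvection case
-/

set_option autoImplicit false
set_option linter.style.haveILetI false
set_option linter.unusedSectionVars false

namespace Cfsg.Agent.Invol.EssThree

open Module

variable {p : ℕ} [hp : Fact p.Prime] {X Y : Subgroup (GL3 p)}

/-- The inclusion of the linear group in the endomorphism ring. -/
def toEnd (p : ℕ) : GL3 p →* End (ZMod p) (V3 p) where
  toFun g := (g : V3 p →ₗ[ZMod p] V3 p)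
  map_one' := rfl
  map_mul' _ _ := rfl

theorem torus_apply_gl (a b : GL3 p) {c d : V3 p} (h1 : a c = c) (h2 : a d = d + c) (h3 : b d = d)
    (h4 : b c = c + d) {t : ZMod p} (ht : t ≠ 0) :
    torus a b t c = t • c ∧ torus a b t d = t⁻¹ • d := by
  have h := torus_apply (toEnd p a) (toEnd p b) (c := c) (d := d) h1 h2 h3 h4 ht
  rw [← map_torus (toEnd p)] at h
  exact h

theorem torus_fix_gl (a b : GL3 p) {f : V3 p} (h1 : a f = f) (h2 : b f = f) (t : ZMod p) :
    torus a b t f = f := by
  have h := torus_fix (toEnd p a) (toEnd p b) (f := f) h1 h2 t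
  rw [← map_torus (toEnd p)] at h
  exact h

/-- The elements fixing `U` pointwise and every vector modulo `U`. -/
def stab (U : Submodule (ZMod p) (V3 p)) : Subgroup (GL3 p) where
  carrier := {g | (∀ v ∈ U, g v = v) ∧ ∀ v, g v - v ∈ U}
  one_mem' := ⟨fun v _ => rfl, fun v => by simp⟩
  mul_mem' {a b} ha hb := ⟨fun v hv => by rw [LinearEquiv.mul_apply, hb.1 v hv, ha.1 v hv],
    fun v => by
      rw [LinearEquiv.mul_apply, show a (b v) - v = (a (b v) - b v) + (b v - v) by abel]
      exact U.add_mem (ha.2 _) (hb.2 v)⟩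
  inv_mem' {a} ha := by
    refine ⟨fun v hv => a.injective ((a.apply_symm_apply v).trans (ha.1 v hv).symm), fun v => ?_⟩
    have h := ha.2 (a.symm v)
    rw [a.apply_symm_apply, ← neg_sub] at h
    exact (Submodule.neg_mem_iff U).1 h

variable (hE : Emb p X Y)

namespace Emb

include hE

theorem stab_eq_one (hp3 : 3 ≤ p) {U : Submodule (ZMod p) (V3 p)}
    (hU : ∀ g ∈ X, ∀ v ∈ U, g v ∈ U) {k : GL3 p} (hk : k ∈ X ⊓ stab U) : k = 1 := by
  refine Subgroup.mem_bot.1 ((hE.no_normal (K := X ⊓ stab U) inf_le_left ?_ ?_).le hk)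
  · rintro ⟨g, hgX, hg⟩
    refine ⟨1, Subtype.ext ?_⟩
    rw [pow_one]
    refine pow_p_eq_one hp3 fun v => ?_
    have h1 : g (g v - v) = g v - v := hg.1 _ (hg.2 v)
    have h3 : g (g v) - g v - (g v - v) = 0 := by rw [← map_sub, h1, sub_self]
    show g (g (g v) - g v) - g (g v - v) - (g (g v) - g v - (g v - v)) = 0
    rw [← map_sub g (g (g v) - g v), h3, map_zero, sub_zero]
  · rintro g hg k ⟨hkX, hk⟩
    refine Subgroup.mem_inf.2 ⟨X.mul_mem (X.mul_mem hg hkX) (X.inv_mem hg), fun v hv => ?_,
      fun v => ?_⟩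
    · show g (k (g⁻¹ v)) = v
      rw [hk.1 _ (hU _ (X.inv_mem hg) v hv)]
      exact g.apply_symm_apply v
    · show g (k (g.symm v)) - v ∈ U
      conv in (g (k (g.symm v)) - v) =>
        rw [show g (k (g.symm v)) - v = g (k (g.symm v) - g.symm v) by
          rw [map_sub, g.apply_symm_apply]]
      exact hU g hg _ (hk.2 _)

/-- With regular unipotent elements of order `p`, the group is irreducible. -/
theorem irreducible (hp3 : 3 ≤ p) {τ : GL3 p} (hτX : τ ∈ X) (hτp : τ ^ p = 1) {e : V3 p}
    (he : τ (τ e - e) - (τ e - e) ≠ 0) (U : Submodule (ZMod p) (V3 p))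
    (hU : ∀ g ∈ X, ∀ v ∈ U, g v ∈ U) : U = ⊥ ∨ U = ⊤ := by
  obtain ⟨N, hN⟩ : ∃ N : V3 p →ₗ[ZMod p] V3 p, ∀ v, N v = τ v - v :=
    ⟨(τ : V3 p →ₗ[ZMod p] V3 p) - LinearMap.id, fun v => rfl⟩
  have hτv : ∀ v, τ v = v + N v := fun v => by rw [hN, add_sub_cancel]
  have hb : N (N e) ≠ 0 := by rwa [hN, hN]
  have hcube : ∀ v, N (N (N v)) = 0 := fun v => by
    simp only [hN, map_sub]
    have h := cube_zero (k := 1) (by rw [pow_one]; exact hτp) v
    simp only [map_sub] at h
    exact h
  set m := N e with hm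
  set b := N m with hbdef
  have hNb : N b = 0 := hcube e
  have hli : LinearIndependent (ZMod p) ![e, m, b] := by
    rw [Fintype.linearIndependent_iff]
    intro a ha
    simp only [Fin.sum_univ_three, Matrix.cons_val_zero, Matrix.cons_val_one, Matrix.cons_val]
      at ha
    have h1 := congrArg (fun x => N (N x)) ha
    simp only [map_add, map_smul, ← hm, ← hbdef, hNb, smul_zero, add_zero, map_zero] at h1
    have a0 := (smul_eq_zero.1 h1).resolve_right hb
    rw [a0, zero_smul, zero_add] at ha
    have h2 := congrArg N ha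
    simp only [map_add, map_smul, ← hbdef, hNb, smul_zero, add_zero, map_zero] at h2
    have a1 := (smul_eq_zero.1 h2).resolve_right hb
    rw [a1, zero_smul, zero_add] at ha
    intro i
    fin_cases i
    · exact a0
    · exact a1
    · exact (smul_eq_zero.1 ha).resolve_right hb
  by_cases hbot : U = ⊥
  · exact Or.inl hbot
  refine Or.inr ?_
  by_contra htop
  have hτ1 : τ ≠ 1 := fun h => he (by simp [h])
  have hinv : ∀ v ∈ U, N v ∈ U := fun v hv => by rw [hN]; exact U.sub_mem (hU τ hτX v hv) hv
  have hbU : b ∈ U := by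
    obtain ⟨v, hv, hv0⟩ := Submodule.exists_mem_ne_zero_of_ne_bot hbot
    obtain ⟨α, β, γ, rfl⟩ := span_three hli v
    have h1 := hinv _ hv
    have h2 := hinv _ h1
    simp only [map_add, map_smul, ← hm, ← hbdef, hNb, smul_zero, add_zero] at h1 h2
    by_cases hα : α = 0
    · subst hα
      simp only [zero_smul, zero_add] at hv hv0 h1
      by_cases hβ : β = 0
      · subst hβ
        simp only [zero_smul, zero_add] at hv hv0
        exact (U.smul_mem_iff (left_ne_zero_of_smul hv0)).1 hv
      · exact (U.smul_mem_iff hβ).1 h1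
    · exact (U.smul_mem_iff hα).1 h2
  have hα0 : ∀ α β γ : ZMod p, α • e + β • m + γ • b ∈ U → α = 0 := by
    intro α β γ h
    by_contra hα
    have h1 := hinv _ h
    simp only [map_add, map_smul, ← hm, ← hbdef, hNb, smul_zero, add_zero] at h1
    have hm' : m ∈ U := (U.smul_mem_iff hα).1
      (by simpa using U.sub_mem h1 (U.smul_mem β hbU))
    have he' : e ∈ U := (U.smul_mem_iff hα).1 (by
      simpa using U.sub_mem (U.sub_mem h (U.smul_mem γ hbU)) (U.smul_mem β hm'))
    refine htop (eq_top_iff.2 fun x _ => ?_)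
    obtain ⟨a, b', c', rfl⟩ := span_three hli x
    exact U.add_mem (U.add_mem (U.smul_mem _ he') (U.smul_mem _ hm')) (U.smul_mem _ hbU)
  -- the flag `⟨b⟩ ⊂ ⟨m, b⟩` is stabilized by one conjugate only
  obtain ⟨g, hg, hgτ⟩ := hE.exists_conj_not_mem hτX hτ1 hτp
  set τ' := g * τ * g⁻¹ with hτ'
  have hτ'X : τ' ∈ X := X.mul_mem (X.mul_mem hg hτX) (X.inv_mem hg)
  have hτ'p : τ' ^ p = 1 := by rw [hτ', conj_pow, hτp, mul_one, mul_inv_cancel]
  set L := Submodule.span (ZMod p) {b} with hL
  set M := Submodule.span (ZMod p) {m, b} with hMdef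
  have hflag : ¬ (τ' b = b ∧ τ' m - m ∈ L ∧ τ' e - e ∈ M) := by
    intro hflag
    let B : Subgroup (GL3 p) :=
      { carrier := {k | k b = b ∧ k m - m ∈ L ∧ k e - e ∈ M}
        one_mem' := ⟨rfl, by simp, by simp⟩
        mul_mem' := fun {a c} ha hc => by
          have haL : ∀ v ∈ L, a v = v := fun v hv => by
            obtain ⟨r, rfl⟩ := Submodule.mem_span_singleton.1 hv
            rw [map_smul, ha.1]
          refine ⟨by rw [LinearEquiv.mul_apply, hc.1, ha.1], ?_, ?_⟩
          · rw [LinearEquiv.mul_apply, show a (c m) - m = a (c m - m) + (a m - m) by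
              rw [map_sub]; abel, haL _ hc.2.1]
            exact L.add_mem hc.2.1 ha.2.1
          · rw [LinearEquiv.mul_apply, show a (c e) - e = a (c e - e) + (a e - e) by
              rw [map_sub]; abel]
            obtain ⟨r, s, hrs⟩ := Submodule.mem_span_pair.1 hc.2.2
            refine M.add_mem ?_ ha.2.2
            rw [← hrs, map_add, map_smul, map_smul, ha.1, show a m = (a m - m) + m by abel]
            exact M.add_mem (M.smul_mem _ (M.add_mem (Submodule.span_mono (by simp) ha.2.1)
              (Submodule.subset_span (by simp)))) (M.smul_mem _ (Submodule.subset_span (by simp)))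
        inv_mem' := fun {a} ha => by
          have h1 : a.symm b = b := by rw [LinearEquiv.symm_apply_eq]; exact ha.1.symm
          obtain ⟨r, hr⟩ := Submodule.mem_span_singleton.1 ha.2.1
          have h2 : a.symm m - m = -(r • b) := by
            rw [← h1, ← map_smul, ← map_neg, LinearEquiv.eq_symm_apply, map_sub,
              a.apply_symm_apply, hr]
            abel
          obtain ⟨r', s', hrs⟩ := Submodule.mem_span_pair.1 ha.2.2
          have h3 : a.symm e - e = -(r' • a.symm m + s' • a.symm b) := by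
            rw [← a.symm.map_smul, ← a.symm.map_smul, ← a.symm.map_add, ← map_neg,
              LinearEquiv.eq_symm_apply, map_sub,
              a.apply_symm_apply, hrs]
            abel
          refine ⟨h1, ?_, ?_⟩
          · show a.symm m - m ∈ L
            rw [h2]
            exact L.neg_mem (L.smul_mem r (Submodule.mem_span_singleton_self b))
          · show a.symm e - e ∈ M
            rw [h3, h1, show a.symm m = (a.symm m - m) + m by abel, h2]
            exact M.neg_mem (M.add_mem (M.smul_mem r' (M.add_mem (M.neg_mem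
              (M.smul_mem r (Submodule.subset_span (by simp)))) (Submodule.subset_span (by simp))))
              (M.smul_mem s' (Submodule.subset_span (by simp)))) }
    have hBp : IsPGroup p ↥(X ⊓ B) := by
      rintro ⟨k, hkX, hk⟩
      refine ⟨1, Subtype.ext ?_⟩
      rw [pow_one]
      refine pow_p_eq_one hp3 fun v => ?_
      obtain ⟨K, hK⟩ : ∃ K : V3 p →ₗ[ZMod p] V3 p, ∀ v, K v = k v - v :=
        ⟨(k : V3 p →ₗ[ZMod p] V3 p) - LinearMap.id, fun v => rfl⟩
      have kb : K b = 0 := by rw [hK, hk.1, sub_self]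
      obtain ⟨r, hr⟩ := Submodule.mem_span_singleton.1 hk.2.1
      obtain ⟨r', s', hrs⟩ := Submodule.mem_span_pair.1 hk.2.2
      have km : K m = r • b := by rw [hK, hr]
      have ke : K e = r' • m + s' • b := by rw [hK, hrs]
      obtain ⟨α, β, γ, rfl⟩ := span_three hli v
      have h := show K (K (K (α • e + β • m + γ • b))) = 0 by
        simp [map_add, map_smul, kb, km, ke]
      simp only [hK, map_sub] at h ⊢
      exact h
    have hτB : τ ∈ X ⊓ B := ⟨hτX, by rw [hτv, hNb, add_zero], by
      rw [← hN, ← hbdef]; exact Submodule.mem_span_singleton_self b, by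
      rw [← hN, ← hm]; exact Submodule.subset_span (by simp)⟩
    have hτ'B : τ' ∈ X ⊓ B := ⟨hτ'X, hflag⟩
    have hcard := hE.card_le hp3 inf_le_left hBp
    have heq : Subgroup.zpowers τ = X ⊓ B := Subgroup.eq_of_le_of_card_ge
      (Subgroup.zpowers_le.2 hτB) (by rw [Nat.card_zpowers, orderOf_eq_prime hτp hτ1]; exact hcard)
    exact hgτ (heq.ge hτ'B)
  have hτ'v : ∀ v, τ' v - v = g (N (g.symm v)) := fun v => by
    show g (τ (g.symm v)) - v = _
    rw [hN, map_sub, g.apply_symm_apply]
  have hgbU : g b ∈ U := hU g hg b hbU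
  have hgb' : g.symm b ∈ U := hU g⁻¹ (X.inv_mem hg) b hbU
  have hNe : ∀ v, N v ∈ M := fun v => by
    obtain ⟨α, β, γ, rfl⟩ := span_three hli v
    simp only [map_add, map_smul, ← hm, ← hbdef, hNb, smul_zero, add_zero]
    exact M.add_mem (M.smul_mem _ (Submodule.subset_span (by simp)))
      (M.smul_mem _ (Submodule.subset_span (by simp)))
  have hNM : ∀ v ∈ M, N v ∈ L := fun v hv => by
    obtain ⟨r, s, rfl⟩ := Submodule.mem_span_pair.1 hv
    simp only [map_add, map_smul, ← hbdef, hNb, smul_zero, add_zero]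
    exact L.smul_mem _ (Submodule.mem_span_singleton_self b)
  have hcase : U = L ∨ U = M := by
    have hUM : U ≤ M := fun v hv => by
      obtain ⟨α, β, γ, rfl⟩ := span_three hli v
      rw [hα0 _ _ _ hv, zero_smul, zero_add]
      exact Submodule.mem_span_pair.2 ⟨β, γ, rfl⟩
    by_cases hmU : m ∈ U
    · exact Or.inr (le_antisymm hUM (Submodule.span_le.2 (by
        rintro x (rfl | rfl)
        · exact hmU
        · exact hbU)))
    · refine Or.inl (le_antisymm (fun v hv => ?_)
        (Submodule.span_le.2 (Set.singleton_subset_iff.2 hbU)))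
      obtain ⟨r, s, rfl⟩ := Submodule.mem_span_pair.1 (hUM hv)
      have hr : r = 0 := by
        by_contra hr
        exact hmU ((U.smul_mem_iff hr).1 (by simpa using U.sub_mem hv (U.smul_mem s hbU)))
      rw [hr, zero_smul, zero_add]
      exact L.smul_mem _ (Submodule.mem_span_singleton_self b)
  -- an element acting as two distinct scalars
  obtain ⟨s, hsX, ε, ε', hεε, hsU, hsV⟩ : ∃ s ∈ X, ∃ ε ε' : ZMod p, ε ≠ ε' ∧
      (∀ v ∈ U, s v = ε • v) ∧ ∀ v, s v - ε' • v ∈ U := by
    have h2 : (1 : ZMod p) ≠ -1 := fun h => by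
      have : ((2 : ℕ) : ZMod p) = 0 := by
        rw [Nat.cast_ofNat, ← one_add_one_eq_two]
        nth_rewrite 2 [h]
        rw [add_neg_cancel]
      rw [ZMod.natCast_eq_zero_iff] at this
      have := Nat.le_of_dvd two_pos this
      omega
    rcases hcase with hcase | hcase
    · -- an invariant line
      have hgb1 : τ' b = b := by
        have h := hτ'v b
        rw [hcase] at hgb'
        obtain ⟨r, hr⟩ := Submodule.mem_span_singleton.1 hgb'
        rw [← hr, map_smul, hNb, smul_zero, map_zero] at h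
        exact sub_eq_zero.1 h
      have hgL : ∀ v ∈ L, g v ∈ L := fun v hv => hcase ▸ hU g hg v (hcase.symm ▸ hv)
      have hgL' : ∀ v ∈ L, g.symm v ∈ L := fun v hv =>
        hcase ▸ hU g⁻¹ (X.inv_mem hg) v (hcase.symm ▸ hv)
      have hgm : g m ∉ M := by
        intro h
        have hgM : ∀ v ∈ M, g v ∈ M := fun v hv => by
          obtain ⟨r, s, rfl⟩ := Submodule.mem_span_pair.1 hv
          rw [map_add, map_smul, map_smul]
          exact M.add_mem (M.smul_mem _ h) (M.smul_mem _ (Submodule.span_mono (by simp)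
            (hgL b (Submodule.mem_span_singleton_self b))))
        have hgM' : g.symm m ∈ M := by
          obtain ⟨r, s, hrs⟩ := Submodule.mem_span_pair.1 h
          have hr : r ≠ 0 := by
            intro hr
            rw [hr, zero_smul, zero_add] at hrs
            have h1 := hgL' (g m) (Submodule.mem_span_singleton.2 ⟨s, hrs⟩)
            rw [g.symm_apply_apply] at h1
            obtain ⟨t, ht⟩ := Submodule.mem_span_singleton.1 h1
            have h3 := congrArg N ht
            rw [map_smul, hNb, smul_zero] at h3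
            exact hb h3.symm
          refine (M.smul_mem_iff hr).1 ?_
          have h1 := congrArg g.symm hrs
          rw [g.symm_apply_apply, map_add, map_smul, map_smul] at h1
          rw [eq_sub_of_add_eq h1]
          exact M.sub_mem (Submodule.subset_span (by simp)) (M.smul_mem _
            (Submodule.span_mono (by simp) (hgL' b (Submodule.mem_span_singleton_self b))))
        refine hflag ⟨hgb1, ?_, ?_⟩
        · rw [hτ'v]; exact hgL _ (hNM _ hgM')
        · rw [hτ'v]; exact hgM _ (hNe _)
      obtain ⟨α, hα, hAd⟩ : ∃ α : ZMod p, α ≠ 0 ∧ N (g m) - α • m ∈ L := by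
        obtain ⟨r, s, hrs⟩ := Submodule.mem_span_pair.1 (hNe (g m))
        refine ⟨r, fun hr => hgm ?_, ?_⟩
        · obtain ⟨x, y, z, hxyz⟩ := span_three hli (g m)
          have h1 := congrArg (fun v => N (N v)) hxyz
          rw [hr, zero_smul, zero_add] at hrs
          simp only [← hrs, map_add, map_smul, ← hm, ← hbdef, hNb, smul_zero, add_zero] at h1
          rw [hxyz, (smul_eq_zero.1 h1.symm).resolve_right hb, zero_smul, zero_add]
          exact Submodule.mem_span_pair.2 ⟨y, z, rfl⟩
        · rw [← hrs, add_sub_cancel_left]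
          exact L.smul_mem _ (Submodule.mem_span_singleton_self b)
      obtain ⟨μ, hμ, hBc⟩ : ∃ μ : ZMod p, μ ≠ 0 ∧ τ' m - m - μ • g m ∈ L := by
        obtain ⟨r, s, hrs⟩ := Submodule.mem_span_pair.1 (hNe (g.symm m))
        refine ⟨r, fun hr => hgm ?_, ?_⟩
        · obtain ⟨x, y, z, hxyz⟩ := span_three hli (g.symm m)
          have h1 := congrArg (fun v => N (N v)) hxyz
          rw [hr, zero_smul, zero_add] at hrs
          simp only [← hrs, map_add, map_smul, ← hm, ← hbdef, hNb, smul_zero, add_zero] at h1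
          rw [(smul_eq_zero.1 h1.symm).resolve_right hb, zero_smul, zero_add] at hxyz
          have h3 := congrArg g hxyz
          rw [g.apply_symm_apply, map_add, map_smul, map_smul] at h3
          have hy : y ≠ 0 := by
            intro hy
            rw [hy, zero_smul, zero_add] at h3
            obtain ⟨t, ht⟩ := Submodule.mem_span_singleton.1
              (L.smul_mem z (hgL b (Submodule.mem_span_singleton_self b)))
            rw [← ht] at h3
            have h4 := congrArg N h3
            rw [map_smul, hNb, smul_zero] at h4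
            exact hb h4
          refine (M.smul_mem_iff hy).1 ?_
          rw [eq_sub_of_add_eq h3.symm]
          exact M.sub_mem (Submodule.subset_span (by simp)) (M.smul_mem _
            (Submodule.span_mono (by simp) (hgL b (Submodule.mem_span_singleton_self b))))
        · rw [hτ'v, ← hrs, map_add, map_smul, map_smul, add_sub_cancel_left]
          exact L.smul_mem _ (hgL b (Submodule.mem_span_singleton_self b))
      let Xb : Subgroup (GL3 p) :=
        { carrier := {k | k b = b}
          one_mem' := rfl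
          mul_mem' := fun {a c} (ha : a b = b) (hc : c b = b) => by
            show a (c b) = b
            rw [hc, ha]
          inv_mem' := fun {a} (ha : a b = b) => by
            show a.symm b = b
            rw [LinearEquiv.symm_apply_eq]
            exact ha.symm }
      let Q : ↥Xb →* End (ZMod p) (V3 p ⧸ L) :=
        { toFun := fun k => L.mapQ L (k : GL3 p).toLinearMap fun v hv => by
            obtain ⟨r, rfl⟩ := Submodule.mem_span_singleton.1 hv
            show (k : GL3 p) (r • b) ∈ L
            rw [map_smul, show (k : GL3 p) b = b from k.2]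
            exact L.smul_mem _ (Submodule.mem_span_singleton_self b)
          map_one' := Submodule.linearMap_qext _ (LinearMap.ext fun v => rfl)
          map_mul' := fun k l => Submodule.linearMap_qext _ (LinearMap.ext fun v => rfl) }
      have hQ : ∀ (k : ↥Xb) (v : V3 p),
          Q k (Submodule.Quotient.mk v) = Submodule.Quotient.mk ((k : GL3 p) v) := fun k v => rfl
      have hA : τ ∈ Xb := by show τ b = b; rw [hτv, hNb, add_zero]
      have hB : τ' ∈ Xb := hgb1
      obtain ⟨A, hAdef⟩ : ∃ A : ↥Xb, A = ⟨τ, hA⟩ ^ (α⁻¹).val := ⟨_, rfl⟩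
      obtain ⟨B, hBdef⟩ : ∃ B : ↥Xb, B = ⟨τ', hB⟩ ^ (μ⁻¹).val := ⟨_, rfl⟩
      set qc : V3 p ⧸ L := Submodule.Quotient.mk m with hqc
      set qd : V3 p ⧸ L := Submodule.Quotient.mk (g m) with hqd
      have e1 : Q ⟨τ, hA⟩ qc = qc := by
        rw [hqc, hQ, Submodule.Quotient.eq]
        show τ m - m ∈ L
        rw [← hN, ← hbdef]
        exact Submodule.mem_span_singleton_self b
      have e2 : Q ⟨τ, hA⟩ qd = qd + α • qc := by
        rw [hqd, hqc, hQ, ← Submodule.Quotient.mk_smul, ← Submodule.Quotient.mk_add,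
          Submodule.Quotient.eq]
        show τ (g m) - (g m + α • m) ∈ L
        rw [show τ (g m) - (g m + α • m) = N (g m) - α • m by rw [hN]; abel]
        exact hAd
      have e3 : Q ⟨τ', hB⟩ qd = qd := by
        rw [hqd, hQ, Submodule.Quotient.eq]
        show τ' (g m) - g m ∈ L
        rw [hτ'v, g.symm_apply_apply]
        exact hgL _ (Submodule.mem_span_singleton_self b)
      have e4 : Q ⟨τ', hB⟩ qc = qc + μ • qd := by
        rw [hqd, hqc, hQ, ← Submodule.Quotient.mk_smul, ← Submodule.Quotient.mk_add,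
          Submodule.Quotient.eq]
        show τ' m - (m + μ • g m) ∈ L
        rw [show τ' m - (m + μ • g m) = τ' m - m - μ • g m by abel]
        exact hBc
      obtain ⟨f1, f2⟩ := end_pow_add (a := Q ⟨τ, hA⟩) (c := α • qc) (d := qd)
        (by rw [map_smul, e1]) e2 (α⁻¹).val
      rw [← map_pow, ← hAdef, ZMod.natCast_zmod_val, smul_smul, inv_mul_cancel₀ hα,
        one_smul] at f2
      rw [map_smul, ← map_pow, ← hAdef] at f1
      obtain ⟨g1, g2⟩ := end_pow_add (a := Q ⟨τ', hB⟩) (c := μ • qd) (d := qc)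
        (by rw [map_smul, e3]) e4 (μ⁻¹).val
      rw [← map_pow, ← hBdef, ZMod.natCast_zmod_val, smul_smul, inv_mul_cancel₀ hμ,
        one_smul] at g2
      rw [map_smul, ← map_pow, ← hBdef] at g1
      obtain ⟨t1, t2⟩ := torus_apply (Q A) (Q B) (smul_right_injective _ hα f1) f2
        (smul_right_injective _ hμ g1) g2 (neg_ne_zero.2 one_ne_zero)
      rw [← map_torus] at t1 t2
      refine ⟨((torus A B (-1 : ZMod p) : ↥Xb) : GL3 p), ?_, 1, -1, h2, fun v hv => ?_, fun v => ?_⟩
      · have hAX : (A : GL3 p) ∈ X := by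
          rw [hAdef, SubmonoidClass.coe_pow]; exact X.pow_mem hτX _
        have hBX : (B : GL3 p) ∈ X := by
          rw [hBdef, SubmonoidClass.coe_pow]; exact X.pow_mem hτ'X _
        rw [show ((torus A B (-1 : ZMod p) : ↥Xb) : GL3 p) = torus (A : GL3 p) B (-1 : ZMod p) from
          map_torus Xb.subtype A B _]
        exact torus_mem hAX hBX _
      · rw [hcase] at hv
        obtain ⟨r, rfl⟩ := Submodule.mem_span_singleton.1 hv
        rw [one_smul, map_smul, show ((torus A B (-1 : ZMod p) : ↥Xb) : GL3 p) b = b from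
          (torus A B (-1 : ZMod p)).2]
      · rw [hcase, ← Submodule.Quotient.eq, Submodule.Quotient.mk_smul, ← hQ]
        obtain ⟨x, y, z, hxyz⟩ := span_three hli (g m)
        have hx : x ≠ 0 := fun hx => hgm (by
          rw [hxyz, hx, zero_smul, zero_add]; exact Submodule.mem_span_pair.2 ⟨y, z, rfl⟩)
        have hqb : (Submodule.Quotient.mk b : V3 p ⧸ L) = 0 :=
          (Submodule.Quotient.mk_eq_zero L).2 (Submodule.mem_span_singleton_self b)
        have hqe : (Submodule.Quotient.mk e : V3 p ⧸ L) = x⁻¹ • qd - (x⁻¹ * y) • qc := by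
          rw [hqd, hxyz, Submodule.Quotient.mk_add, Submodule.Quotient.mk_add,
            Submodule.Quotient.mk_smul, Submodule.Quotient.mk_smul, Submodule.Quotient.mk_smul,
            hqb, smul_zero, add_zero, smul_add, smul_smul, smul_smul, inv_mul_cancel₀ hx, one_smul,
            ← hqc, add_sub_cancel_right]
        obtain ⟨a, b', c', rfl⟩ := span_three hli v
        rw [Submodule.Quotient.mk_add, Submodule.Quotient.mk_add, Submodule.Quotient.mk_smul,
          Submodule.Quotient.mk_smul, Submodule.Quotient.mk_smul, hqb, hqe]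
        simp only [← hqc, map_add, map_sub, map_smul, t1, t2, inv_neg, inv_one, map_zero, smul_zero, add_zero]
        module
    · -- an invariant plane
      have hgM : ∀ v ∈ M, g v ∈ M := fun v hv => hcase ▸ hU g hg v (hcase.symm ▸ hv)
      have hgM' : ∀ v ∈ M, g.symm v ∈ M := fun v hv =>
        hcase ▸ hU g⁻¹ (X.inv_mem hg) v (hcase.symm ▸ hv)
      have hgL : g b ∉ L := by
        intro h
        obtain ⟨r, hr⟩ := Submodule.mem_span_singleton.1 h
        have hr0 : r ≠ 0 := fun h0 => hb (g.injective (by rw [← hr, h0, zero_smul, map_zero]))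
        have hsb : g.symm b = r⁻¹ • b := by
          rw [LinearEquiv.symm_apply_eq, map_smul, ← hr, smul_smul, inv_mul_cancel₀ hr0, one_smul]
        refine hflag ⟨?_, ?_, ?_⟩
        · have h1 := hτ'v b
          rw [hsb, map_smul, hNb, smul_zero, map_zero] at h1
          exact sub_eq_zero.1 h1
        · rw [hτ'v]
          obtain ⟨t, ht⟩ := Submodule.mem_span_singleton.1
            (hNM _ (hgM' m (Submodule.subset_span (by simp))))
          rw [← ht, map_smul]
          exact L.smul_mem _ h
        · rw [hτ'v]; exact hgM _ (hNe _)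
      obtain ⟨α, hα, hAd⟩ : ∃ α : ZMod p, α ≠ 0 ∧ N (g b) = α • b := by
        obtain ⟨r, s, hrs⟩ := Submodule.mem_span_pair.1
          (hgM b (Submodule.subset_span (by simp)))
        refine ⟨r, fun hr => hgL ?_, ?_⟩
        · rw [← hrs, hr, zero_smul, zero_add]
          exact Submodule.mem_span_singleton.2 ⟨s, rfl⟩
        · rw [← hrs, map_add, map_smul, map_smul, ← hbdef, hNb, smul_zero, add_zero]
      obtain ⟨μ, hμ, hBc⟩ : ∃ μ : ZMod p, μ ≠ 0 ∧ τ' b - b = μ • g b := by
        obtain ⟨r, s, hrs⟩ := Submodule.mem_span_pair.1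
          (hgM' b (Submodule.subset_span (by simp)))
        refine ⟨r, fun hr => ?_, ?_⟩
        · rw [hr, zero_smul, zero_add] at hrs
          have h1 := congrArg g hrs
          rw [g.apply_symm_apply, map_smul] at h1
          have hs : s ≠ 0 := fun h0 => hb (by rw [h0, zero_smul] at h1; exact h1.symm)
          exact hgL (Submodule.mem_span_singleton.2 ⟨s⁻¹, ((eq_inv_smul_iff₀ hs).2 h1).symm⟩)
        · rw [hτ'v, ← hrs, map_add, map_smul, map_smul, ← hbdef, hNb, smul_zero, add_zero,
            map_smul]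
      have e1 : τ b = b := by rw [hτv, hNb, add_zero]
      have e2 : τ (g b) = g b + α • b := by rw [hτv, hAd]
      have e3 : τ' (g b) = g b := by
        have h := hτ'v (g b)
        rw [g.symm_apply_apply, hNb, map_zero] at h
        exact sub_eq_zero.1 h
      have e4 : τ' b = b + μ • g b := by rw [← hBc]; abel
      obtain ⟨f1, f2⟩ := end_pow_add (a := toEnd p τ) (c := α • b) (d := g b)
        (show τ (α • b) = α • b by rw [map_smul, e1]) e2 (α⁻¹).val
      rw [← map_pow, ZMod.natCast_zmod_val, smul_smul, inv_mul_cancel₀ hα,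
        one_smul] at f2
      rw [map_smul, ← map_pow] at f1
      obtain ⟨g1, g2⟩ := end_pow_add (a := toEnd p τ') (c := μ • g b) (d := b)
        (show τ' (μ • g b) = μ • g b by rw [map_smul, e3]) e4 (μ⁻¹).val
      rw [← map_pow, ZMod.natCast_zmod_val, smul_smul, inv_mul_cancel₀ hμ,
        one_smul] at g2
      rw [map_smul, ← map_pow] at g1
      obtain ⟨t1, t2⟩ := torus_apply_gl (τ ^ (α⁻¹).val) (τ' ^ (μ⁻¹).val) (c := b) (d := g b)
        (smul_right_injective _ hα f1) f2 (smul_right_injective _ hμ g1) g2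
        (neg_ne_zero.2 (one_ne_zero (α := ZMod p)))
      set t := torus (τ ^ (α⁻¹).val) (τ' ^ (μ⁻¹).val) (-1 : ZMod p) with ht
      refine ⟨t, torus_mem (X.pow_mem hτX _) (X.pow_mem hτ'X _) _, -1, 1, h2.symm,
        fun v hv => ?_, fun v => ?_⟩
      · rw [hcase] at hv
        obtain ⟨r, s, rfl⟩ := Submodule.mem_span_pair.1 hv
        obtain ⟨x, y, hxy⟩ := Submodule.mem_span_pair.1
          (hgM b (Submodule.subset_span (by simp)))
        have hx : x ≠ 0 := fun hx => hgL (by
          rw [← hxy, hx, zero_smul, zero_add]; exact Submodule.mem_span_singleton.2 ⟨y, rfl⟩)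
        have hmm : m = x⁻¹ • g b - (x⁻¹ * y) • b := by
          rw [← hxy, smul_add, smul_smul, smul_smul, inv_mul_cancel₀ hx, one_smul,
            add_sub_cancel_right]
        rw [hmm]
        simp only [map_add, map_sub, map_smul, t1, t2, inv_neg, inv_one]
        module
      · let T : Subgroup (GL3 p) :=
          { carrier := {k | (∀ v, k v - v ∈ M) ∧ ∀ v ∈ M, k v ∈ M}
            one_mem' := ⟨fun v => by simp, fun v hv => hv⟩
            mul_mem' := fun {a c} ha hc => ⟨fun v => by
              rw [LinearEquiv.mul_apply, show a (c v) - v = a (c v - v) + (a v - v) by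
                rw [map_sub]; abel]
              exact M.add_mem (ha.2 _ (hc.1 v)) (ha.1 v), fun v hv => ha.2 _ (hc.2 v hv)⟩
            inv_mem' := fun {a} ha => by
              have hs : ∀ v, a.symm v - v ∈ M := fun v => by
                have h := ha.1 (a.symm v)
                rw [a.apply_symm_apply, ← neg_sub] at h
                exact (Submodule.neg_mem_iff M).1 h
              exact ⟨hs, fun v hv => by
                show a.symm v ∈ M
                rw [show a.symm v = (a.symm v - v) + v by abel]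
                exact M.add_mem (hs v) hv⟩ }
        have hτT : τ ∈ T := ⟨fun v => by rw [← hN]; exact hNe v,
          fun v hv => hcase ▸ hU τ hτX v (hcase.symm ▸ hv)⟩
        have hτ'T : τ' ∈ T := ⟨fun v => by rw [hτ'v]; exact hgM _ (hNe _),
          fun v hv => hcase ▸ hU τ' hτ'X v (hcase.symm ▸ hv)⟩
        rw [hcase, one_smul]
        exact (torus_mem (T.pow_mem hτT _) (T.pow_mem hτ'T _) _ : t ∈ T).1 v
  have hk : s * τ * s⁻¹ * τ⁻¹ ∈ X ⊓ stab U := by
    have hsT : ∀ v, s (τ v) - τ (s v) ∈ U := fun v => by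
      rw [show s (τ v) - τ (s v) = (s (τ v) - ε' • τ v) - (τ (s v - ε' • v)) by
        rw [map_sub, map_smul]; abel]
      exact U.sub_mem (hsV _) (hU τ hτX _ (hsV v))
    refine Subgroup.mem_inf.2 ⟨X.mul_mem (X.mul_mem (X.mul_mem hsX hτX) (X.inv_mem hsX))
      (X.inv_mem hτX), fun v hv => ?_, fun v => ?_⟩
    · obtain ⟨y, rfl⟩ : ∃ y, v = τ (s y) :=
        ⟨s.symm (τ.symm v), by rw [s.apply_symm_apply, τ.apply_symm_apply]⟩
      have hy : y ∈ U := by
        have h := hU s⁻¹ (X.inv_mem hsX) _ (hU τ⁻¹ (X.inv_mem hτX) _ hv)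
        rwa [show τ⁻¹ (τ (s y)) = s y from τ.symm_apply_apply _,
          show s⁻¹ (s y) = y from s.symm_apply_apply _] at h
      show s (τ (s.symm (τ.symm (τ (s y))))) = τ (s y)
      rw [τ.symm_apply_apply, s.symm_apply_apply, hsU _ (hU τ hτX y hy), hsU y hy, map_smul]
    · obtain ⟨y, rfl⟩ : ∃ y, v = τ (s y) :=
        ⟨s.symm (τ.symm v), by rw [s.apply_symm_apply, τ.apply_symm_apply]⟩
      show s (τ (s.symm (τ.symm (τ (s y))))) - τ (s y) ∈ U
      rw [τ.symm_apply_apply, s.symm_apply_apply]
      exact hsT y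
  have hcomm : s * τ = τ * s := by
    have h := hE.stab_eq_one hp3 hU hk
    rwa [mul_inv_eq_one, mul_inv_eq_iff_eq_mul] at h
  have hsN : ∀ v, s (N v) = N (s v) := fun v => by
    have h := LinearEquiv.congr_fun hcomm v
    simp only [LinearEquiv.mul_apply] at h
    simp only [hN, map_sub, h]
  have hNU : N (N (s e - ε' • e)) = 0 := by
    rcases hcase with h | h
    · obtain ⟨r, hr⟩ := Submodule.mem_span_singleton.1 (h ▸ hsV e)
      rw [← hr, map_smul, hNb, smul_zero, map_zero]
    · obtain ⟨r, r', hr⟩ := Submodule.mem_span_pair.1 (h ▸ hsV e)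
      rw [← hr]
      simp only [map_add, map_smul, ← hbdef, hNb, smul_zero, add_zero]
  rw [map_sub, map_sub, ← hsN, ← hsN, map_smul, map_smul, ← hm, ← hbdef, hsU b hbU, ← sub_smul,
    smul_eq_zero] at hNU
  exact hεε (sub_eq_zero.1 (hNU.resolve_right hb))

/-- In the transvection case there is a torus on the two centres. -/
theorem transvection_frame {τ : GL3 p} (hτX : τ ∈ X) (hτ1 : τ ≠ 1) (hτp : τ ^ p = 1)
    (hN2 : ∀ v, τ (τ v - v) - (τ v - v) = 0) :
    ∃ e l f, LinearIndependent (ZMod p) ![e, l, f] ∧ τ e = e + l ∧ τ l = l ∧ τ f = f ∧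
      ∀ t : ZMod p, t ≠ 0 → ∃ h ∈ X, h e = t • e ∧ h l = t⁻¹ • l ∧ h f = f := by
  obtain ⟨φ, c, hz⟩ := exists_isTv hτ1 hN2
  obtain ⟨g, hg, hgz⟩ := hE.exists_conj_not_mem hτX hτ1 hτp
  have hz'X : g * τ * g⁻¹ ∈ X := X.mul_mem (X.mul_mem hg hτX) (X.inv_mem hg)
  obtain ⟨φ', c', hz'⟩ : ∃ φ' c', IsTv (g * τ * g⁻¹) φ' c' := ⟨_, _, hz.conj g⟩
  have hnotc : ∀ k : ZMod p, c' ≠ k • c := by
    intro k hk
    have h0 : φ c' = 0 := by rw [hk, map_smul, hz.vanish, smul_zero]
    have h0' : φ' c = 0 := by
      by_contra hne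
      have := hz'.vanish
      rw [hk, map_smul, smul_eq_mul, mul_eq_zero] at this
      exact hne (this.resolve_left fun hk0 => hz'.centre_ne (by rw [hk, hk0, zero_smul]))
    obtain ⟨n, hn⟩ := hE.no_pair hτX hz'X hz hz' (hz.apply_centre_comm hz' h0 h0')
    exact hgz (hn ▸ Subgroup.pow_mem _ (Subgroup.mem_zpowers τ) n)
  have hφc' : φ c' ≠ 0 := fun h0 => by
    obtain ⟨k, hk⟩ := hE.centre_of_incident hτX hz'X hz hz' h0
    exact hnotc k hk
  have hφ'c : φ' c ≠ 0 := fun h0 => by
    obtain ⟨k, hk⟩ := hE.centre_of_incident hz'X hτX hz' hz h0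
    have hk0 : k ≠ 0 := fun h => hz.centre_ne (by rw [hk, h, zero_smul])
    exact hnotc k⁻¹ (by rw [hk, smul_smul, inv_mul_cancel₀ hk0, one_smul])
  obtain ⟨f, hf0, hf1, hf2⟩ := exists_common_zero φ φ'
  set l := φ c' • c with hl
  set B := (g * τ * g⁻¹) ^ (φ' l)⁻¹.val with hB
  have hl0 : φ' l ≠ 0 := by rw [hl, map_smul, smul_eq_mul]; exact mul_ne_zero hφc' hφ'c
  have e1 : τ c' = c' + l := hz.apply_eq c'
  have e2 : τ l = l := by rw [hl, map_smul, hz.fix_centre]
  have e3 : τ f = f := by rw [hz.apply_eq, hf1, zero_smul, add_zero]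
  refine ⟨c', l, f, ?_, e1, e2, e3, fun t ht => ?_⟩
  · rw [Fintype.linearIndependent_iff]
    intro a ha
    simp only [Fin.sum_univ_three, Matrix.cons_val_zero, Matrix.cons_val_one, Matrix.cons_val]
      at ha
    have h1 := congrArg φ ha
    have h2 := congrArg φ' ha
    have hφl : φ l = 0 := by rw [hl, map_smul, hz.vanish, smul_zero]
    simp only [map_add, map_smul, hφl, hz'.vanish, hf1, hf2, smul_eq_mul, mul_zero,
      add_zero, zero_add, map_zero, mul_eq_zero, hφc', hl0, or_false] at h1 h2
    rw [h1, h2, zero_smul, zero_smul, zero_add, zero_add, smul_eq_zero] at ha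
    intro i
    fin_cases i
    · exact h1
    · exact h2
    · exact ha.resolve_right hf0
  · have b1 : B c' = c' := by rw [hB, hz'.pow_apply, hz'.vanish, mul_zero, zero_smul, add_zero]
    have b2 : B l = l + c' := by
      rw [hB, hz'.pow_apply, ZMod.natCast_zmod_val, inv_mul_cancel₀ hl0, one_smul]
    have b3 : B f = f := by rw [hB, hz'.pow_apply, hf2, mul_zero, zero_smul, add_zero]
    obtain ⟨t1, t2⟩ := torus_apply_gl τ B (c := l) (d := c') e2 e1 b1 b2 (inv_ne_zero ht)
    refine ⟨torus τ B t⁻¹, torus_mem hτX (X.pow_mem hz'X _) _, ?_, t1,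
      torus_fix_gl τ B e3 b3 _⟩
    rw [t2, inv_inv]

end Emb

end Cfsg.Agent.Invol.EssThree
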