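import Mathlib

/-!
# Linear groups of degree three over `ZMod p`: unipotent elements and transvections
-/

set_option autoImplicit false
set_option linter.style.haveILetI false
set_option linter.unusedSectionVars false

namespace Cfsg.Agent.Invol.EssThree

open Module

variable {p : ℕ} [hp : Fact p.Prime]

/-- The natural module. -/
abbrev V3 (p : ℕ) : Type := Fin 3 → ZMod p

/-- The linear group. -/
abbrev GL3 (p : ℕ) : Type := V3 p ≃ₗ[ZMod p] V3 p

instance : Finite (GL3 p) :=
  Finite.of_injective (fun g : GL3 p => (g : V3 p → V3 p)) DFunLike.coe_injective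

omit hp in
theorem toLinearMap_pow (g : GL3 p) :
    ∀ n : ℕ, ((g ^ n : GL3 p) : V3 p →ₗ[ZMod p] V3 p) =
      ((g : V3 p →ₗ[ZMod p] V3 p) : End (ZMod p) (V3 p)) ^ n
  | 0 => rfl
  | n + 1 => by
    rw [pow_succ, pow_succ, ← toLinearMap_pow g n]
    rfl

theorem pow_fix {g : GL3 p} {v : V3 p} (h : g v = v) : ∀ n : ℕ, (g ^ n) v = v
  | 0 => rfl
  | n + 1 => by rw [pow_succ, LinearEquiv.mul_apply, h, pow_fix h n]

/-- An element of `p`-power order is unipotent. -/
theorem cube_zero {g : GL3 p} {k : ℕ} (hg : g ^ p ^ k = 1) (v : V3 p) :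
    g (g (g v) - g v) - g (g v - v) - (g (g v) - g v - (g v - v)) = 0 := by
  set a : End (ZMod p) (V3 p) := (g : V3 p →ₗ[ZMod p] V3 p) with ha
  haveI : CharP (End (ZMod p) (V3 p)) p := charP_of_injective_algebraMap' (ZMod p) p
  have h0 : (a - 1) ^ p ^ k = 0 := by
    rw [sub_pow_char_pow_of_commute p k (Commute.one_right a), one_pow, ha,
      ← toLinearMap_pow g (p ^ k), hg]
    exact sub_self _
  have h3 : (a - 1) ^ 3 = 0 := by
    rcases le_or_gt 3 (p ^ k) with hm | hm
    · refine LinearMap.ker_eq_top.1 ?_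
      have hf : finrank (ZMod p) (V3 p) = 3 := by simp
      have hk := Module.End.ker_pow_eq_ker_pow_finrank_of_le (f := a - 1) (m := p ^ k)
        (by rw [hf]; exact hm)
      rw [h0, hf] at hk
      rw [← hk]
      exact LinearMap.ker_zero
    · exact pow_eq_zero_of_le hm.le h0
  have h := LinearMap.congr_fun h3 v
  simp only [pow_succ, pow_zero, one_mul, Module.End.mul_apply, LinearMap.sub_apply,
    Module.End.one_apply, map_sub, ha, LinearEquiv.coe_coe, LinearMap.zero_apply] at h
  rw [← h]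
  simp only [map_sub]

/-- A unipotent element has order dividing `p`. -/
theorem pow_p_eq_one (hp3 : 3 ≤ p) {g : GL3 p}
    (h : ∀ v, g (g (g v) - g v) - g (g v - v) - (g (g v) - g v - (g v - v)) = 0) :
    g ^ p = 1 := by
  set a : End (ZMod p) (V3 p) := (g : V3 p →ₗ[ZMod p] V3 p) with ha
  haveI : CharP (End (ZMod p) (V3 p)) p := charP_of_injective_algebraMap' (ZMod p) p
  have h3 : (a - 1) ^ 3 = 0 := by
    refine LinearMap.ext fun v => ?_
    simp only [pow_succ, pow_zero, one_mul, Module.End.mul_apply, LinearMap.sub_apply,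
      Module.End.one_apply, map_sub, ha, LinearEquiv.coe_coe, LinearMap.zero_apply]
    refine Eq.trans ?_ (h v)
    simp only [map_sub]
  have hp0 : (a - 1) ^ p = 0 := pow_eq_zero_of_le hp3 h3
  have h1 := sub_pow_char_pow_of_commute p 1 (Commute.one_right a)
  rw [pow_one, hp0, one_pow, ha, ← toLinearMap_pow g p] at h1
  exact LinearEquiv.toLinearMap_injective (sub_eq_zero.1 h1.symm)

/-! ### Transvections -/

/-- `g` is the transvection with functional `φ` and centre `c`. -/
structure IsTv (g : GL3 p) (φ : Dual (ZMod p) (V3 p)) (c : V3 p) : Prop where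
  vanish : φ c = 0
  phi_ne : φ ≠ 0
  centre_ne : c ≠ 0
  apply_eq : ∀ v, g v = v + φ v • c

namespace IsTv

variable {g h : GL3 p} {φ ψ : Dual (ZMod p) (V3 p)} {c d : V3 p}

theorem fix_centre (hg : IsTv g φ c) : g c = c := by
  rw [hg.apply_eq, hg.vanish, zero_smul, add_zero]

theorem exists_value (hg : IsTv g φ c) : ∃ v, φ v = 1 := by
  obtain ⟨v, hv⟩ := DFunLike.exists_ne hg.phi_ne
  simp only [LinearMap.zero_apply] at hv
  exact ⟨(φ v)⁻¹ • v, by rw [map_smul, smul_eq_mul, inv_mul_cancel₀ hv]⟩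

theorem ne_one (hg : IsTv g φ c) : g ≠ 1 := by
  rintro rfl
  obtain ⟨v, hv⟩ := hg.exists_value
  have := hg.apply_eq v
  rw [hv, one_smul] at this
  exact hg.centre_ne (left_eq_add.1 this)

theorem pow_apply (hg : IsTv g φ c) : ∀ (n : ℕ) (v : V3 p), (g ^ n) v = v + ((n : ZMod p) * φ v) • c
  | 0, v => by simp
  | n + 1, v => by
    rw [pow_succ', LinearEquiv.mul_apply, pow_apply hg n, map_add, map_smul, hg.fix_centre,
      hg.apply_eq, Nat.cast_succ, add_mul, one_mul, add_smul]
    abel

theorem pow_p (hg : IsTv g φ c) : g ^ p = 1 :=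
  LinearEquiv.ext fun v => by rw [hg.pow_apply]; simp

theorem pow_val (hg : IsTv g φ c) {a : ZMod p} (ha : a ≠ 0) : IsTv (g ^ a.val) (a • φ) c where
  vanish := by simp [hg.vanish]
  phi_ne := smul_ne_zero ha hg.phi_ne
  centre_ne := hg.centre_ne
  apply_eq v := by rw [hg.pow_apply, ZMod.natCast_zmod_val, LinearMap.smul_apply, smul_eq_mul]

theorem conj (hg : IsTv g φ c) (k : GL3 p) :
    IsTv (k * g * k⁻¹) (φ ∘ₗ ((k⁻¹ : GL3 p) : V3 p →ₗ[ZMod p] V3 p)) (k c) where
  vanish := by
    show φ (k.symm (k c)) = 0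
    rw [k.symm_apply_apply, hg.vanish]
  phi_ne := by
    obtain ⟨v, hv⟩ := hg.exists_value
    intro h
    have := LinearMap.congr_fun h (k v)
    rw [LinearMap.comp_apply, LinearMap.zero_apply] at this
    have h1 : φ (k.symm (k v)) = 0 := this
    rw [k.symm_apply_apply, hv] at h1
    exact one_ne_zero h1
  centre_ne h := hg.centre_ne (k.injective (by rw [h, map_zero]))
  apply_eq v := by
    rw [LinearEquiv.mul_apply, LinearEquiv.mul_apply, hg.apply_eq, map_add, map_smul]
    show k (k.symm v) + φ (k.symm v) • k c = _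
    rw [k.apply_symm_apply]
    rfl

theorem apply_centre_comm (hg : IsTv g φ c) (hh : IsTv h ψ d) (h1 : φ d = 0) (h2 : ψ c = 0) :
    g * h = h * g := by
  refine LinearEquiv.ext fun v => ?_
  simp only [LinearEquiv.mul_apply, hg.apply_eq, hh.apply_eq, map_add, map_smul, h1, h2,
    smul_eq_mul, mul_zero, add_zero]
  abel

end IsTv

/-- A nontrivial element with square-zero displacement is a transvection. -/
theorem exists_isTv {g : GL3 p} (h1 : g ≠ 1)
    (h2 : ∀ v, g (g v - v) - (g v - v) = 0) : ∃ φ c, IsTv g φ c := by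
  set N : V3 p →ₗ[ZMod p] V3 p := (g : V3 p →ₗ[ZMod p] V3 p) - LinearMap.id with hN
  have hNa : ∀ v, N v = g v - v := fun v => rfl
  have hle : LinearMap.range N ≤ LinearMap.ker N := by
    rintro _ ⟨v, rfl⟩
    rw [LinearMap.mem_ker, hNa, hNa]
    exact h2 v
  have hr := LinearMap.finrank_range_add_finrank_ker N
  have hmono := Submodule.finrank_mono hle
  have h3 : finrank (ZMod p) (V3 p) = 3 := by simp
  have hne : LinearMap.range N ≠ ⊥ := by
    rw [Ne, LinearMap.range_eq_bot]
    intro h0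
    refine h1 (LinearEquiv.ext fun v => ?_)
    have h4 := LinearMap.congr_fun h0 v
    rw [hNa, LinearMap.zero_apply, sub_eq_zero] at h4
    exact h4
  have hrank : finrank (ZMod p) (LinearMap.range N) = 1 := by
    have : finrank (ZMod p) (LinearMap.range N) ≠ 0 := fun h0 =>
      hne (Submodule.finrank_eq_zero.1 h0)
    omega
  obtain ⟨c', hc', hgen⟩ := finrank_eq_one_iff'.1 hrank
  obtain ⟨w, hw⟩ := c'.2
  have hc : (c' : V3 p) ≠ 0 := fun h => hc' (Subtype.ext h)
  choose f hf using fun v => hgen ⟨N v, v, rfl⟩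
  have hf' : ∀ v, f v • (c' : V3 p) = N v := fun v => congrArg Subtype.val (hf v)
  let φ : Dual (ZMod p) (V3 p) :=
    { toFun := f
      map_add' := fun u v => smul_left_injective (ZMod p) hc (by
        simp only [add_smul, hf', map_add])
      map_smul' := fun a v => smul_left_injective (ZMod p) hc (by
        simp only [smul_eq_mul, RingHom.id_apply, ← smul_smul, hf', map_smul]) }
  have hφ : ∀ v, φ v • (c' : V3 p) = N v := hf'
  refine ⟨φ, c', ⟨?_, ?_, hc, fun v => by rw [hφ, hNa, add_sub_cancel]⟩⟩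
  · refine smul_left_injective (ZMod p) hc ?_
    simp only [hφ, zero_smul]
    exact LinearMap.mem_ker.1 (hle c'.2)
  · intro h0
    apply hc
    rw [← hw, ← hφ, h0, LinearMap.zero_apply, zero_smul]

/-- Some nontrivial combination of two independent vectors is killed by a functional. -/
theorem exists_comb {M : Type*} [AddCommGroup M] [Module (ZMod p) M] (f : M →ₗ[ZMod p] ZMod p)
    (u v : M) (h : ∀ a b : ZMod p, a • u + b • v = 0 → a = 0 ∧ b = 0) :
    ∃ a b : ZMod p, a • u + b • v ≠ 0 ∧ f (a • u + b • v) = 0 := by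
  by_cases hu : f u = 0
  · refine ⟨1, 0, fun h0 => one_ne_zero (h 1 0 h0).1, by simp [hu]⟩
  · refine ⟨f v, -f u, fun h0 => hu (neg_eq_zero.1 (h _ _ h0).2), ?_⟩
    rw [map_add, map_smul, map_smul, smul_eq_mul, smul_eq_mul]
    ring

theorem span_three {u v w : V3 p} (h : LinearIndependent (ZMod p) ![u, v, w]) (x : V3 p) :
    ∃ a b c : ZMod p, x = a • u + b • v + c • w := by
  have ht := h.span_eq_top_of_card_eq_finrank (by simp)
  obtain ⟨f, hf⟩ := Submodule.mem_span_range_iff_exists_fun (ZMod p) |>.1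
    (ht.ge (Submodule.mem_top (x := x)))
  exact ⟨f 0, f 1, f 2, by rw [← hf, Fin.sum_univ_three]; rfl⟩

/-- Two functionals have a common nonzero zero. -/
theorem exists_common_zero (φ ψ : Dual (ZMod p) (V3 p)) : ∃ f, f ≠ 0 ∧ φ f = 0 ∧ ψ f = 0 := by
  have hne : LinearMap.ker (φ.prod ψ) ≠ ⊥ := LinearMap.ker_ne_bot_of_finrank_lt (by simp)
  obtain ⟨f, hf, hf0⟩ := Submodule.exists_mem_ne_zero_of_ne_bot hne
  have h := LinearMap.mem_ker.1 hf
  exact ⟨f, hf0, congrArg Prod.fst h, congrArg Prod.snd h⟩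

/-! ### A word giving a diagonal element -/

/-- The Weyl element built from two opposite unipotent elements. -/
def weyl {M : Type*} [Monoid M] (a b : M) (t : ZMod p) : M :=
  a ^ t.val * b ^ (-t⁻¹).val * a ^ t.val

/-- The diagonal element built from two opposite unipotent elements. -/
def torus {M : Type*} [Monoid M] (a b : M) (t : ZMod p) : M :=
  weyl a b t * weyl a b (-1 : ZMod p)

theorem map_torus {M M' : Type*} [Monoid M] [Monoid M'] (f : M →* M') (a b : M) (t : ZMod p) :
    f (torus a b t) = torus (f a) (f b) t := by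
  simp [torus, weyl]

theorem torus_mem {M : Type*} [Group M] {H : Subgroup M} {a b : M} (ha : a ∈ H) (hb : b ∈ H)
    (t : ZMod p) : torus a b t ∈ H :=
  mul_mem (mul_mem (mul_mem (pow_mem ha _) (pow_mem hb _)) (pow_mem ha _))
    (mul_mem (mul_mem (pow_mem ha _) (pow_mem hb _)) (pow_mem ha _))

section word

variable {W : Type*} [AddCommGroup W] [Module (ZMod p) W]

theorem end_pow_add {a : End (ZMod p) W} {c d : W} (hc : a c = c) (hd : a d = d + c) :
    ∀ n : ℕ, (a ^ n) c = c ∧ (a ^ n) d = d + (n : ZMod p) • c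
  | 0 => by simp
  | n + 1 => by
    obtain ⟨h1, h2⟩ := end_pow_add hc hd n
    rw [pow_succ, Module.End.mul_apply, Module.End.mul_apply, hc, hd, map_add, h1, h2,
      Nat.cast_succ, add_smul, one_smul]
    exact ⟨rfl, by abel⟩

theorem torus_apply (A B : End (ZMod p) W) {c d : W} (hAc : A c = c) (hAd : A d = d + c)
    (hBd : B d = d) (hBc : B c = c + d) {t : ZMod p} (ht : t ≠ 0) :
    torus A B t c = t • c ∧ torus A B t d = t⁻¹ • d := by
  have hw : ∀ s : ZMod p, s ≠ 0 → weyl A B s c = -(s⁻¹ • d) ∧ weyl A B s d = s • c := by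
    intro s hs
    obtain ⟨a1, a2⟩ := end_pow_add hAc hAd s.val
    obtain ⟨b1, b2⟩ := end_pow_add hBd hBc (-s⁻¹).val
    rw [ZMod.natCast_zmod_val] at a2 b2
    have hinv : -s⁻¹ * s = -1 := by rw [neg_mul, inv_mul_cancel₀ hs]
    refine ⟨?_, ?_⟩
    · simp only [weyl, Module.End.mul_apply, a1, b2, map_add, map_smul, a2]
      rw [smul_add, smul_smul, hinv, neg_smul, neg_smul, one_smul]
      abel
    · simp only [weyl, Module.End.mul_apply, a2, map_add, map_smul, b1, b2, smul_add, smul_smul,
        a1]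
      rw [hinv]
      rw [mul_neg, mul_inv_cancel₀ hs, mul_neg_one, neg_smul, neg_smul, one_smul]
      abel
  obtain ⟨w1, w2⟩ := hw t ht
  obtain ⟨v1, v2⟩ := hw (-1) (neg_ne_zero.2 one_ne_zero)
  refine ⟨?_, ?_⟩
  · rw [torus, Module.End.mul_apply, v1, map_neg, map_smul, w2]
    simp
  · rw [torus, Module.End.mul_apply, v2, map_smul, w1]
    simp

theorem torus_fix (A B : End (ZMod p) W) {f : W} (hA : A f = f) (hB : B f = f) (t : ZMod p) :
    torus A B t f = f := by
  have h : ∀ (a : End (ZMod p) W), a f = f → ∀ n : ℕ, (a ^ n) f = f := fun a ha n => by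
    induction n with
    | zero => rfl
    | succ n ih => rw [pow_succ, Module.End.mul_apply, ha, ih]
  simp only [torus, weyl, Module.End.mul_apply, h A hA, h B hB]

end word

end Cfsg.Agent.Invol.EssThree
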