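import Mathlib
import Cfsg.Prelude.Def_CaseTheorems
import Cfsg.Agent.Lib.Invol.EssThree.Basic

/-!
# A maximal subgroup with Frattini quotient of order `p ^ 3`, in coordinates
-/

set_option autoImplicit false
set_option linter.style.haveILetI false
set_option linter.unusedSectionVars false

namespace Cfsg.Agent.Invol.EssThree

open scoped commutatorElement

variable {p : ℕ} [hp : Fact p.Prime] {G : Type*} [Group G]

/-- Elementary abelian sections have order at most `p ^ 3`. -/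
def Rank3 (p : ℕ) (G : Type*) [Group G] : Prop :=
  ∀ A B : Subgroup G, B ≤ A → (∀ a ∈ A, ∀ b ∈ A, ⁅a, b⁆ ∈ B) → (∀ a ∈ A, a ^ p ∈ B) →
    Nat.card A ≤ p ^ 3 * Nat.card B

theorem normal_subgroupOf {A B : Subgroup G} (hBA : B ≤ A)
    (hcomm : ∀ a ∈ A, ∀ b ∈ A, ⁅a, b⁆ ∈ B) : (B.subgroupOf A).Normal := by
  refine ⟨fun b hb a => ?_⟩
  have hb' : (b : G) ∈ B := hb
  show (a : G) * b * (a : G)⁻¹ ∈ B
  rw [show (a : G) * b * (a : G)⁻¹ = ⁅(a : G), (b : G)⁆ * b by
    rw [commutatorElement_def]; group]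
  exact B.mul_mem (hcomm _ a.2 _ (hBA hb')) hb'

theorem rank3_of_sectional (h : Cfsg.SectionalPRankLE p 3 G) : Rank3 p G := by
  intro A B hBA hcomm hpow
  haveI := normal_subgroupOf hBA hcomm
  have h1 := h A (B.subgroupOf A) ⊤ ⟨⟨fun x y => Subtype.ext ?_⟩⟩ ?_
  · rw [Subgroup.card_top] at h1
    rw [(B.subgroupOf A).card_eq_card_quotient_mul_card_subgroup,
      Nat.card_congr (Subgroup.subgroupOfEquivOfLe hBA).toEquiv]
    exact Nat.mul_le_mul_right _ h1
  · obtain ⟨a, ha⟩ := QuotientGroup.mk'_surjective (B.subgroupOf A) x.1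
    obtain ⟨b, hb⟩ := QuotientGroup.mk'_surjective (B.subgroupOf A) y.1
    show x.1 * y.1 = y.1 * x.1
    rw [← ha, ← hb, ← commutatorElement_eq_one_iff_mul_comm, ← map_commutatorElement,
      QuotientGroup.mk'_apply, QuotientGroup.eq_one_iff]
    exact hcomm _ a.2 _ b.2
  · intro x _
    obtain ⟨a, rfl⟩ := QuotientGroup.mk'_surjective (B.subgroupOf A) x
    rw [← map_pow, QuotientGroup.mk'_apply, QuotientGroup.eq_one_iff]
    exact hpow _ a.2

theorem Rank3.of_injective {G' : Type*} [Group G'] (f : G →* G') (hf : Function.Injective f)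
    (h : Rank3 p G') : Rank3 p G := by
  intro A B hBA hcomm hpow
  have h1 := h (A.map f) (B.map f) (Subgroup.map_mono hBA) ?_ ?_
  · rwa [Subgroup.card_map_of_injective hf, Subgroup.card_map_of_injective hf] at h1
  · rintro _ ⟨a, ha, rfl⟩ _ ⟨b, hb, rfl⟩
    rw [← map_commutatorElement]
    exact Subgroup.mem_map_of_mem f (hcomm a ha b hb)
  · rintro _ ⟨a, ha, rfl⟩
    rw [← map_pow]
    exact Subgroup.mem_map_of_mem f (hpow a ha)

theorem exists_equivFun (W : Type*) [AddCommGroup W] [Module (ZMod p) W] [Finite W] :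
    ∃ k : ℕ, Nonempty (W ≃ₗ[ZMod p] (Fin k → ZMod p)) :=
  ⟨_, ⟨(Module.finBasis (ZMod p) W).equivFun⟩⟩

/-- Coordinates on an elementary abelian section. -/
theorem exists_coord [Finite G] (A B : Subgroup G) (hBA : B ≤ A)
    (hcomm : ∀ a ∈ A, ∀ b ∈ A, ⁅a, b⁆ ∈ B) (hpow : ∀ a ∈ A, a ^ p ∈ B) :
    ∃ (k : ℕ) (q : G → Fin k → ZMod p), (∀ a ∈ A, ∀ b ∈ A, q (a * b) = q a + q b) ∧
      (∀ a ∈ A, q a = 0 ↔ a ∈ B) ∧ (∀ v, ∃ a ∈ A, q a = v) ∧
      Nat.card B * p ^ k = Nat.card A := by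
  classical
  haveI := normal_subgroupOf hBA hcomm
  let Q := ↥A ⧸ B.subgroupOf A
  letI : CommGroup Q :=
    { (inferInstance : Group Q) with
      mul_comm := fun x y => by
        obtain ⟨a, rfl⟩ := QuotientGroup.mk'_surjective (B.subgroupOf A) x
        obtain ⟨b, rfl⟩ := QuotientGroup.mk'_surjective (B.subgroupOf A) y
        rw [← commutatorElement_eq_one_iff_mul_comm, ← map_commutatorElement,
          QuotientGroup.mk'_apply, QuotientGroup.eq_one_iff]
        exact hcomm _ a.2 _ b.2 }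
  haveI : Finite Q := Quotient.finite _
  letI : Module (ZMod p) (Additive Q) := AddCommGroup.zmodModule (n := p) fun x => by
    obtain ⟨a, ha⟩ := QuotientGroup.mk'_surjective (B.subgroupOf A) (Additive.toMul x)
    have h1 : QuotientGroup.mk' (B.subgroupOf A) (a ^ p) = 1 :=
      (QuotientGroup.eq_one_iff (a ^ p)).2 (Subgroup.mem_subgroupOf.2 (hpow _ a.2))
    rw [map_pow, ha] at h1
    exact congrArg Additive.ofMul h1
  obtain ⟨k, ⟨e'⟩⟩ := exists_equivFun (p := p) (Additive Q)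
  obtain ⟨e, -⟩ : ∃ e : Additive Q ≃+ (Fin k → ZMod p), e = e'.toAddEquiv := ⟨_, rfl⟩
  refine ⟨k,
    fun g => if h : g ∈ A then e (Additive.ofMul (QuotientGroup.mk' _ ⟨g, h⟩)) else 0,
    fun a ha b hb => ?_, fun a ha => ?_, fun v => ?_, ?_⟩
  · simp only [dif_pos ha, dif_pos hb, dif_pos (A.mul_mem ha hb)]
    rw [← map_add, ← ofMul_mul, ← map_mul]
    rfl
  · simp only [dif_pos ha, map_eq_zero_iff e e.injective]
    exact QuotientGroup.eq_one_iff _
  · obtain ⟨a, ha⟩ := QuotientGroup.mk'_surjective (B.subgroupOf A) (Additive.toMul (e.symm v))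
    exact ⟨a, a.2, by simp only [dif_pos a.2, Subtype.coe_eta, ha, ofMul_toMul, e.apply_symm_apply]⟩
  · have h1 : Nat.card Q = p ^ k := by
      show Nat.card (Additive Q) = _
      rw [Nat.card_congr e.toEquiv, Nat.card_fun, Nat.card_zmod, Nat.card_fin]
    rw [← h1, (B.subgroupOf A).card_eq_card_quotient_mul_card_subgroup,
      Nat.card_congr (Subgroup.subgroupOfEquivOfLe hBA).toEquiv, mul_comm]

theorem dim_le_three [Finite G] (hR : Rank3 p G) {A B : Subgroup G} {k : ℕ} (hBA : B ≤ A)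
    (hcomm : ∀ a ∈ A, ∀ b ∈ A, ⁅a, b⁆ ∈ B) (hpow : ∀ a ∈ A, a ^ p ∈ B)
    (hcard : Nat.card B * p ^ k = Nat.card A) : k ≤ 3 := by
  have h := hR A B hBA hcomm hpow
  rw [← hcard, mul_comm (p ^ 3)] at h
  exact (Nat.pow_le_pow_iff_right hp.out.one_lt).1 (Nat.le_of_mul_le_mul_left h Nat.card_pos)

theorem pow_mul_pow_eq {M : Type*} [Monoid M] {x : M} (hx : x ^ p = 1) (a b : ℕ) :
    x ^ a * x ^ b = x ^ ((a + b) % p) := by
  rw [← pow_add, pow_eq_pow_mod (a + b) hx]

/-- There are no four independent commuting elements of order `p` in a quotient. -/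
theorem no_four [Finite G] (hR : Rank3 p G) (I : Subgroup G) [I.Normal] (x : Fin 4 → G)
    (hcomm : ∀ i j, ⁅x i, x j⁆ ∈ I) (hpow : ∀ i, x i ^ p ∈ I)
    (hind : ∀ a : Fin 4 → ℕ, x 0 ^ a 0 * x 1 ^ a 1 * x 2 ^ a 2 * x 3 ^ a 3 ∈ I →
      ∀ i, p ∣ a i) : False := by
  set y : Fin 4 → G ⧸ I := fun i => QuotientGroup.mk' I (x i) with hy
  have hyp : ∀ i, y i ^ p = 1 := fun i => by
    rw [hy, ← map_pow, QuotientGroup.mk'_apply, QuotientGroup.eq_one_iff]; exact hpow i
  have hyc : ∀ i j, Commute (y i) (y j) := fun i j => by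
    rw [commute_iff_eq, hy, ← commutatorElement_eq_one_iff_mul_comm, ← map_commutatorElement,
      QuotientGroup.mk'_apply, QuotientGroup.eq_one_iff]
    exact hcomm i j
  set A' := Subgroup.closure (Set.range y) with hA'
  have hA'c : IsMulCommutative A' := Subgroup.isMulCommutative_closure (by
    rintro _ ⟨i, rfl⟩ _ ⟨j, rfl⟩; exact hyc i j)
  have hA'p : ∀ a ∈ A', a ^ p = 1 := by
    intro a ha
    induction ha using Subgroup.closure_induction with
    | mem b hb => obtain ⟨i, rfl⟩ := hb; exact hyp i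
    | one => exact one_pow p
    | mul b c hb hc ihb ihc =>
      rw [(show Commute b c from congrArg Subtype.val (hA'c.is_comm.comm ⟨b, hb⟩ ⟨c, hc⟩)).mul_pow,
        ihb, ihc, one_mul]
    | inv b _ ihb => rw [inv_pow, ihb, inv_one]
  set A := A'.comap (QuotientGroup.mk' I) with hA
  have hIA : I ≤ A := fun i hi => by
    rw [hA, Subgroup.mem_comap, QuotientGroup.mk'_apply, (QuotientGroup.eq_one_iff i).2 hi]
    exact A'.one_mem
  have hcard := hR A I hIA (fun a ha b hb => by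
      rw [← QuotientGroup.eq_one_iff, ← QuotientGroup.mk'_apply, map_commutatorElement,
        commutatorElement_eq_one_iff_mul_comm]
      exact congrArg Subtype.val (hA'c.is_comm.comm ⟨_, ha⟩ ⟨_, hb⟩)) (fun a ha => by
      rw [← QuotientGroup.eq_one_iff, ← QuotientGroup.mk'_apply, map_pow]
      exact hA'p _ ha)
  have hAcard : Nat.card A = Nat.card A' * Nat.card I := by
    have h1 := A.index_mul_card
    rw [hA, Subgroup.index_comap_of_surjective _ (QuotientGroup.mk'_surjective I), ← hA,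
      I.card_eq_card_quotient_mul_card_subgroup, ← A'.index_mul_card, mul_assoc] at h1
    exact Nat.eq_of_mul_eq_mul_left (Nat.pos_of_ne_zero A'.index_ne_zero_of_finite) h1
  rw [hAcard] at hcard
  have hle := Nat.le_of_mul_le_mul_right hcard Nat.card_pos
  have hA'ge : p ^ 4 ≤ Nat.card A' := by
    have hm : ∀ i, y i ∈ A' := fun i => Subgroup.subset_closure ⟨i, rfl⟩
    let f : (Fin 4 → Fin p) → A' := fun a => ⟨y 0 ^ (a 0 : ℕ) * y 1 ^ (a 1 : ℕ) *
      y 2 ^ (a 2 : ℕ) * y 3 ^ (a 3 : ℕ), A'.mul_mem (A'.mul_mem (A'.mul_mem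
        (A'.pow_mem (hm 0) _) (A'.pow_mem (hm 1) _)) (A'.pow_mem (hm 2) _)) (A'.pow_mem (hm 3) _)⟩
    have hf : Function.Injective f := by
      intro a b hab
      have hab' := congrArg Subtype.val hab
      simp only [f] at hab'
      have hinv : ∀ i, y i ^ (b i : ℕ) * y i ^ (p - (b i : ℕ)) = 1 := fun i => by
        rw [← pow_add, Nat.add_sub_cancel' (b i).2.le, hyp]
      have hreorder : ∀ a b : Fin 4 → ℕ, y 0 ^ a 0 * y 1 ^ a 1 * y 2 ^ a 2 * y 3 ^ a 3 *
          (y 0 ^ b 0 * y 1 ^ b 1 * y 2 ^ b 2 * y 3 ^ b 3) = y 0 ^ (a 0 + b 0) *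
            y 1 ^ (a 1 + b 1) * y 2 ^ (a 2 + b 2) * y 3 ^ (a 3 + b 3) := by
        intro a b
        have c : ∀ i j, ∀ m n : ℕ, Commute (y i ^ m) (y j ^ n) := fun i j m n =>
          (hyc i j).pow_pow m n
        simp only [pow_add, mul_assoc]
        rw [(c 3 0 (a 3) (b 0)).left_comm, (c 2 0 (a 2) (b 0)).left_comm,
          (c 1 0 (a 1) (b 0)).left_comm, (c 3 1 (a 3) (b 1)).left_comm,
          (c 2 1 (a 2) (b 1)).left_comm, (c 3 2 (a 3) (b 2)).left_comm]
      have h1 := hreorder (fun i => (a i : ℕ)) (fun i => p - (b i : ℕ))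
      rw [hab', hreorder (fun i => (b i : ℕ)) (fun i => p - (b i : ℕ))] at h1
      simp only [pow_add, hinv, mul_one] at h1
      simp only [← pow_add, hy, ← map_pow, ← map_mul] at h1
      rw [QuotientGroup.mk'_apply, eq_comm, QuotientGroup.eq_one_iff] at h1
      funext i
      obtain ⟨c, hc⟩ := hind (fun j => (a j : ℕ) + (p - (b j : ℕ))) h1 i
      have := (a i).2
      have := (b i).2
      have hc2 : c < 2 := by
        by_contra h
        have := Nat.mul_le_mul_left p (Nat.le_of_not_lt h)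
        omega
      refine Fin.ext ?_
      rcases Nat.eq_zero_or_pos c with rfl | h0
      · omega
      · rw [show c = 1 by omega] at hc
        omega
    have := Nat.card_le_card_of_injective f hf
    rwa [Nat.card_fun, Nat.card_fin, Nat.card_fin] at this
  have := Nat.pow_lt_pow_right hp.out.one_lt (show 3 < 4 by norm_num)
  omega

/-! ### The frame -/

/-- A maximal subgroup `E` with coordinates on its Frattini quotient, and the action on them. -/
structure Frame (p : ℕ) (G : Type*) [Group G] where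
  E : Subgroup G
  Φ : Subgroup G
  q : G → V3 p
  T : G →* GL3 p
  normal : E.Normal
  index_eq : E.index = p
  le : Φ ≤ E
  q_mul : ∀ a ∈ E, ∀ b ∈ E, q (a * b) = q a + q b
  q_zero : ∀ a ∈ E, q a = 0 ↔ a ∈ Φ
  q_surj : ∀ v, ∃ a ∈ E, q a = v
  T_one : ∀ a ∈ E, T a = 1
  q_conj : ∀ g, ∀ a ∈ E, q (g * a * g⁻¹) = T g (q a)
  phi_le : ∀ L : Subgroup G, L.Normal → (∀ a ∈ E, ∀ b ∈ E, ⁅a, b⁆ ∈ L) → (∀ a ∈ E, a ^ p ∈ L) →
    Φ ≤ L

namespace Frame

variable (D : Frame p G)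

theorem q_one : D.q 1 = 0 := (D.q_zero 1 D.E.one_mem).2 D.Φ.one_mem

theorem q_inv {a : G} (ha : a ∈ D.E) : D.q a⁻¹ = -D.q a := by
  have h := D.q_mul a⁻¹ (D.E.inv_mem ha) a ha
  rw [inv_mul_cancel, D.q_one] at h
  exact eq_neg_of_add_eq_zero_left h.symm

theorem q_pow {a : G} (ha : a ∈ D.E) : ∀ n : ℕ, D.q (a ^ n) = (n : ZMod p) • D.q a
  | 0 => by rw [pow_zero, D.q_one, Nat.cast_zero, zero_smul]
  | n + 1 => by
    rw [pow_succ, D.q_mul _ (D.E.pow_mem ha n) a ha, q_pow ha n, Nat.cast_succ, add_smul,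
      one_smul]

theorem conj_mem {g a : G} (ha : a ∈ D.E) : g * a * g⁻¹ ∈ D.E := D.normal.conj_mem a ha g

theorem comm_mem_E {a : G} (g : G) (ha : a ∈ D.E) : ⁅g, a⁆ ∈ D.E := by
  rw [commutatorElement_def]
  exact D.E.mul_mem (D.conj_mem ha) (D.E.inv_mem ha)

theorem q_comm {a : G} (g : G) (ha : a ∈ D.E) : D.q ⁅g, a⁆ = D.T g (D.q a) - D.q a := by
  rw [commutatorElement_def, D.q_mul _ (D.conj_mem ha) _ (D.E.inv_mem ha), D.q_conj g a ha,
    D.q_inv ha, sub_eq_add_neg]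

theorem phi_normal : D.Φ.Normal := ⟨fun a ha g => (D.q_zero _ (D.conj_mem (D.le ha))).1 (by
  rw [D.q_conj g a (D.le ha), (D.q_zero a (D.le ha)).2 ha, map_zero])⟩

theorem comm_mem {a b : G} (ha : a ∈ D.E) (hb : b ∈ D.E) : ⁅a, b⁆ ∈ D.Φ := by
  rw [← D.q_zero _ (D.comm_mem_E a hb), D.q_comm a hb, D.T_one a ha]
  exact sub_self _

theorem pow_mem {a : G} (ha : a ∈ D.E) : a ^ p ∈ D.Φ := by
  rw [← D.q_zero _ (D.E.pow_mem ha p), D.q_pow ha, ZMod.natCast_self, zero_smul]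

theorem q_eq_iff {a b : G} (ha : a ∈ D.E) (hb : b ∈ D.E) : D.q a = D.q b ↔ a⁻¹ * b ∈ D.Φ := by
  rw [← D.q_zero _ (D.E.mul_mem (D.E.inv_mem ha) hb), D.q_mul _ (D.E.inv_mem ha) _ hb, D.q_inv ha,
    neg_add_eq_zero]

theorem map_phi_le (ξ : MulAut G) (L : Subgroup G) (hL : L.Normal)
    (hc : ∀ a ∈ D.E.map ξ.toMonoidHom, ∀ b ∈ D.E.map ξ.toMonoidHom, ⁅a, b⁆ ∈ L)
    (hpw : ∀ a ∈ D.E.map ξ.toMonoidHom, a ^ p ∈ L) : D.Φ.map ξ.toMonoidHom ≤ L := by
  rw [Subgroup.map_le_iff_le_comap]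
  refine D.phi_le _ (hL.comap _) (fun a ha b hb => ?_) fun a ha => ?_
  · rw [Subgroup.mem_comap, map_commutatorElement]
    exact hc _ ⟨a, ha, rfl⟩ _ ⟨b, hb, rfl⟩
  · rw [Subgroup.mem_comap, map_pow]
    exact hpw _ ⟨a, ha, rfl⟩

theorem pow_p_mem (g : G) : g ^ p ∈ D.E := by
  haveI := D.normal
  have h : (g : G ⧸ D.E) ^ D.E.index = 1 := pow_card_eq_one'
  rw [D.index_eq] at h
  rwa [← QuotientGroup.eq_one_iff, QuotientGroup.mk_pow]

theorem T_pow (g : G) : D.T g ^ p = 1 := by rw [← map_pow, D.T_one _ (D.pow_p_mem g)]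

/-- Everything is a product of an element of `E` and a power of any outside element. -/
theorem exists_decomp [Finite G] {n : G} (hn : n ∉ D.E) (g : G) :
    ∃ (i : ℕ) (a : G), a ∈ D.E ∧ g = a * n ^ i := by
  haveI := D.normal
  haveI : Fact (Nat.card (G ⧸ D.E)).Prime := ⟨by rw [← Subgroup.index_eq_card, D.index_eq]; exact hp.out⟩
  have hn1 : (n : G ⧸ D.E) ≠ 1 := fun h => hn ((QuotientGroup.eq_one_iff n).1 h)
  obtain ⟨i, hi⟩ := (mem_powers_iff_mem_zpowers (x := (n : G ⧸ D.E))).2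
    (mem_zpowers_of_prime_card (G := G ⧸ D.E) rfl hn1 (g' := (g : G ⧸ D.E)))
  refine ⟨i, g * (n ^ i)⁻¹, ?_, by group⟩
  rw [← QuotientGroup.eq_one_iff, QuotientGroup.mk_mul, QuotientGroup.mk_inv,
    QuotientGroup.mk_pow, mul_inv_eq_one]
  exact hi.symm

theorem q_mul_pow {a g : G} (ha : a ∈ D.E) :
    ∀ k : ℕ, ∃ b ∈ D.E, (a * g) ^ k = b * g ^ k ∧
      D.q b = ∑ i ∈ Finset.range k, (D.T g ^ i) (D.q a)
  | 0 => ⟨1, D.E.one_mem, by simp, by rw [D.q_one]; simp⟩
  | k + 1 => by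
    obtain ⟨b, hb, hk, hq⟩ := q_mul_pow ha (g := g) k
    refine ⟨b * (g ^ k * a * (g ^ k)⁻¹), D.E.mul_mem hb (D.conj_mem ha), ?_, ?_⟩
    · rw [pow_succ, hk, pow_succ]
      group
    · rw [D.q_mul _ hb _ (D.conj_mem ha), D.q_conj _ a ha, hq, map_pow, Finset.sum_range_succ]

/-- The `p`-th power of an element outside `E` only depends on its coset. -/
theorem q_mul_pow_p (hp5 : 5 ≤ p) {a g : G} (ha : a ∈ D.E) :
    D.q ((a * g) ^ p) = D.q (g ^ p) := by
  obtain ⟨b, hb, hk, hq⟩ := D.q_mul_pow ha (g := g) p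
  rw [hk, D.q_mul _ hb _ (D.pow_p_mem g), hq, add_eq_right]
  have hT : ∀ i : ℕ, (D.T g ^ i) (D.q a) =
      (((D.T g : V3 p →ₗ[ZMod p] V3 p) : Module.End (ZMod p) (V3 p)) ^ i) (D.q a) := fun i => by
    rw [← toLinearMap_pow]; rfl
  simp only [hT, ← LinearMap.sum_apply]
  set A : Module.End (ZMod p) (V3 p) := (D.T g : V3 p →ₗ[ZMod p] V3 p) with hA
  have h3 : (A - 1) ^ 3 = 0 := by
    refine LinearMap.ext fun v => ?_
    simp only [pow_succ, pow_zero, one_mul, Module.End.mul_apply, LinearMap.sub_apply,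
      Module.End.one_apply, map_sub, hA, LinearEquiv.coe_coe, LinearMap.zero_apply]
    have h := cube_zero (k := 1) (by rw [pow_one]; exact D.T_pow g) v
    simp only [map_sub] at h
    exact h
  have hgeom : ∑ i ∈ Finset.range p, A ^ i = (A - 1) ^ (p - 1) := by
    have key : ∑ i ∈ Finset.range p, (Polynomial.X : Polynomial (ZMod p)) ^ i =
        (Polynomial.X - 1) ^ (p - 1) := by
      refine mul_right_cancel₀ (b := (Polynomial.X - 1 : Polynomial (ZMod p))) ?_ ?_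
      · exact Polynomial.X_sub_C_ne_zero 1
      · rw [geom_sum_mul, ← pow_succ, Nat.sub_add_cancel hp.out.one_le, sub_pow_char, one_pow]
    have := congrArg (Polynomial.aeval A) key
    simpa [map_sum] using this
  rw [hgeom, pow_eq_zero_of_le (by omega) h3, LinearMap.zero_apply]

end Frame

end Cfsg.Agent.Invol.EssThree
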