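import Cfsg.Agent.Lib.Invol.EssThree.Basic

/-!
# A group of degree three over `ZMod p` with a strongly `p`-embedded subgroup

Its Sylow `p`-subgroups have order `p`; it is irreducible when they are generated by regular
unipotent elements, and otherwise it contains a torus of a root `SL(2, p)`.
-/

set_option autoImplicit false
set_option linter.style.haveILetI false
set_option linter.unusedSectionVars false

namespace Cfsg.Agent.Invol.EssThree

open Module

variable {p : ℕ} [hp : Fact p.Prime]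

/-- The consequences of strong embedding used below. -/
structure Emb (p : ℕ) (X Y : Subgroup (GL3 p)) : Prop where
  le : Y ≤ X
  moves : ∀ g ∈ X, g ∉ Y → ∀ z ∈ Y, z ^ p = 1 → g * z * g⁻¹ ∈ Y → z = 1
  out : ∃ g ∈ X, g ∉ Y
  pgroup : ∀ Q ≤ X, IsPGroup p Q → ∀ z ∈ Q, z ∈ Y → z ^ p = 1 → z ≠ 1 → Q ≤ Y
  sylow : ∀ Q ≤ X, IsPGroup p Q → ∃ g ∈ X, ∀ z ∈ Q, g * z * g⁻¹ ∈ Y

theorem eq_one_or_orderOf {G : Type*} [Group G] {z : G} (hz : z ^ p = 1) :
    z = 1 ∨ orderOf z = p := by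
  rcases (Nat.dvd_prime hp.out).1 (orderOf_dvd_of_pow_eq_one hz) with h | h
  · exact Or.inl (orderOf_eq_one_iff.1 h)
  · exact Or.inr h

/-- Commuting elements of order `p` generate a `p`-group. -/
theorem isPGroup_closure_pair {G : Type*} [Group G] {z w : G} (hzp : z ^ p = 1) (hwp : w ^ p = 1)
    (hc : z * w = w * z) : IsPGroup p (Subgroup.closure ({z, w} : Set G)) := by
  have hcomm := Subgroup.isMulCommutative_closure (k := ({z, w} : Set G)) (by
    rintro a (rfl | rfl) b (rfl | rfl)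
    · rfl
    · exact hc
    · exact hc.symm
    · rfl)
  intro x
  refine ⟨1, Subtype.ext ?_⟩
  rw [pow_one, SubmonoidClass.coe_pow, Subgroup.coe_one]
  obtain ⟨x, hx⟩ := x
  show x ^ p = 1
  induction hx using Subgroup.closure_induction with
  | mem a ha =>
    rcases ha with rfl | rfl
    · exact hzp
    · exact hwp
  | one => exact one_pow p
  | mul a b ha hb iha ihb =>
    have h : Commute a b := congrArg Subtype.val (hcomm.is_comm.comm ⟨a, ha⟩ ⟨b, hb⟩)
    rw [h.mul_pow, iha, ihb, one_mul]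
  | inv a _ iha => rw [inv_pow, iha, inv_one]

variable {X Y : Subgroup (GL3 p)}

namespace Emb

variable (hE : Emb p X Y)
include hE

theorem comm_mem {z w : GL3 p} (hzY : z ∈ Y) (hwX : w ∈ X) (hzp : z ^ p = 1) (hz : z ≠ 1)
    (hwp : w ^ p = 1) (hc : z * w = w * z) : w ∈ Y :=
  hE.pgroup _ ((Subgroup.closure_le X).2 (Set.pair_subset (hE.le hzY) hwX))
    (isPGroup_closure_pair hzp hwp hc) z (Subgroup.subset_closure (Or.inl rfl)) hzY hzp hz
    (Subgroup.subset_closure (Or.inr rfl))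

/-- No nontrivial `p`-subgroup is normalized by `X`. -/
theorem no_normal {K : Subgroup (GL3 p)} (hKX : K ≤ X) (hK : IsPGroup p K)
    (hn : ∀ g ∈ X, ∀ k ∈ K, g * k * g⁻¹ ∈ K) : K = ⊥ := by
  by_contra hne
  obtain ⟨z, hz, hz1⟩ : ∃ z ∈ K, z ≠ 1 := (Subgroup.bot_or_exists_ne_one K).resolve_left hne
  obtain ⟨i, hi⟩ := hK ⟨z, hz⟩
  have hzi : z ^ p ^ i = 1 := congrArg Subtype.val hi
  obtain ⟨g, hg, hgY⟩ := hE.sylow K hKX hK
  have hle : K ≤ Y := fun k hk => by
    have h := hgY _ (hn g⁻¹ (X.inv_mem hg) k hk)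
    rwa [show g * (g⁻¹ * k * g⁻¹⁻¹) * g⁻¹ = k by group] at h
  obtain ⟨w, hw, hw1, hwp⟩ : ∃ w ∈ K, w ≠ 1 ∧ w ^ p = 1 := by
    obtain ⟨j, -, hj⟩ := (Nat.dvd_prime_pow hp.out).1 (orderOf_dvd_of_pow_eq_one hzi)
    obtain ⟨l, rfl⟩ : ∃ l, j = l + 1 :=
      Nat.exists_eq_succ_of_ne_zero fun h => hz1 (orderOf_eq_one_iff.1 (by rw [hj, h, pow_zero]))
    refine ⟨z ^ p ^ l, K.pow_mem hz _, fun h => ?_, ?_⟩
    · have := Nat.le_of_dvd (pow_pos hp.out.pos _) (hj ▸ orderOf_dvd_of_pow_eq_one h)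
      exact absurd this (not_le.2 (Nat.pow_lt_pow_right hp.out.one_lt l.lt_succ_self))
    · rw [← pow_mul, ← pow_succ, ← hj, pow_orderOf_eq_one]
  obtain ⟨k, hk, hkY⟩ := hE.out
  exact hw1 (hE.moves k hk hkY w (hle hw) hwp (hle (hn k hk w hw)))

theorem exists_conj_not_mem {τ : GL3 p} (hτX : τ ∈ X) (hτ : τ ≠ 1) (hτp : τ ^ p = 1) :
    ∃ g ∈ X, g * τ * g⁻¹ ∉ Subgroup.zpowers τ := by
  by_contra h
  push Not at h
  have hb := hE.no_normal (Subgroup.zpowers_le.2 hτX) (K := Subgroup.zpowers τ) ?_ ?_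
  · exact hτ (Subgroup.zpowers_eq_bot.1 hb)
  · intro x
    obtain ⟨i, hi⟩ := x.2
    refine ⟨1, Subtype.ext ?_⟩
    rw [pow_one, SubmonoidClass.coe_pow, ← hi, Subgroup.coe_one]
    show (τ ^ i) ^ p = 1
    rw [← zpow_natCast (τ ^ i), zpow_comm, zpow_natCast, hτp, one_zpow]
  · rintro g hg _ ⟨i, rfl⟩
    show g * τ ^ i * g⁻¹ ∈ _
    rw [← conj_zpow]
    exact Subgroup.zpow_mem _ (h g hg) i

/-- Two transvections with the same centre and independent functionals. -/
theorem no_centre_pair {z1 z2 : GL3 p} {φ ψ : Dual (ZMod p) (V3 p)} {c : V3 p} (h1 : z1 ∈ Y)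
    (h2 : z2 ∈ Y) (hz1 : IsTv z1 φ c) (hz2 : IsTv z2 ψ c)
    (hind : ∀ a b : ZMod p, a • φ + b • ψ = 0 → a = 0 ∧ b = 0) : False := by
  have key : ∀ x : V3 p, ∃ w ∈ Y, ∃ θ : Dual (ZMod p) (V3 p), IsTv w θ c ∧ θ x = 0 := by
    intro x
    obtain ⟨a, b, hne, h0⟩ := exists_comb (Dual.eval (ZMod p) (V3 p) x) φ ψ hind
    refine ⟨z1 ^ a.val * z2 ^ b.val, Y.mul_mem (Y.pow_mem h1 _) (Y.pow_mem h2 _), a • φ + b • ψ,
      ⟨by simp [hz1.vanish, hz2.vanish], hne, hz1.centre_ne, fun v => ?_⟩, h0⟩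
    rw [LinearEquiv.mul_apply, hz2.pow_apply, map_add, map_smul, pow_fix hz1.fix_centre,
      hz1.pow_apply, ZMod.natCast_zmod_val, ZMod.natCast_zmod_val, LinearMap.add_apply,
      LinearMap.smul_apply, LinearMap.smul_apply, smul_eq_mul, smul_eq_mul, add_smul]
    abel
  obtain ⟨g, hg, hgY⟩ := hE.out
  obtain ⟨w, hw, θ, hwt, hw0⟩ := key (g c)
  obtain ⟨w', hw', θ', hwt', hw0'⟩ := key (g.symm c)
  have hconj := hwt'.conj g
  have hmem : g * w' * g⁻¹ ∈ Y := hE.comm_mem hw
    (X.mul_mem (X.mul_mem hg (hE.le hw')) (X.inv_mem hg)) hwt.pow_p hwt.ne_one hconj.pow_p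
    (hwt.apply_centre_comm hconj hw0 hw0')
  exact hwt'.ne_one (hE.moves g hg hgY w' hw' hwt'.pow_p hmem)

/-- Two transvections with the same axis and independent centres. -/
theorem no_axis_pair {z1 z2 : GL3 p} {φ : Dual (ZMod p) (V3 p)} {c d : V3 p} (h1 : z1 ∈ Y)
    (h2 : z2 ∈ Y) (hz1 : IsTv z1 φ c) (hz2 : IsTv z2 φ d)
    (hind : ∀ a b : ZMod p, a • c + b • d = 0 → a = 0 ∧ b = 0) : False := by
  have key : ∀ f : Dual (ZMod p) (V3 p), ∃ w ∈ Y, ∃ e, IsTv w φ e ∧ f e = 0 := by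
    intro f
    obtain ⟨a, b, hne, h0⟩ := exists_comb f c d hind
    refine ⟨z1 ^ a.val * z2 ^ b.val, Y.mul_mem (Y.pow_mem h1 _) (Y.pow_mem h2 _), a • c + b • d,
      ⟨by simp [hz1.vanish, hz2.vanish], hz1.phi_ne, hne, fun v => ?_⟩, h0⟩
    rw [LinearEquiv.mul_apply, hz2.pow_apply, map_add, map_smul, hz1.pow_apply, hz1.pow_apply,
      ZMod.natCast_zmod_val, ZMod.natCast_zmod_val, hz2.vanish, mul_zero, zero_smul, add_zero,
      smul_add, smul_smul, smul_smul, mul_comm (φ v) a, mul_comm (φ v) b]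
    abel
  obtain ⟨g, hg, hgY⟩ := hE.out
  set φ' : Dual (ZMod p) (V3 p) := φ ∘ₗ ((g⁻¹ : GL3 p) : V3 p →ₗ[ZMod p] V3 p) with hφ'
  obtain ⟨w, hw, e, hwt, hw0⟩ := key φ'
  obtain ⟨w', hw', e', hwt', hw0'⟩ := key (φ ∘ₗ (g : V3 p →ₗ[ZMod p] V3 p))
  have hconj := hwt'.conj g
  have hmem : g * w' * g⁻¹ ∈ Y := hE.comm_mem hw
    (X.mul_mem (X.mul_mem hg (hE.le hw')) (X.inv_mem hg)) hwt.pow_p hwt.ne_one hconj.pow_p
    (hwt.apply_centre_comm hconj hw0' hw0)
  exact hwt'.ne_one (hE.moves g hg hgY w' hw' hwt'.pow_p hmem)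

/-- Commuting transvections of `X` generate a group of order `p`. -/
theorem no_pair {z1 z2 : GL3 p} {φ ψ : Dual (ZMod p) (V3 p)} {c d : V3 p} (h1 : z1 ∈ X)
    (h2 : z2 ∈ X) (hz1 : IsTv z1 φ c) (hz2 : IsTv z2 ψ d) (hc : z1 * z2 = z2 * z1) :
    ∃ k : ℕ, z2 = z1 ^ k := by
  obtain ⟨g, hg, hgY⟩ := hE.sylow _ ((Subgroup.closure_le X).2 (Set.pair_subset h1 h2))
    (isPGroup_closure_pair hz1.pow_p hz2.pow_p hc)
  by_contra hno
  push Not at hno
  have hy1 := hgY z1 (Subgroup.subset_closure (Or.inl rfl))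
  have hy2 := hgY z2 (Subgroup.subset_closure (Or.inr rfl))
  have e : ∀ v, ψ v • (φ d • c) = φ v • (ψ c • d) := fun v => by
    have h := LinearEquiv.congr_fun hc v
    simp only [LinearEquiv.mul_apply, hz1.apply_eq, hz2.apply_eq, map_add, map_smul,
      smul_eq_mul, add_smul, ← smul_smul] at h
    rw [show v + ψ v • d + (φ v • c + ψ v • φ d • c) = v + ψ v • d + φ v • c + ψ v • φ d • c by
      abel, show v + φ v • c + (ψ v • d + φ v • ψ c • d) = v + ψ v • d + φ v • c + φ v • ψ c • d by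
      abel] at h
    exact add_left_cancel h
  by_cases hcd : ∃ k : ZMod p, d = k • c
  · obtain ⟨k, rfl⟩ := hcd
    have hk : k ≠ 0 := fun h => hz2.centre_ne (by rw [h, zero_smul])
    have hz2' : IsTv z2 (k • ψ) c := ⟨by
        have := hz2.vanish
        rwa [map_smul] at this, smul_ne_zero hk hz2.phi_ne, hz1.centre_ne, fun v => by
        rw [hz2.apply_eq, LinearMap.smul_apply, smul_eq_mul, smul_smul, mul_comm]⟩
    refine hE.no_centre_pair hy1 hy2 (hz1.conj g) (hz2'.conj g) fun a b hab => ?_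
    have hab' : a • φ + b • (k • ψ) = 0 := LinearMap.ext fun v => by
      have h := LinearMap.congr_fun hab (g v)
      simp only [LinearMap.add_apply, LinearMap.smul_apply, LinearMap.comp_apply,
        LinearMap.zero_apply] at h ⊢
      rw [show ((g⁻¹ : GL3 p) : V3 p →ₗ[ZMod p] V3 p) (g v) = v from g.symm_apply_apply v] at h
      exact h
    have hb : b = 0 := by
      by_contra hb
      refine hno (-(a * b⁻¹)).val (LinearEquiv.ext fun v => ?_)
      have h := LinearMap.congr_fun hab' v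
      simp only [LinearMap.add_apply, LinearMap.smul_apply, LinearMap.zero_apply, smul_eq_mul] at h
      rw [hz2.apply_eq, hz1.pow_apply, ZMod.natCast_zmod_val, smul_smul]
      congr 2
      field_simp
      linear_combination h
    refine ⟨?_, hb⟩
    rw [hb, zero_smul, add_zero] at hab'
    exact (smul_eq_zero.1 hab').resolve_right hz1.phi_ne
  push Not at hcd
  have hind : ∀ a b : ZMod p, a • c + b • d = 0 → a = 0 ∧ b = 0 := fun a b hab => by
    have hb : b = 0 := by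
      by_contra hb
      refine hcd (-(b⁻¹ * a)) ?_
      have h := congrArg (fun x => b⁻¹ • x) hab
      simp only [smul_add, smul_smul, inv_mul_cancel₀ hb, one_smul, smul_zero] at h
      rw [neg_smul, eq_neg_iff_add_eq_zero, add_comm]
      exact h
    rw [hb, zero_smul, add_zero] at hab
    exact ⟨(smul_eq_zero.1 hab).resolve_right hz1.centre_ne, hb⟩
  obtain ⟨v1, hv1⟩ := hz1.exists_value
  have e1 := e v1
  rw [hv1, one_smul, smul_smul] at e1
  obtain ⟨-, hψc⟩ := hind (ψ v1 * φ d) (-ψ c) (by rw [e1, neg_smul, add_neg_cancel])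
  have hψc : ψ c = 0 := neg_eq_zero.1 hψc
  obtain ⟨v2, hv2⟩ := hz2.exists_value
  have e2 := e v2
  rw [hv2, one_smul, hψc, zero_smul, smul_zero, smul_eq_zero] at e2
  have hφd : φ d = 0 := e2.resolve_right hz1.centre_ne
  have hli : LinearIndependent (ZMod p) ![c, d, v1] := by
    rw [Fintype.linearIndependent_iff]
    intro f hf
    simp only [Fin.sum_univ_three, Matrix.cons_val_zero, Matrix.cons_val_one,
      Matrix.cons_val] at hf
    have h := congrArg φ hf
    simp only [map_add, map_smul, hz1.vanish, hφd, hv1, smul_eq_mul, mul_zero, zero_add,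
      mul_one, map_zero] at h
    rw [h, zero_smul, add_zero] at hf
    obtain ⟨f0, f1⟩ := hind _ _ hf
    intro i
    fin_cases i <;> assumption
  have hψ : ψ = ψ v1 • φ := LinearMap.ext fun x => by
    obtain ⟨a, b, k, rfl⟩ := span_three hli x
    simp only [LinearMap.smul_apply, map_add, map_smul, hψc, hz2.vanish, hz1.vanish, hφd, hv1,
      smul_eq_mul]
    ring
  have hs : ψ v1 ≠ 0 := fun h => hz2.phi_ne (by rw [hψ, h, zero_smul])
  have hz2' : IsTv z2 φ (ψ v1 • d) := ⟨by rw [map_smul, hφd, smul_zero], hz1.phi_ne,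
    smul_ne_zero hs hz2.centre_ne, fun v => by
      rw [hz2.apply_eq, smul_smul]
      congr 2
      conv_lhs => rw [hψ]
      rw [LinearMap.smul_apply, smul_eq_mul, mul_comm]⟩
  refine hE.no_axis_pair hy1 hy2 (hz1.conj g) (hz2'.conj g) fun a b hab => ?_
  rw [← map_smul g a c, ← map_smul g b, ← map_add, LinearEquiv.map_eq_zero_iff, smul_smul] at hab
  obtain ⟨ha, hb⟩ := hind _ _ hab
  exact ⟨ha, (mul_eq_zero.1 hb).resolve_right hs⟩

/-- Incident transvections of `X` have the same centre. -/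
theorem centre_of_incident {z1 z2 : GL3 p} {φ ψ : Dual (ZMod p) (V3 p)} {c d : V3 p}
    (h1 : z1 ∈ X) (h2 : z2 ∈ X) (hz1 : IsTv z1 φ c) (hz2 : IsTv z2 ψ d) (h0 : φ d = 0) :
    ∃ k : ZMod p, d = k • c := by
  have hfin : ∀ {w : GL3 p} {θ : Dual (ZMod p) (V3 p)} (k : ℕ), IsTv w θ d → w = z1 ^ k →
      ∃ l : ZMod p, d = l • c := by
    intro w θ k hw hk
    obtain ⟨v, hv⟩ := hw.exists_value
    refine ⟨(k : ZMod p) * φ v, ?_⟩
    have h := hw.apply_eq v
    rw [hk, hz1.pow_apply, hv, one_smul] at h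
    exact (add_left_cancel h).symm
  by_cases hψc : ψ c = 0
  · obtain ⟨k, hk⟩ := hE.no_pair h1 h2 hz1 hz2 (hz1.apply_centre_comm hz2 h0 hψc)
    exact hfin k hz2 hk
  · set w := z1 * z2 * z1⁻¹ * z2⁻¹ with hw
    have hzd : z1 d = d := by rw [hz1.apply_eq, h0, zero_smul, add_zero]
    have hform : IsTv w ((-ψ c) • φ) d := by
      refine ⟨by simp [h0], smul_ne_zero (neg_ne_zero.2 hψc) hz1.phi_ne, hz2.centre_ne, fun v => ?_⟩
      obtain ⟨y, rfl⟩ : ∃ y, v = z2 (z1 y) :=
        ⟨z1.symm (z2.symm v), by rw [z1.apply_symm_apply, z2.apply_symm_apply]⟩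
      have hstep : w (z2 (z1 y)) = z1 (z2 y) := by
        show z1 (z2 (z1.symm (z2.symm (z2 (z1 y))))) = z1 (z2 y)
        rw [z2.symm_apply_apply, z1.symm_apply_apply]
      rw [hstep, hz2.apply_eq y, map_add, map_smul, hzd, hz2.apply_eq (z1 y)]
      simp only [hz1.apply_eq, map_add, map_smul, LinearMap.smul_apply, smul_eq_mul, h0,
        hz1.vanish, mul_zero, add_zero, add_smul, ← smul_smul, neg_smul, smul_neg]
      rw [smul_comm (φ y) (ψ c) d]
      abel
    obtain ⟨k, hk⟩ := hE.no_pair h1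
      (X.mul_mem (X.mul_mem (X.mul_mem h1 h2) (X.inv_mem h1)) (X.inv_mem h2)) hz1 hform
      (hz1.apply_centre_comm hform h0 (by simp [hz1.vanish]))
    exact hfin k hform hk

/-- A transvection and an element of order `p` commuting with it. -/
theorem commute_transvection {z y : GL3 p} {φ : Dual (ZMod p) (V3 p)} {c : V3 p} (hzX : z ∈ X)
    (hyX : y ∈ X) (hz : IsTv z φ c) (hyp : y ^ p = 1) (hcomm : z * y = y * z) :
    y ∈ Subgroup.zpowers z := by
  by_contra hy
  have hnotv : ∀ ψ d, ¬ IsTv y ψ d := fun ψ d h => by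
    obtain ⟨k, hk⟩ := hE.no_pair hzX hyX hz h hcomm
    exact hy (hk ▸ Subgroup.pow_mem _ (Subgroup.mem_zpowers z) k)
  have hy1 : y ≠ 1 := fun h => hy (h ▸ Subgroup.one_mem _)
  obtain ⟨N, hN⟩ : ∃ N : V3 p →ₗ[ZMod p] V3 p, ∀ v, N v = y v - v :=
    ⟨(y : V3 p →ₗ[ZMod p] V3 p) - LinearMap.id, fun v => rfl⟩
  have hcube : ∀ v, N (N (N v)) = 0 := fun v => by
    simp only [hN, map_sub]
    have h := cube_zero (k := 1) (by rw [pow_one]; exact hyp) v
    simp only [map_sub] at h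
    exact h
  have he : ∀ v, φ v • y c = φ (y v) • c := fun v => by
    have h := LinearEquiv.congr_fun hcomm v
    simp only [LinearEquiv.mul_apply, hz.apply_eq, map_add, map_smul] at h
    exact (add_left_cancel h).symm
  obtain ⟨v0, hv0⟩ := hz.exists_value
  have hNc : N c = (φ (y v0) - 1) • c := by
    have h := he v0
    rw [hv0, one_smul] at h
    rw [hN, h, sub_smul, one_smul]
  have hN0 : φ (y v0) - 1 = 0 := by
    have h := hcube c
    simp only [hNc, map_smul, smul_smul, smul_eq_zero, mul_eq_zero, hz.centre_ne, or_false] at h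
    tauto
  have hyc : y c = c := by
    rw [hN0, zero_smul, hN] at hNc
    exact sub_eq_zero.1 hNc
  have hφy : ∀ v, φ (y v) = φ v := fun v => by
    have h := he v
    rw [hyc] at h
    exact (smul_left_injective (ZMod p) hz.centre_ne h).symm
  obtain ⟨g, hg, hgz⟩ := hE.exists_conj_not_mem hzX hz.ne_one hz.pow_p
  have hz'X : g * z * g⁻¹ ∈ X := X.mul_mem (X.mul_mem hg hzX) (X.inv_mem hg)
  obtain ⟨φ', c', hz'⟩ : ∃ φ' c', IsTv (g * z * g⁻¹) φ' c' := ⟨_, _, hz.conj g⟩
  have hnotc : ∀ k : ZMod p, c' ≠ k • c := by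
    intro k hk
    have h0 : φ c' = 0 := by rw [hk, map_smul, hz.vanish, smul_zero]
    have h0' : φ' c = 0 := by
      by_contra hne
      have := hz'.vanish
      rw [hk, map_smul, smul_eq_mul, mul_eq_zero] at this
      exact hne (this.resolve_left fun hk0 => hz'.centre_ne (by rw [hk, hk0, zero_smul]))
    obtain ⟨n, hn⟩ := hE.no_pair hzX hz'X hz hz' (hz.apply_centre_comm hz' h0 h0')
    exact hgz (hn ▸ Subgroup.pow_mem _ (Subgroup.mem_zpowers z) n)
  have hφc' : φ c' ≠ 0 := fun h0 => by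
    obtain ⟨k, hk⟩ := hE.centre_of_incident hzX hz'X hz hz' h0
    exact hnotc k hk
  have hz2 := hz'.conj y
  set φ2 : Dual (ZMod p) (V3 p) := φ' ∘ₗ ((y⁻¹ : GL3 p) : V3 p →ₗ[ZMod p] V3 p) with hφ2
  have hz2X : y * (g * z * g⁻¹) * y⁻¹ ∈ X := X.mul_mem (X.mul_mem hyX hz'X) (X.inv_mem hyX)
  obtain ⟨α, β, hP⟩ : ∃ α β : ZMod p, y c' = α • c + β • c' := by
    by_cases hd : φ2 c = 0
    · obtain ⟨k, hk⟩ := hE.centre_of_incident hz2X hzX hz2 hz hd
      have hk0 : k ≠ 0 := fun h => hz.centre_ne (by rw [hk, h, zero_smul])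
      exact ⟨k⁻¹, 0, by rw [zero_smul, add_zero, hk, smul_smul, inv_mul_cancel₀ hk0, one_smul]⟩
    · set k : ZMod p := -(φ2 c' * (φ2 c)⁻¹)
      set n : ℕ := (k * (φ c')⁻¹).val
      have hd' : (z ^ n) c' = c' + k • c := by
        rw [hz.pow_apply, ZMod.natCast_zmod_val, inv_mul_cancel_right₀ hφc']
      have hz3 := hz'.conj (z ^ n)
      rw [hd'] at hz3
      have h0 : φ2 (c' + k • c) = 0 := by
        rw [map_add, map_smul, smul_eq_mul, neg_mul, inv_mul_cancel_right₀ hd, add_neg_cancel]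
      obtain ⟨l, hl⟩ := hE.centre_of_incident hz2X (X.mul_mem (X.mul_mem (X.pow_mem hzX n) hz'X)
        (X.inv_mem (X.pow_mem hzX n))) hz2 hz3 h0
      have hl0 : l ≠ 0 := fun h => hnotc (-k) (by
        rw [h, zero_smul] at hl
        rw [neg_smul]
        exact eq_neg_of_add_eq_zero_left hl)
      refine ⟨l⁻¹ * k, l⁻¹, ?_⟩
      have h := congrArg (fun x => l⁻¹ • x) hl
      simp only [smul_smul, inv_mul_cancel₀ hl0, one_smul, smul_add] at h
      rw [add_comm]
      exact h.symm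
  have hβ : β = 1 := by
    have h := congrArg φ hP
    rw [hφy, map_add, map_smul, map_smul, hz.vanish, smul_zero, zero_add, smul_eq_mul] at h
    exact (mul_eq_right₀ hφc').1 h.symm
  obtain ⟨f, hf0, hf1, hf2⟩ := exists_common_zero φ φ'
  have hli : LinearIndependent (ZMod p) ![c, c', f] := by
    rw [Fintype.linearIndependent_iff]
    intro a ha
    simp only [Fin.sum_univ_three, Matrix.cons_val_zero, Matrix.cons_val_one, Matrix.cons_val]
      at ha
    have hφ'c : φ' c ≠ 0 := fun h0 => by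
      obtain ⟨k, hk⟩ := hE.centre_of_incident hz'X hzX hz' hz h0
      have hk0 : k ≠ 0 := fun h => hz.centre_ne (by rw [hk, h, zero_smul])
      exact hnotc k⁻¹ (by rw [hk, smul_smul, inv_mul_cancel₀ hk0, one_smul])
    have h1 := congrArg φ ha
    have h2 := congrArg φ' ha
    simp only [map_add, map_smul, hz.vanish, hz'.vanish, hf1, hf2, smul_eq_mul, mul_zero,
      add_zero, zero_add, map_zero, mul_eq_zero, hφc', hφ'c, or_false] at h1 h2
    rw [h1, h2, zero_smul, zero_smul, zero_add, zero_add, smul_eq_zero] at ha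
    intro i
    fin_cases i
    · exact h2
    · exact h1
    · exact ha.resolve_right hf0
  obtain ⟨a, b, d, hNf⟩ := span_three hli (N f)
  have hb : b = 0 := by
    have h := congrArg φ hNf
    rw [hN, map_sub, hφy, sub_self] at h
    simp only [map_add, map_smul, hz.vanish, hf1, smul_eq_mul, mul_zero, add_zero, zero_add] at h
    exact (mul_eq_zero.1 h.symm).resolve_right hφc'
  rw [hb, zero_smul, add_zero] at hNf
  have hNc0 : N c = 0 := by rw [hN, hyc, sub_self]
  have hd : d = 0 := by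
    have h := hcube f
    simp only [hNf, map_add, map_smul, hNc0, smul_zero, zero_add, smul_add, smul_smul] at h
    have h3 := Fintype.linearIndependent_iff.1 hli ![d * d * a, 0, d * d * d] (by
      simp only [Fin.sum_univ_three, Matrix.cons_val_zero, Matrix.cons_val_one, Matrix.cons_val,
        zero_smul, add_zero]
      exact h) 2
    simpa using h3
  rw [hd, zero_smul, add_zero] at hNf
  have hNc' : N c' = α • c := by
    rw [hN, hP, hβ, one_smul, add_sub_cancel_right]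
  obtain ⟨ψ, d', hψ⟩ := exists_isTv hy1 fun v => by
    obtain ⟨u, v', w, rfl⟩ := span_three hli v
    rw [← hN, ← hN]
    simp [map_add, map_smul, hNc0, hNc', hNf]
  exact hnotv ψ d' hψ

/-- The `p`-subgroups of `X` have order at most `p`. -/
theorem card_le {Q : Subgroup (GL3 p)} (hp3 : 3 ≤ p) (hQX : Q ≤ X) (hQ : IsPGroup p Q) :
    Nat.card Q ≤ p := by
  by_contra hlt
  push Not at hlt
  have hexp : ∀ g ∈ Q, g ^ p = 1 := fun g hg => by
    obtain ⟨k, hk⟩ := hQ ⟨g, hg⟩
    exact pow_p_eq_one hp3 (cube_zero (congrArg Subtype.val hk : g ^ p ^ k = 1))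
  have hout : ∀ z ∈ Q, ∃ y ∈ Q, y ∉ Subgroup.zpowers z := by
    intro z hz
    by_contra h
    push Not at h
    have := Subgroup.card_le_of_le h
    rw [Nat.card_zpowers] at this
    exact absurd (this.trans (orderOf_le_of_pow_eq_one hp.out.pos (hexp z hz))) (not_le.2 hlt)
  haveI : Nontrivial Q := Finite.one_lt_card_iff_nontrivial.1 (hp.out.one_lt.trans hlt)
  haveI := hQ.center_nontrivial
  obtain ⟨⟨w, hwc⟩, hw1⟩ := exists_ne (1 : Subgroup.center Q)
  have hwQ : (w : GL3 p) ∈ Q := w.2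
  have hwne : (w : GL3 p) ≠ 1 := fun h => hw1 (Subtype.ext (Subtype.ext h))
  have hwcomm : ∀ y ∈ Q, (w : GL3 p) * y = y * w := fun y hy =>
    (congrArg Subtype.val (Subgroup.mem_center_iff.1 hwc ⟨y, hy⟩)).symm
  obtain ⟨y, hyQ, hyw⟩ := hout _ hwQ
  by_cases hsq : ∀ v, (w : GL3 p) ((w : GL3 p) v - v) - ((w : GL3 p) v - v) = 0
  · obtain ⟨φ, c, hz⟩ := exists_isTv hwne hsq
    exact hyw (hE.commute_transvection (hQX hwQ) (hQX hyQ) hz (hexp y hyQ) (hwcomm y hyQ))
  push Not at hsq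
  obtain ⟨v, hv⟩ := hsq
  obtain ⟨N, hN⟩ : ∃ N : V3 p →ₗ[ZMod p] V3 p, ∀ u, N u = (w : GL3 p) u - u :=
    ⟨((w : GL3 p) : V3 p →ₗ[ZMod p] V3 p) - LinearMap.id, fun u => rfl⟩
  have hv2 : N (N v) ≠ 0 := by rwa [hN, hN]
  have hcube : ∀ u, N (N (N u)) = 0 := fun u => by
    simp only [hN, map_sub]
    have h := cube_zero (k := 1) (by rw [pow_one]; exact hexp _ hwQ) u
    simp only [map_sub] at h
    exact h
  have hli : LinearIndependent (ZMod p) ![v, N v, N (N v)] := by
    rw [Fintype.linearIndependent_iff]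
    intro a ha
    simp only [Fin.sum_univ_three, Matrix.cons_val_zero, Matrix.cons_val_one, Matrix.cons_val]
      at ha
    have h2 := congrArg (fun x => N (N x)) ha
    simp only [map_add, map_smul, hcube, map_zero, smul_zero, add_zero] at h2
    have a0 := (smul_eq_zero.1 h2).resolve_right hv2
    rw [a0, zero_smul, zero_add] at ha
    have h1 := congrArg N ha
    simp only [map_add, map_smul, hcube, map_zero, smul_zero, add_zero] at h1
    have a1 := (smul_eq_zero.1 h1).resolve_right hv2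
    rw [a1, zero_smul, zero_add] at ha
    intro i
    fin_cases i
    · exact a0
    · exact a1
    · exact (smul_eq_zero.1 ha).resolve_right hv2
  obtain ⟨M, hM⟩ : ∃ M : V3 p →ₗ[ZMod p] V3 p, ∀ u, M u = y u - u :=
    ⟨(y : V3 p →ₗ[ZMod p] V3 p) - LinearMap.id, fun u => rfl⟩
  have hMN : ∀ u, M (N u) = N (M u) := fun u => by
    have h := LinearEquiv.congr_fun (hwcomm y hyQ) u
    simp only [LinearEquiv.mul_apply] at h
    simp only [hN, hM, map_sub]
    rw [← h]
    abel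
  obtain ⟨a0, a1, a2, hMv⟩ := span_three hli (M v)
  have ha0 : a0 = 0 := by
    have h := cube_zero (k := 1) (by rw [pow_one]; exact hexp y hyQ) (N (N v))
    have hMM : M (N (N v)) = a0 • N (N v) := by
      rw [hMN, hMN, hMv]
      simp [map_add, map_smul, hcube]
    have h' : M (M (M (N (N v)))) = 0 := by
      simp only [hM, map_sub]
      simp only [map_sub] at h
      exact h
    simp only [hMM, map_smul, smul_smul, smul_eq_zero, mul_eq_zero, hv2, or_false] at h'
    tauto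
  rw [ha0, zero_smul, zero_add] at hMv
  set n : ℕ := (-a1).val with hn
  set z := y * (w : GL3 p) ^ n with hzdef
  have hzQ : z ∈ Q := Q.mul_mem hyQ (Q.pow_mem hwQ n)
  have hwv : ∀ m : ℕ, ∃ γ : ZMod p,
      ((w : GL3 p) ^ m) v = v + (m : ZMod p) • N v + γ • N (N v) := by
    intro m
    induction m with
    | zero => exact ⟨0, by simp⟩
    | succ m ih =>
      obtain ⟨γ, hγ⟩ := ih
      refine ⟨(m : ZMod p) + γ, ?_⟩
      have e1 : ∀ u, (w : GL3 p) u = u + N u := fun u => by rw [hN, add_sub_cancel]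
      rw [pow_succ', LinearEquiv.mul_apply, hγ, map_add, map_add, map_smul, map_smul, e1 v,
        e1 (N v), e1 (N (N v)), hcube, Nat.cast_succ]
      simp only [add_zero, smul_add, add_smul, one_smul]
      abel
  obtain ⟨γ, hγ⟩ := hwv n
  rw [hn, ZMod.natCast_zmod_val, ← hn] at hγ
  have hyv : ∀ u, y u = u + M u := fun u => by rw [hM, add_sub_cancel]
  obtain ⟨δ, hδ⟩ : ∃ δ : ZMod p, z v = v + δ • N (N v) := by
    refine ⟨γ + a2 - a1 * a1, ?_⟩
    rw [hzdef, LinearEquiv.mul_apply, hγ, map_add, map_add, map_smul, map_smul, hyv v,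
      hyv (N v), hyv (N (N v))]
    simp only [hMN, hMv, map_add, map_smul, hcube, smul_zero, add_zero, smul_add, smul_smul, add_smul,
      sub_smul, neg_mul, neg_smul]
    abel
  have hz1 : z ≠ 1 := fun h => hyw (by
    rw [show y = ((w : GL3 p) ^ n)⁻¹ from eq_inv_of_mul_eq_one_left h]
    exact Subgroup.inv_mem _ (Subgroup.pow_mem _ (Subgroup.mem_zpowers _) n))
  have hzN : ∀ u, z (N u) = N (z u) := fun u => by
    have hc : (w : GL3 p) * z = z * w := hwcomm z hzQ
    have h := LinearEquiv.congr_fun hc u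
    simp only [LinearEquiv.mul_apply] at h
    simp only [hN, map_sub, h]
  obtain ⟨φ, c, hz⟩ := exists_isTv hz1 fun u => by
    obtain ⟨b0, b1, b2, rfl⟩ := span_three hli u
    have e2 : z (N v) = N v := by rw [hzN, hδ, map_add, map_smul, hcube, smul_zero, add_zero]
    have e3 : z (N (N v)) = N (N v) := by rw [hzN, e2]
    simp only [map_add, map_sub, map_smul, smul_add, hδ, e2, e3]
    abel
  have hwz : (w : GL3 p) ∈ Subgroup.zpowers z :=
    hE.commute_transvection (hQX hzQ) (hQX hwQ) hz (hexp _ hwQ) (hwcomm z hzQ).symm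
  obtain ⟨i, hi⟩ := hwz
  have h2 : ∀ u, z (z u - u) - (z u - u) = 0 := fun u => by
    rw [hz.apply_eq u, add_sub_cancel_left, map_smul, hz.fix_centre, sub_self]
  have hcl : ∀ u, z (z u - u) = z u - u := fun u => sub_eq_zero.1 (h2 u)
  obtain ⟨j, hj⟩ : ∃ j : ℕ, (w : GL3 p) = z ^ j := by
    obtain ⟨j, hj⟩ := (isOfFinOrder_of_finite z).mem_powers_iff_mem_zpowers.2 ⟨i, hi⟩
    exact ⟨j, hj.symm⟩
  refine hv2 ?_
  rw [hN, hN, hj, hz.pow_apply, hz.pow_apply, add_sub_cancel_left, add_sub_cancel_left, map_smul,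
    hz.vanish, smul_zero, mul_zero, zero_smul]

end Emb

end Cfsg.Agent.Invol.EssThree
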