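import Cfsg.Agent.Lib.Fus.EssentialRankTwo
import Cfsg.Agent.Lib.Fus.RankTwoAut
import Cfsg.Agent.Lib.Invol.SPEmbedded
import Cfsg.Agent.Lib.Invol.EssThree.Linear
import Cfsg.Agent.Lib.Invol.EssThree.Frame

/-!
# The automizer of an essential subgroup needing three generators
-/

set_option autoImplicit false
set_option linter.style.haveILetI false
set_option linter.unusedSectionVars false

universe u

namespace Cfsg.Agent.Invol.EssThree

open Cfsg FusionSystem Cfsg.Agent.Fus
open scoped commutatorElement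

variable {p : ℕ} [hp : Fact p.Prime]

/-- An action of a group by automorphisms, seen in coordinates. -/
theorem exists_action {H M : Type*} [Group H] [Group M] {k : ℕ} (q : H → Fin k → ZMod p)
    (hq : ∀ a b, q (a * b) = q a + q b) (hs : Function.Surjective q) (a : M →* MulAut H)
    (hB : ∀ m h, q h = 0 → q (a m h) = 0) :
    ∃ r : M →* ((Fin k → ZMod p) ≃ₗ[ZMod p] (Fin k → ZMod p)),
      ∀ m h, q (a m h) = r m (q h) := by
  choose s hsq using hs
  have hq1 : q 1 = 0 := by
    have h := hq 1 1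
    rw [mul_one] at h
    exact left_eq_add.1 h
  have hqi : ∀ h, q h⁻¹ = -q h := fun h => by
    have h1 := hq h⁻¹ h
    rw [inv_mul_cancel, hq1] at h1
    exact eq_neg_of_add_eq_zero_left h1.symm
  have hw : ∀ m h h', q h = q h' → q (a m h) = q (a m h') := by
    intro m h h' e
    have h2 := hB m (h'⁻¹ * h) (by rw [hq, hqi, e, neg_add_cancel])
    rw [map_mul, map_inv, hq, hqi, neg_add_eq_zero] at h2
    exact h2.symm
  let f : M → ((Fin k → ZMod p) →ₗ[ZMod p] (Fin k → ZMod p)) := fun m =>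
    (AddMonoidHom.mk' (fun v => q (a m (s v))) fun v w => by
      rw [← hq, ← map_mul]
      exact hw _ _ _ (by rw [hsq, hq, hsq, hsq])).toZModLinearMap p
  have hf : ∀ m h, f m (q h) = q (a m h) := fun m h => hw _ _ _ (hsq _)
  have hcomp : ∀ m m' v, f m (f m' v) = f (m * m') v := fun m m' v => by
    rw [← hsq v, hf, hf, hf, map_mul, MulAut.mul_apply]
  have h1 : ∀ v, f 1 v = v := fun v => by rw [← hsq v, hf, map_one]; rfl
  let e : M → ((Fin k → ZMod p) ≃ₗ[ZMod p] (Fin k → ZMod p)) := fun m =>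
    LinearEquiv.ofLinear (f m) (f m⁻¹)
      (LinearMap.ext fun v => by
        show f m (f m⁻¹ v) = v
        rw [hcomp, mul_inv_cancel, h1])
      (LinearMap.ext fun v => by
        show f m⁻¹ (f m v) = v
        rw [hcomp, inv_mul_cancel, h1])
  exact ⟨{ toFun := e
           map_one' := LinearEquiv.ext h1
           map_mul' := fun m m' => LinearEquiv.ext fun v => (hcomp m m' v).symm },
    fun m h => (hf m h).symm⟩

/-- Linear equivalences as automorphisms of the multiplicative group. -/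
def toMulAut (p k : ℕ) :
    ((Fin k → ZMod p) ≃ₗ[ZMod p] (Fin k → ZMod p)) →* MulAut (Multiplicative (Fin k → ZMod p)) where
  toFun g := AddEquiv.toMultiplicative g.toAddEquiv
  map_one' := rfl
  map_mul' _ _ := rfl

theorem toMulAut_injective (p k : ℕ) : Function.Injective (toMulAut p k) := fun g h e =>
  LinearEquiv.ext fun v =>
    congrArg Multiplicative.toAdd (DFunLike.congr_fun e (Multiplicative.ofAdd v))

theorem frattini_comap {G H : Type*} [Group G] [Group H] (e : G ≃* H) {x : G} :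
    e x ∈ frattini H ↔ x ∈ frattini G := by
  constructor
  · intro h
    have := frattini_le_comap_frattini_of_surjective (φ := e.symm.toMonoidHom) e.symm.surjective h
    simpa [Subgroup.mem_comap] using this
  · intro h
    exact frattini_le_comap_frattini_of_surjective (φ := e.toMonoidHom) e.surjective h

variable {Ω : Type u} [Group Ω] {S : Subgroup Ω}

/-- What is used of an essential subgroup with Frattini quotient of order `p ^ 3`. -/
structure Core (F : FusionSystem S) (p : ℕ) (E : Subgroup Ω) where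
  fn : F.IsFullyNormalized E
  centric : FusionSystem.centralizerIn S E ≤ E
  π : E → V3 p
  π_mul : ∀ a b, π (a * b) = π a + π b
  π_zero : ∀ a, π a = 0 ↔ a ∈ frattini E
  π_surj : Function.Surjective π
  r : F.autGroup E →* GL3 p
  r_spec : ∀ (α : F.autGroup E) a, π ((α : MulAut E) a) = r α (π a)
  ker_le : ∀ α : F.autGroup E, r α = 1 → (α : MulAut E) ∈ Inn E
  Y : Subgroup (GL3 p)
  emb : Emb p r.range Y

variable [Finite S] {F : FusionSystem S}

theorem Core.r_inn (hS : IsPGroup p S) {E : Subgroup Ω} (D : Core F p E) {α : F.autGroup E}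
    (h : (α : MulAut E) ∈ Inn E) : D.r α = 1 := by
  haveI := finite_of_le D.fn.1
  obtain ⟨g, hg⟩ := h
  refine LinearEquiv.ext fun v => ?_
  obtain ⟨a, rfl⟩ := D.π_surj v
  rw [← D.r_spec, ← hg]
  show D.π (g * a * g⁻¹) = D.π a
  have hc : ⁅g, a⁆ ∈ frattini E := Grp.pGroup_commutator_le_frattini (hS.to_le D.fn.1)
    (Subgroup.commutator_mem_commutator (Subgroup.mem_top g) (Subgroup.mem_top a))
  rw [show g * a * g⁻¹ = ⁅g, a⁆ * a by rw [commutatorElement_def]; group, D.π_mul,
    (D.π_zero _).2 hc, zero_add]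

/-- The data exist for an essential subgroup. -/
theorem exists_core (hS : IsPGroup p S) {E : Subgroup Ω} (hE : F.IsEssential p E)
    (hrk : (frattini E).index = p ^ 3) : Nonempty (Core F p E) := by
  classical
  have hEc := hE.1
  have hEn := hE.2.1
  obtain ⟨hn, Yq, hYq⟩ := hE.2.2
  haveI := hn
  haveI := finite_of_le hEn.1
  haveI : Finite (MulAut E) :=
    Finite.of_injective (fun e : MulAut E => (e : E → E)) DFunLike.coe_injective
  have hEp : IsPGroup p E := hS.to_le hEn.1
  obtain ⟨k, q, hqm, hq0, hqs, hqc⟩ := exists_coord (p := p) (⊤ : Subgroup E) (frattini E) le_top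
    (fun a _ b _ => Grp.pGroup_commutator_le_frattini hEp
      (Subgroup.commutator_mem_commutator (Subgroup.mem_top a) (Subgroup.mem_top b)))
    (fun a _ => Grp.pGroup_pow_mem_frattini hEp a)
  have hk : k = 3 := by
    rw [Subgroup.card_top, ← (frattini E).index_mul_card, hrk, mul_comm] at hqc
    exact Nat.pow_right_injective hp.out.two_le (Nat.eq_of_mul_eq_mul_right Nat.card_pos hqc)
  subst hk
  have hqm' : ∀ a b, q (a * b) = q a + q b := fun a b => hqm a trivial b trivial
  have hq0' : ∀ a, q a = 0 ↔ a ∈ frattini E := fun a => hq0 a trivial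
  have hsurj : Function.Surjective q := fun v => let ⟨a, _, ha⟩ := hqs v; ⟨a, ha⟩
  obtain ⟨r, hr⟩ := exists_action q hqm' hsurj (F.autGroup E).subtype fun m h h0 => by
    rw [hq0'] at h0 ⊢
    exact (frattini_comap (m : MulAut E)).2 h0
  have hker : ∀ α : F.autGroup E, r α = 1 → (α : MulAut E) ∈ Inn E := fun α hα =>
    mem_inn_of_frattini_stab hS hE α.2 fun y => by
      rw [← hq0', hqm', show q y⁻¹ = -q y from ?_]
      · show -q y + q ((F.autGroup E).subtype α y) = 0
        rw [hr, hα]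
        exact neg_add_cancel _
      · have h := hqm' y⁻¹ y
        rw [inv_mul_cancel, (hq0' 1).2 (one_mem _)] at h
        exact eq_neg_of_add_eq_zero_left h.symm
  set I := (Inn E).subgroupOf (F.autGroup E) with hI
  have hrI : ∀ α, α ∈ I → r α = 1 := by
    rintro α ⟨g, hg⟩
    refine LinearEquiv.ext fun v => ?_
    obtain ⟨a, rfl⟩ := hsurj v
    rw [← hr, show (F.autGroup E).subtype α = MulAut.conj g from hg.symm]
    show q (g * a * g⁻¹) = q a
    have hc : ⁅g, a⁆ ∈ frattini E := Grp.pGroup_commutator_le_frattini hEp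
      (Subgroup.commutator_mem_commutator (Subgroup.mem_top g) (Subgroup.mem_top a))
    rw [show g * a * g⁻¹ = ⁅g, a⁆ * a by rw [commutatorElement_def]; group, hqm',
      (hq0' _).2 hc, zero_add]
  let ρ : F.autGroup E ⧸ I →* GL3 p := QuotientGroup.lift I r fun α hα => hrI α hα
  have hρ : Function.Injective ρ := by
    rw [injective_iff_map_eq_one]
    intro x hx
    obtain ⟨α, rfl⟩ := QuotientGroup.mk'_surjective I x
    exact (QuotientGroup.eq_one_iff α).2 (hker α hx)
  have hrange : ρ.range = r.range := by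
    ext g
    constructor
    · rintro ⟨x, rfl⟩
      obtain ⟨α, rfl⟩ := QuotientGroup.mk'_surjective I x
      exact ⟨α, rfl⟩
    · rintro ⟨α, rfl⟩
      exact ⟨QuotientGroup.mk' I α, rfl⟩
  obtain ⟨hd, hne, hcl⟩ := Invol.isStronglyPEmbedded_iff.1 hYq
  obtain ⟨P, hPY⟩ := Invol.exists_sylow_le_of_classical hd hcl
  refine ⟨⟨hEn, hEc.2 E (isConj_refl F hEn.1), q, hqm', hq0', hsurj, r, hr, hker, Yq.map ρ,
    ⟨?_, ?_, ?_, ?_, ?_⟩⟩⟩
  · rw [← hrange, MonoidHom.range_eq_map]
    exact Subgroup.map_mono le_top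
  · intro g hg hgY z hz hzp hgz
    rw [← hrange] at hg
    obtain ⟨g0, rfl⟩ := hg
    obtain ⟨z0, hz0, rfl⟩ := hz
    obtain ⟨w, hw, hwe⟩ := hgz
    have hweq : w = g0 * z0 * g0⁻¹ := hρ (by rw [hwe, map_mul, map_mul, map_inv])
    rcases eq_one_or_orderOf (p := p) (hρ (by rw [map_pow, hzp, map_one]) : z0 ^ p = 1) with h | h
    · rw [h, map_one]
    · exfalso
      refine hcl g0 (fun h0 => hgY ⟨g0, h0, rfl⟩) ?_
      refine Invol.dvd_card_of_mem (z := w) ?_ (Subgroup.mem_inf.2 ⟨hw, z0, hz0, hweq.symm⟩)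
      rw [hweq, orderOf_conj_eq]
      exact h
  · obtain ⟨g, hg⟩ : ∃ g, g ∉ Yq := by
      by_contra h
      push Not at h
      exact hne (eq_top_iff.2 fun g _ => h g)
    refine ⟨ρ g, hrange ▸ ⟨g, rfl⟩, fun h => hg ?_⟩
    obtain ⟨y, hy, hye⟩ := h
    exact hρ hye ▸ hy
  · intro Q hQ hQp z hz hzY hzp hz1
    obtain ⟨z0, hz0, rfl⟩ := hzY
    have hz0p : orderOf z0 = p := (eq_one_or_orderOf (p := p) (hρ (by rw [map_pow, hzp, map_one]) :
      z0 ^ p = 1)).resolve_left fun h => hz1 (by rw [h, map_one])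
    have hle := Invol.pGroup_le_of_classical hcl (hQp.comap_of_injective ρ hρ) hz0p hz hz0
    intro x hx
    obtain ⟨x0, rfl⟩ : x ∈ ρ.range := hrange ▸ hQ hx
    exact ⟨x0, hle hx, rfl⟩
  · intro Q hQ hQp
    obtain ⟨P', hP'⟩ := (hQp.comap_of_injective ρ hρ).exists_le_sylow
    obtain ⟨g, hg⟩ := MulAction.exists_smul_eq (F.autGroup E ⧸ I) P' P
    refine ⟨ρ g, hrange ▸ ⟨g, rfl⟩, fun z hz => ?_⟩
    obtain ⟨z0, rfl⟩ : z ∈ ρ.range := hrange ▸ hQ hz
    refine ⟨g * z0 * g⁻¹, hPY ?_, by rw [map_mul, map_mul, map_inv]⟩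
    rw [← hg]
    exact ⟨z0, hP' hz, rfl⟩

/-- The data pass along a map of the system defined on the normalizer. -/
theorem Core.transfer {E : Subgroup Ω} (D : Core F p E) {h : Ω → Ω}
    (hh : IsMap F (normalizerIn S E) h) :
    Nonempty (Core F p (fimg h E)) ∧
      normalizerIn S (fimg h E) = fimg h (normalizerIn S E) := by
  have hE : E ≤ S := D.fn.1
  have hres := hh.res (le_normalizerIn hE)
  have hconj : F.IsConj E (fimg h E) := hres.isConj
  have hle : fimg h (normalizerIn S E) ≤ normalizerIn S (fimg h E) :=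
    fimg_le fun x hx => hh.map_normalizerIn (le_normalizerIn hE) hx hx.2
  have hN : normalizerIn S (fimg h E) = fimg h (normalizerIn S E) := by
    haveI : Finite ↥(normalizerIn S (fimg h E)) := finite_of_le (S := S) inf_le_left
    exact (Subgroup.eq_of_le_of_card_ge hle (by rw [hh.card_fimg]; exact D.fn.2 _ hconj)).symm
  refine ⟨?_, hN⟩
  have hC : centralizerIn S (fimg h E) ≤ fimg h E := by
    intro c hc
    have hcN : c ∈ fimg h (normalizerIn S E) := hN ▸ centralizerIn_le_normalizerIn _ hc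
    obtain ⟨m, hm, rfl⟩ := hh.mem_fimg_iff.1 hcN
    refine apply_mem_fimg h (D.centric (mem_centralizerIn.2 ⟨hm.1, fun a ha => ?_⟩))
    have haN := le_normalizerIn hE ha
    refine hh.injOn (Subgroup.mul_mem _ haN hm) (Subgroup.mul_mem _ hm haN) ?_
    rw [hh.map_mul haN hm, hh.map_mul hm haN]
    exact (mem_centralizerIn.1 hc).2 _ (apply_mem_fimg h ha)
  obtain ⟨e, he, heA⟩ := exists_mulEquiv hres rfl
  have hmem : ∀ α : F.autGroup (fimg h E),
      (MulAut.congr e).symm (α : MulAut (fimg h E)) ∈ F.autGroup E := fun α => by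
    have h1 := (heA ((MulAut.congr e).symm (α : MulAut (fimg h E)))).2
    rw [MulEquiv.apply_symm_apply] at h1
    exact h1 α.2
  let c : F.autGroup (fimg h E) →* F.autGroup E :=
    ((MulAut.congr e).symm.toMonoidHom.comp (F.autGroup (fimg h E)).subtype).codRestrict _ hmem
  have hcs : Function.Surjective c := fun β => ⟨⟨MulAut.congr e β, (heA _).1 β.2⟩,
    Subtype.ext ((MulAut.congr e).symm_apply_apply _)⟩
  have hcapp : ∀ α a, (c α : MulAut E) a = e.symm ((α : MulAut _) (e a)) := fun α a => rfl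
  refine ⟨⟨⟨hres.fimg_le_S, fun Q hQ => ?_⟩, hC, fun a => D.π (e.symm a), fun a b => ?_,
    fun a => ?_, fun v => ?_, D.r.comp c, fun α a => ?_, fun α hα => ?_, D.Y, ?_⟩⟩
  · rw [hN, hh.card_fimg]
    exact D.fn.2 Q (isConj_trans hconj hQ)
  · rw [map_mul, D.π_mul]
  · rw [D.π_zero, frattini_comap]
  · obtain ⟨a, rfl⟩ := D.π_surj v
    exact ⟨e a, by simp⟩
  · rw [MonoidHom.comp_apply, ← D.r_spec, hcapp, e.apply_symm_apply]
  · obtain ⟨g, hg⟩ := D.ker_le (c α) hα
    refine ⟨e g, MulEquiv.ext fun b => ?_⟩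
    obtain ⟨b, rfl⟩ := e.surjective b
    have h1 := DFunLike.congr_fun hg b
    rw [hcapp] at h1
    have h2 := congrArg e h1
    rw [e.apply_symm_apply] at h2
    rw [← h2]
    show e g * e b * (e g)⁻¹ = e (g * b * g⁻¹)
    rw [map_mul, map_mul, map_inv]
  · rw [MonoidHom.range_comp, MonoidHom.range_eq_top.2 hcs, ← MonoidHom.range_eq_map]
    exact D.emb

end Cfsg.Agent.Invol.EssThree
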