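import Cfsg.Agent.Lib.Invol.EssThree.Regular

/-!
# The transvection case: the Frattini subgroup is characteristic; the final computation
-/

set_option autoImplicit false
set_option linter.style.haveILetI false
set_option linter.unusedSectionVars false

namespace Cfsg.Agent.Invol.EssThree

open scoped commutatorElement
open Module

variable {p : ℕ} [hp : Fact p.Prime] {G : Type*} [Group G] [Finite G]

/-- With transvections, the Frattini subgroup of the maximal subgroup is characteristic. -/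
theorem transvection_phi (hp5 : 5 ≤ p) (hR : Rank3 p G) (D : Frame p G) {n : G} (hn : n ∉ D.E)
    {e l f : V3 p} (hli : LinearIndependent (ZMod p) ![e, l, f]) (hTe : D.T n e = e + l)
    (hTl : D.T n l = l) (hTf : D.T n f = f) (β : MulAut G) {d : GL3 p}
    (hβq : ∀ a ∈ D.E, D.q (β a) = d (D.q a)) {t : ZMod p} (ht0 : t ≠ 0) (ht1 : t ≠ 1)
    (ht2 : t * t ≠ 1) (hde : d e = t • e) (hdl : d l = t⁻¹ • l) (hdf : d f = f) {μ : ℕ}
    (hμ : (μ : ZMod p) = (t * t)⁻¹) (hβn : β n * (n ^ μ)⁻¹ ∈ D.E) :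
    (∀ g, g ^ p ∈ D.Φ) ∧ (∀ g, ∀ a ∈ D.E, D.T g (D.q a) - D.q a ∈ Submodule.span (ZMod p) {l}) ∧
      ∀ ξ : MulAut G, D.Φ.map ξ.toMonoidHom = D.Φ := by
  classical
  haveI hΦn : D.Φ.Normal := D.phi_normal
  haveI hEn : D.E.Normal := D.normal
  have hpowT : ∀ i : ℕ, (D.T n ^ i) e = e + (i : ZMod p) • l ∧ (D.T n ^ i) l = l ∧
      (D.T n ^ i) f = f := fun i => by
    refine ⟨?_, pow_fix hTl i, pow_fix hTf i⟩
    induction i with
    | zero => simp
    | succ i ih =>
      rw [pow_succ, LinearEquiv.mul_apply, hTe, map_add, ih, pow_fix hTl i, Nat.cast_succ, add_smul,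
        one_smul, add_assoc]
  set U := Submodule.span (ZMod p) {l} with hU
  have hTU : ∀ g v, D.T g v - v ∈ U ∧ D.T g l = l ∧ D.T g f = f := by
    intro g v
    obtain ⟨i, a, ha, rfl⟩ := D.exists_decomp hn g
    rw [map_mul, D.T_one a ha, one_mul, map_pow]
    obtain ⟨h1, h2, h3⟩ := hpowT i
    refine ⟨?_, h2, h3⟩
    obtain ⟨x, y, z, rfl⟩ := span_three hli v
    simp only [map_add, map_smul, h1, h2, h3]
    refine Submodule.mem_span_singleton.2 ⟨x * i, ?_⟩
    module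
  -- powers
  have hnp : n ^ p ∈ D.Φ := by
    rw [← D.q_zero _ (D.pow_p_mem n)]
    obtain ⟨x, y, z, hxyz⟩ := span_three hli (D.q (n ^ p))
    have hfix : D.T n (D.q (n ^ p)) = D.q (n ^ p) := by
      rw [← D.q_conj n _ (D.pow_p_mem n), show n * n ^ p * n⁻¹ = n ^ p by group]
    have hd : d (D.q (n ^ p)) = (μ : ZMod p) • D.q (n ^ p) := by
      rw [← hβq _ (D.pow_p_mem n), map_pow,
        show β n = (β n * (n ^ μ)⁻¹) * n ^ μ by group, D.q_mul_pow_p hp5 hβn, ← pow_mul, mul_comm,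
        pow_mul, D.q_pow (D.pow_p_mem n)]
    rw [hxyz] at hfix hd ⊢
    simp only [map_add, map_smul, hTe, hTl, hTf, hde, hdl, hdf, hμ, smul_add, smul_smul] at hfix hd
    have hx : x = 0 := by
      have h := Fintype.linearIndependent_iff.1 hli ![0, x, 0] (by
        simp only [Fin.sum_univ_three, Matrix.cons_val_zero, Matrix.cons_val_one, Matrix.cons_val,
          zero_smul, zero_add, add_zero]
        have := sub_eq_zero.2 hfix
        rw [show x • e + x • l + y • l + z • f - (x • e + y • l + z • f) = x • l by abel] at this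
        exact this) 1
      simpa using h
    rw [hx] at hd ⊢
    have h := Fintype.linearIndependent_iff.1 hli
      ![0, (t⁻¹ - (t * t)⁻¹) * y, (1 - (t * t)⁻¹) * z] (by
        simp only [Fin.sum_univ_three, Matrix.cons_val_zero, Matrix.cons_val_one, Matrix.cons_val]
        rw [← sub_eq_zero.2 hd]
        module)
    have h1 : (t⁻¹ - (t * t)⁻¹) * y = 0 := by simpa using h 1
    have h2 : (1 - (t * t)⁻¹) * z = 0 := by simpa using h 2
    have hy : y = 0 := by
      refine (mul_eq_zero.1 h1).resolve_left fun h0 => ht1 ?_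
      have := congrArg (fun s => s * (t * t)) (sub_eq_zero.1 h0)
      field_simp at this
      exact this
    have hz : z = 0 := by
      refine (mul_eq_zero.1 h2).resolve_left fun h0 => ht2 ?_
      exact inv_eq_one.1 (sub_eq_zero.1 h0).symm
    rw [hy, hz]
    simp
  have hpowΦ : ∀ g, g ^ p ∈ D.Φ := by
    intro g
    obtain ⟨i, a, ha, rfl⟩ := D.exists_decomp hn g
    rw [← D.q_zero _ (D.pow_p_mem _), D.q_mul_pow_p hp5 ha, ← pow_mul, mul_comm, pow_mul,
      D.q_pow (D.pow_p_mem n), (D.q_zero _ (D.pow_p_mem n)).2 hnp, smul_zero]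
  refine ⟨hpowΦ, fun g a _ => (hTU g _).1, fun ξ => ?_⟩
  have hξinj : Function.Injective ξ.toMonoidHom := ξ.injective
  set L := D.pre U with hL
  have hLn : L.Normal := D.pre_normal fun g v hv => by
    rw [show D.T g v = (D.T g v - v) + v by abel]
    exact U.add_mem (hTU g v).1 hv
  have hcomm : ∀ g h : G, ⁅g, h⁆ ∈ L := by
    intro g h
    haveI := hLn
    obtain ⟨i, a, ha, rfl⟩ := D.exists_decomp hn g
    obtain ⟨j, c, hc, rfl⟩ := D.exists_decomp hn h
    have hcen : ∀ y ∈ D.E, ∀ g : G,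
        Commute (QuotientGroup.mk' L y) (QuotientGroup.mk' L g) := fun y hy g => by
      rw [commute_iff_eq, eq_comm, ← commutatorElement_eq_one_iff_mul_comm, ← map_commutatorElement,
        QuotientGroup.mk'_apply, QuotientGroup.eq_one_iff]
      exact ⟨D.comm_mem_E g hy, by rw [D.q_comm g hy]; exact (hTU g _).1⟩
    rw [← QuotientGroup.eq_one_iff, ← QuotientGroup.mk'_apply, map_commutatorElement,
      commutatorElement_eq_one_iff_mul_comm, map_mul, map_mul]
    refine Commute.eq ?_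
    refine Commute.mul_left ((hcen a ha c).mul_right (hcen a ha _)) ?_
    refine Commute.mul_right (hcen c hc _).symm ?_
    rw [map_pow, map_pow]
    exact (Commute.refl _).pow_pow i j
  set Φ' := D.Φ.map ξ.toMonoidHom with hΦ'
  by_contra hne
  have hΦL : D.Φ ≤ L := D.phi_le_pre _
  have hΦ'L : Φ' ≤ L := D.map_phi_le ξ L hLn (fun a _ c _ => hcomm a c)
    fun a _ => hΦL (hpowΦ a)
  have hΦ'n : Φ'.Normal := D.phi_normal.map _ ξ.surjective
  obtain ⟨e0, he0, he0q⟩ := D.q_surj e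
  obtain ⟨f0, hf0, hf0q⟩ := D.q_surj f
  set l0 := ⁅n, e0⁆ with hl0
  have hl0E : l0 ∈ D.E := D.comm_mem_E n he0
  have hl0q : D.q l0 = l := by rw [hl0, D.q_comm n he0, he0q, hTe]; abel
  have hl0L : l0 ∈ L := ⟨hl0E, by rw [hl0q]; exact Submodule.mem_span_singleton_self l⟩
  have hl : l ≠ 0 := hli.ne_zero 1
  have hξL : L.map ξ.toMonoidHom = L := by
    refine Subgroup.eq_of_le_of_card_ge ?_ (Subgroup.card_map_of_injective hξinj).ge
    rintro _ ⟨a, ha, rfl⟩
    obtain ⟨r, hr⟩ := Submodule.mem_span_singleton.1 ha.2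
    have hφ : (l0 ^ r.val)⁻¹ * a ∈ D.Φ := by
      rw [← D.q_eq_iff (D.E.pow_mem hl0E _) ha.1, D.q_pow hl0E, hl0q, ← hr, ZMod.natCast_zmod_val]
    show ξ a ∈ L
    rw [show a = l0 ^ r.val * ((l0 ^ r.val)⁻¹ * a) from (mul_inv_cancel_left _ _).symm, map_mul,
      map_pow]
    refine L.mul_mem (L.pow_mem ?_ _) (hΦ'L ⟨_, hφ, rfl⟩)
    rw [hl0, map_commutatorElement]
    exact hcomm _ _
  have hLΦ : ∀ g, ∀ a ∈ L, ⁅g, a⁆ ∈ D.Φ := fun g a ha => by
    obtain ⟨r, hr⟩ := Submodule.mem_span_singleton.1 ha.2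
    rw [← D.q_zero _ (D.comm_mem_E g ha.1), D.q_comm g ha.1, ← hr, map_smul, (hTU g 0).2.1,
      sub_self]
  set I := D.Φ ⊓ Φ' with hI
  haveI hIn : I.Normal := inferInstance
  have hLI : ∀ g : G, ∀ a ∈ L, ⁅g, a⁆ ∈ I := by
    intro g a ha
    refine ⟨hLΦ g a ha, ?_⟩
    rw [← hξL] at ha
    obtain ⟨a0, ha0, rfl⟩ := ha
    refine ⟨⁅ξ.symm g, a0⁆, hLΦ _ _ ha0, ?_⟩
    show ξ ⁅ξ.symm g, a0⁆ = _
    rw [map_commutatorElement, ξ.apply_symm_apply]
    rfl
  have hpI : ∀ g, g ^ p ∈ I := fun g =>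
    ⟨hpowΦ g, ξ.symm g ^ p, hpowΦ _, by
      show ξ (ξ.symm g ^ p) = g ^ p
      rw [map_pow, ξ.apply_symm_apply]⟩
  obtain ⟨φ0, hφ0, hφ0I⟩ : ∃ φ ∈ D.Φ, φ ∉ I := by
    by_contra h
    push Not at h
    exact hne (Subgroup.eq_of_le_of_card_ge (fun a ha => (h a ha).2)
      (Subgroup.card_map_of_injective hξinj).le).symm
  -- a scalar on `Φ` with kernel `I`
  have hpre : ∀ φ ∈ D.Φ, ξ.symm φ ∈ L := fun φ hφ => by
    obtain ⟨a, ha, hae⟩ := hξL.ge (hΦL hφ)
    rw [show ξ.symm φ = a by rw [← hae]; exact ξ.symm_apply_apply a]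
    exact ha
  have hker : ∀ φ ∈ D.Φ, D.q (ξ.symm φ) = 0 → φ ∈ I := fun φ hφ h0 =>
    ⟨hφ, ξ.symm φ, (D.q_zero _ (hpre φ hφ).1).1 h0, ξ.apply_symm_apply φ⟩
  have hx : ⁅e0, f0⁆ ∈ D.Φ := D.comm_mem he0 hf0
  have hy : ⁅n, f0⁆ ∈ D.Φ := by
    rw [← D.q_zero _ (D.comm_mem_E n hf0), D.q_comm n hf0, hf0q, hTf, sub_self]
  obtain ⟨rx, hrx⟩ := Submodule.mem_span_singleton.1 (hpre _ hx).2
  obtain ⟨ry, hry⟩ := Submodule.mem_span_singleton.1 (hpre _ hy).2
  obtain ⟨i, j, hij, hrel⟩ : ∃ i j : ZMod p, (i ≠ 0 ∨ j ≠ 0) ∧ i * rx + j * ry = 0 := by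
    by_cases h : rx = 0
    · exact ⟨1, 0, Or.inl one_ne_zero, by simp [h]⟩
    · exact ⟨ry, -rx, Or.inr (neg_ne_zero.2 h), by ring⟩
  set u := e0 ^ i.val * n ^ j.val with hu
  have hcl : ∀ y ∈ L, ∀ g : G, Commute (QuotientGroup.mk' I g) (QuotientGroup.mk' I y) :=
    fun y hy g => by
      rw [commute_iff_eq, ← commutatorElement_eq_one_iff_mul_comm, ← map_commutatorElement,
        QuotientGroup.mk'_apply, QuotientGroup.eq_one_iff]
      exact hLI g y hy
  have huf : ⁅u, f0⁆ ∈ I := by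
    set r := ⁅e0, f0⁆ ^ i.val * ⁅n, f0⁆ ^ j.val with hr
    have hrΦ : r ∈ D.Φ := D.Φ.mul_mem (D.Φ.pow_mem hx _) (D.Φ.pow_mem hy _)
    have hrI : r ∈ I := by
      refine hker r hrΦ ?_
      rw [hr, map_mul, map_pow, map_pow, D.q_mul _ (D.E.pow_mem (hpre _ hx).1 _) _
        (D.E.pow_mem (hpre _ hy).1 _), D.q_pow (hpre _ hx).1, D.q_pow (hpre _ hy).1, ← hrx, ← hry,
        ZMod.natCast_zmod_val, ZMod.natCast_zmod_val, smul_smul, smul_smul, ← add_smul, hrel,
        zero_smul]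
    have h : QuotientGroup.mk' I ⁅u, f0⁆ = QuotientGroup.mk' I r := by
      rw [hu, show ⁅e0 ^ i.val * n ^ j.val, f0⁆ = e0 ^ i.val * ⁅n ^ j.val, f0⁆ * (e0 ^ i.val)⁻¹ *
        ⁅e0 ^ i.val, f0⁆ by simp only [commutatorElement_def]; group]
      simp only [hr, map_mul, map_inv, map_pow, map_commutatorElement]
      have h1 := comm_pow_pow (x := QuotientGroup.mk' I n) (y := QuotientGroup.mk' I f0)
        (map_commutatorElement _ n f0).symm (hcl _ (hΦL hy) n).symm (hcl _ (hΦL hy) f0).symm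
        j.val 1
      have h2 := comm_pow_pow (x := QuotientGroup.mk' I e0) (y := QuotientGroup.mk' I f0)
        (map_commutatorElement _ e0 f0).symm (hcl _ (hΦL hx) e0).symm (hcl _ (hΦL hx) f0).symm
        i.val 1
      rw [pow_one, mul_one] at h1 h2
      rw [h1, h2, ← map_commutatorElement, ← map_commutatorElement,
        ((hcl _ (hΦL hy) e0).pow_pow i.val j.val).eq, mul_inv_cancel_right,
        ((hcl _ (hΦL hy) _).pow_pow i.val j.val).eq]
    rw [← QuotientGroup.eq_one_iff, ← QuotientGroup.mk'_apply, h, QuotientGroup.mk'_apply,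
      QuotientGroup.eq_one_iff]
    exact hrI
  refine no_four hR I ![f0, u, l0, φ0] ?_ (fun k => hpI _) ?_
  · intro a b
    fin_cases a <;> fin_cases b <;>
      simp only [Fin.zero_eta, Fin.mk_one, Fin.isValue, Matrix.cons_val_zero, Matrix.cons_val_one,
        Matrix.cons_val, Fin.reduceFinMk] <;>
      first
      | exact huf
      | exact hLI _ _ hl0L
      | exact hLI _ _ (hΦL hφ0)
      | (rw [commutatorElement_self]; exact I.one_mem)
      | (rw [← commutatorElement_inv]; refine I.inv_mem ?_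
         first
         | exact huf
         | exact hLI _ _ hl0L
         | exact hLI _ _ (hΦL hφ0))
  · intro a ha
    simp only [Matrix.cons_val_zero, Matrix.cons_val_one, Matrix.cons_val] at ha
    have hjE : n ^ (j.val * a 1) ∈ D.E := by
      haveI := D.normal
      have h1 : QuotientGroup.mk' D.E (f0 ^ a 0 * u ^ a 1 * l0 ^ a 2 * φ0 ^ a 3) = 1 :=
        (QuotientGroup.eq_one_iff _).2 (D.le ha.1)
      have e1 : ∀ y ∈ D.E, QuotientGroup.mk' D.E y = 1 := fun y hy =>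
        (QuotientGroup.eq_one_iff y).2 hy
      simp only [hu, map_mul, map_pow, e1 e0 he0, e1 f0 hf0, e1 l0 hl0E, e1 φ0 (D.le hφ0),
        one_pow, one_mul, mul_one] at h1
      rw [← pow_mul, ← map_pow] at h1
      exact (QuotientGroup.eq_one_iff _).1 h1
    have hjb : (j : ZMod p) * (a 1 : ZMod p) = 0 := by
      by_contra hne0
      refine hn ?_
      have hcop : Nat.Coprime (j.val * a 1) p := by
        rw [Nat.coprime_comm, hp.out.coprime_iff_not_dvd, ← ZMod.natCast_eq_zero_iff, Nat.cast_mul,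
          ZMod.natCast_zmod_val]
        exact hne0
      obtain ⟨s, -, hs⟩ := Nat.exists_mul_mod_eq_one_of_coprime hcop hp.out.one_lt
      have h1 := D.E.pow_mem hjE s
      rw [← pow_mul, ← Nat.mod_add_div (j.val * a 1 * s) p, hs, pow_add, pow_one, pow_mul] at h1
      exact (D.E.mul_mem_cancel_right (D.E.pow_mem (D.pow_p_mem n) _)).1 h1
    have key : (a 0 : ZMod p) = 0 ∧ (a 1 : ZMod p) = 0 ∧ (a 2 : ZMod p) = 0 := by
      by_cases hj : j = 0
      · have hi : i ≠ 0 := hij.resolve_right (not_not_intro hj)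
        have hue : u = e0 ^ i.val := by rw [hu, hj, ZMod.val_zero, pow_zero, mul_one]
        have huE : u ∈ D.E := hue ▸ D.E.pow_mem he0 _
        have hq := (D.q_zero _ (D.le ha.1)).2 ha.1
        have hE0 := D.E.pow_mem hf0 (a 0)
        have hE1 := D.E.pow_mem huE (a 1)
        have hE2 := D.E.pow_mem hl0E (a 2)
        rw [D.q_mul _ (D.E.mul_mem (D.E.mul_mem hE0 hE1) hE2) _ (D.E.pow_mem (D.le hφ0) _),
          D.q_mul _ (D.E.mul_mem hE0 hE1) _ hE2, D.q_mul _ hE0 _ hE1, D.q_pow hf0, D.q_pow huE,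
          D.q_pow hl0E, D.q_pow (D.le hφ0), (D.q_zero _ (D.le hφ0)).2 hφ0, hue, D.q_pow he0,
          hf0q, he0q, hl0q, ZMod.natCast_zmod_val, smul_zero, add_zero, smul_smul] at hq
        have h := Fintype.linearIndependent_iff.1 hli
          ![(a 1 : ZMod p) * i, (a 2 : ZMod p), (a 0 : ZMod p)] (by
          simp only [Fin.sum_univ_three, Matrix.cons_val_zero, Matrix.cons_val_one, Matrix.cons_val]
          rw [← hq]; abel)
        refine ⟨by simpa using h 2, ?_, by simpa using h 1⟩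
        have h0 : (a 1 : ZMod p) * i = 0 := by simpa using h 0
        exact (mul_eq_zero.1 h0).resolve_right hi
      · have h1 : (a 1 : ZMod p) = 0 := (mul_eq_zero.1 hjb).resolve_left hj
        have hu1 : u ^ a 1 ∈ D.Φ := by
          obtain ⟨c, hc⟩ := (ZMod.natCast_eq_zero_iff _ _).1 h1
          rw [hc, pow_mul]
          exact D.Φ.pow_mem (hpowΦ u) c
        have hq := (D.q_zero _ (D.le ha.1)).2 ha.1
        have hE0 := D.E.pow_mem hf0 (a 0)
        have hE2 := D.E.pow_mem hl0E (a 2)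
        rw [D.q_mul _ (D.E.mul_mem (D.E.mul_mem hE0 (D.le hu1)) hE2) _ (D.E.pow_mem (D.le hφ0) _),
          D.q_mul _ (D.E.mul_mem hE0 (D.le hu1)) _ hE2, D.q_mul _ hE0 _ (D.le hu1), D.q_pow hf0,
          D.q_pow hl0E, D.q_pow (D.le hφ0), (D.q_zero _ (D.le hφ0)).2 hφ0,
          (D.q_zero _ (D.le hu1)).2 hu1, hf0q, hl0q, smul_zero, add_zero, add_zero] at hq
        have h := Fintype.linearIndependent_iff.1 hli
          ![0, (a 2 : ZMod p), (a 0 : ZMod p)] (by
          simp only [Fin.sum_univ_three, Matrix.cons_val_zero, Matrix.cons_val_one, Matrix.cons_val]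
          rw [← hq]; simp [add_comm])
        exact ⟨by simpa using h 2, h1, by simpa using h 1⟩
    have hdvd : ∀ k : ℕ, (k : ZMod p) = 0 → ∀ g : G, g ^ k ∈ I := fun k hk g => by
      obtain ⟨c, rfl⟩ := (ZMod.natCast_eq_zero_iff _ _).1 hk
      rw [pow_mul]
      exact I.pow_mem (hpI g) c
    have h3 : φ0 ^ a 3 ∈ I := (I.mul_mem_cancel_left (I.mul_mem (I.mul_mem (hdvd _ key.1 f0)
      (hdvd _ key.2.1 u)) (hdvd _ key.2.2 l0))).1 ha
    have ha3 : (a 3 : ZMod p) = 0 := by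
      by_contra hne0
      refine hφ0I ?_
      have hcop : Nat.Coprime (a 3) p := by
        rw [Nat.coprime_comm, hp.out.coprime_iff_not_dvd, ← ZMod.natCast_eq_zero_iff]
        exact hne0
      obtain ⟨s, -, hs⟩ := Nat.exists_mul_mod_eq_one_of_coprime hcop hp.out.one_lt
      have h1 := I.pow_mem h3 s
      rw [← pow_mul, ← Nat.mod_add_div (a 3 * s) p, hs, pow_add, pow_one, pow_mul] at h1
      exact (I.mul_mem_cancel_right (I.pow_mem (hpI φ0) _)).1 h1
    intro k
    rw [← ZMod.natCast_eq_zero_iff]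
    fin_cases k
    · exact key.1
    · exact key.2.1
    · exact key.2.2
    · exact ha3

section final

variable {Q : Type*} [Group Q]

theorem pow_val_add {z : Q} (hz : z ^ p = 1) (a b : ZMod p) :
    z ^ (a + b).val = z ^ a.val * z ^ b.val := by
  rw [← pow_add, ZMod.val_add, ← pow_eq_pow_mod (a.val + b.val) hz]

theorem pow_val_mul {z : Q} (hz : z ^ p = 1) (a : ZMod p) (n : ℕ) :
    (z ^ a.val) ^ n = z ^ ((n : ZMod p) * a).val := by
  rw [← pow_mul, ZMod.val_mul, ZMod.val_natCast, ← pow_eq_pow_mod _ hz,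
    pow_eq_pow_mod (a.val * n) hz, pow_eq_pow_mod (n % p * a.val) hz]
  congr 1
  simp [Nat.mul_mod, mul_comm]

/-- The final computation in the extension of the group of order `p ^ 4`. -/
theorem transvection_final {N : Subgroup Q} (hN : N.Normal) {e n l f x : Q} (he : e ∈ N)
    (hn : n ∈ N) (hl : l ∈ N) (hf : f ∈ N) (hep : e ^ p = 1) (hnp : n ^ p = 1) (hlp : l ^ p = 1)
    (hfp : f ^ p = 1) (hne : ⁅n, e⁆ = l) (hcen : ∀ w ∈ N, Commute l w ∧ Commute f w)
    (hgen : ∀ w ∈ N, ∃ a b i j : ZMod p, w = e ^ a.val * n ^ b.val * (l ^ i.val * f ^ j.val))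
    (hind : ∀ a b i j : ZMod p, e ^ a.val * n ^ b.val * (l ^ i.val * f ^ j.val) = 1 →
      a = 0 ∧ b = 0 ∧ i = 0 ∧ j = 0)
    {c α b0 γ i3 j3 : ZMod p} (hxp : x ^ p ∈ N) (hxl : x * l * x⁻¹ = l)
    (hxf : x * f * x⁻¹ = l ^ γ.val * f) (hxn : x * n * x⁻¹ = n * (l ^ α.val * f ^ b0.val))
    (hxe : x * e * x⁻¹ = e * n ^ c.val * (l ^ i3.val * f ^ j3.val)) (hc : c ≠ 0)
    (β : Q →* Q) {t μ φ i1 j1 i2 j2 i4 : ZMod p} {lam : ℕ} {w : Q} (hw : w ∈ N)
    (hβe : β e = e ^ t.val * (l ^ i1.val * f ^ j1.val))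
    (hβn : β n = n ^ μ.val * (l ^ i2.val * f ^ j2.val))
    (hβf : β f = l ^ i4.val * f ^ φ.val) (hβx : β x = w * x ^ lam) (hμ : μ ≠ 0)
    (h1 : μ * (lam : ZMod p) ≠ φ) (h2 : φ * (lam : ZMod p) ≠ t * μ) (h3 : t * μ ≠ (lam : ZMod p))
    (h4 : φ ≠ (lam : ZMod p)) :
    ∃ k : ℕ, Commute (x * e ^ k) n ∧ Commute (x * e ^ k) l ∧ Commute (x * e ^ k) f ∧
      (x * e ^ k) ^ p = 1 := by
  set z : ZMod p → ZMod p → Q := fun i j => l ^ i.val * f ^ j.val with hz
  have hlf : Commute l f := (hcen f hf).1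
  have zadd : ∀ i j i' j', z i j * z i' j' = z (i + i') (j + j') := fun i j i' j' => by
    simp only [hz, pow_val_add hlp, pow_val_add hfp]
    exact (hlf.pow_pow i'.val j.val).symm.mul_mul_mul_comm _ _
  have z00 : z 0 0 = 1 := by simp [hz]
  have zpow' : ∀ i j, ∀ m : ℕ, z i j ^ m = z ((m : ZMod p) * i) ((m : ZMod p) * j) :=
    fun i j m => by
      simp only [hz]
      rw [(hlf.pow_pow i.val j.val).mul_pow, pow_val_mul hlp, pow_val_mul hfp]
  have zN : ∀ i j, z i j ∈ N := fun i j => N.mul_mem (N.pow_mem hl _) (N.pow_mem hf _)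
  have zcomm : ∀ i j, ∀ v ∈ N, Commute (z i j) v := fun i j v hv =>
    ((hcen v hv).1.pow_left _).mul_left ((hcen v hv).2.pow_left _)
  have zinj : ∀ i j i' j', z i j = z i' j' → i = i' ∧ j = j' := fun i j i' j' h => by
    have h1 : z (i - i') (j - j') * z i' j' = 1 * z i' j' := by
      rw [zadd, sub_add_cancel, sub_add_cancel, one_mul, h]
    obtain ⟨-, -, hi, hj⟩ := hind 0 0 (i - i') (j - j') (by simpa using mul_right_cancel h1)
    exact ⟨sub_eq_zero.1 hi, sub_eq_zero.1 hj⟩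
  have hln : Commute l n := (hcen n hn).1
  have hle : Commute l e := (hcen e he).1
  have hen : ∀ a b : ZMod p, ⁅n ^ b.val, e ^ a.val⁆ = z (b * a) 0 := fun a b => by
    rw [comm_pow_pow hne hln hle, hz]
    simp only [ZMod.val_zero, pow_zero, mul_one]
    rw [ZMod.val_mul, ← pow_eq_pow_mod _ hlp]
  -- conjugation by an element of `N`
  have hwn : ∀ v ∈ N, ∀ b : ZMod p, ∃ r, v * n ^ b.val * v⁻¹ = n ^ b.val * z r 0 ∧
      (r = 0 → b ≠ 0 → ∃ b' i j : ZMod p, v = n ^ b'.val * z i j) := by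
    intro v hv b
    obtain ⟨a, b', i, j, rfl⟩ := hgen v hv
    refine ⟨-(b * a), ?_, fun hr hb => ⟨b', i, j, ?_⟩⟩
    · have hzc := zcomm i j _ (N.pow_mem hn b.val)
      have hzi : z (-(b * a)) 0 = ⁅n ^ b.val, e ^ a.val⁆⁻¹ := by
        rw [eq_inv_iff_mul_eq_one, hen, zadd, neg_add_cancel, add_zero, z00]
      rw [show e ^ a.val * n ^ b'.val * z i j * n ^ b.val *
          (e ^ a.val * n ^ b'.val * z i j)⁻¹ =
        e ^ a.val * (n ^ b'.val * (z i j * n ^ b.val * (z i j)⁻¹) * (n ^ b'.val)⁻¹) *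
          (e ^ a.val)⁻¹ by group, hzc.eq, mul_inv_cancel_right,
        ((Commute.refl n).pow_pow b'.val b.val).eq, mul_inv_cancel_right,
        show e ^ a.val * n ^ b.val * (e ^ a.val)⁻¹ = ⁅n ^ b.val, e ^ a.val⁆⁻¹ * n ^ b.val by
          simp only [commutatorElement_def]; group, ← hzi]
      exact (zcomm _ _ _ (N.pow_mem hn _)).eq
    · rw [neg_eq_zero, mul_eq_zero] at hr
      rw [hr.resolve_left hb, ZMod.val_zero, pow_zero, one_mul]
  -- conjugation by powers of `x`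
  have hxz : ∀ i j, x * z i j * x⁻¹ = z (i + γ * j) j := fun i j => by
    have hf' : l ^ γ.val * f = z γ 1 := by
      rw [hz]; simp only
      rw [ZMod.val_one p, pow_one]
    simp only [hz]
    rw [← conj_mul, ← conj_pow, ← conj_pow, hxl, hxf, hf', zpow' γ 1 j.val, ZMod.natCast_zmod_val,
      mul_one]
    simp only [hz]
    rw [← mul_assoc, ← pow_val_add hlp, mul_comm j γ]
  have hxk : ∀ (m : ℕ) i j, x ^ m * z i j * (x ^ m)⁻¹ = z (i + (m : ZMod p) * γ * j) j := by
    intro m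
    induction m with
    | zero => intro i j; simp
    | succ m ih =>
      intro i j
      rw [pow_succ', show x * x ^ m * z i j * (x * x ^ m)⁻¹ = x * (x ^ m * z i j * (x ^ m)⁻¹) * x⁻¹
        by group, ih, hxz, Nat.cast_succ]
      congr 1
      ring
  have hxnk : ∀ m : ℕ, ∃ r, x ^ m * n * (x ^ m)⁻¹ = n * z r ((m : ZMod p) * b0) := by
    intro m
    induction m with
    | zero => exact ⟨0, by simp [z00]⟩
    | succ m ih =>
      obtain ⟨r, hr⟩ := ih
      refine ⟨α + (r + γ * ((m : ZMod p) * b0)), ?_⟩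
      rw [pow_succ', show x * x ^ m * n * (x * x ^ m)⁻¹ = x * (x ^ m * n * (x ^ m)⁻¹) * x⁻¹ by group,
        hr, ← conj_mul, hxn, hxz, mul_assoc, show l ^ α.val * f ^ b0.val = z α b0 from rfl, zadd,
        Nat.cast_succ]
      congr 2
      ring
  have hβl : β l = z (t * μ) 0 := by
    have hzz : β ⁅n, e⁆ = ⁅n ^ μ.val * z i2 j2, e ^ t.val * z i1 j1⁆ := by
      rw [map_commutatorElement, hβn, hβe]
    rw [← hne, hzz]
    have c1 := zcomm i2 j2 _ (N.mul_mem (N.pow_mem he t.val) (zN i1 j1))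
    have c2 := zcomm i1 j1 _ (N.pow_mem hn μ.val)
    rw [show ⁅n ^ μ.val * z i2 j2, e ^ t.val * z i1 j1⁆ = n ^ μ.val *
        ⁅z i2 j2, e ^ t.val * z i1 j1⁆ * (n ^ μ.val)⁻¹ * ⁅n ^ μ.val, e ^ t.val * z i1 j1⁆ by
      simp only [commutatorElement_def]; group, commutatorElement_eq_one_iff_mul_comm.2 c1.eq,
      mul_one, mul_inv_cancel, one_mul,
      show ⁅n ^ μ.val, e ^ t.val * z i1 j1⁆ = ⁅n ^ μ.val, e ^ t.val⁆ *
        (e ^ t.val * ⁅n ^ μ.val, z i1 j1⁆ * (e ^ t.val)⁻¹) by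
      simp only [commutatorElement_def]; group, commutatorElement_eq_one_iff_mul_comm.2 c2.eq.symm,
      mul_one, mul_inv_cancel, mul_one, hen, mul_comm μ t]
  have hβz : ∀ i j, β (z i j) = z (i * (t * μ) + j * i4) (j * φ) := fun i j => by
    simp only [hz, map_mul, map_pow]
    rw [hβl, hβf]
    show z (t * μ) 0 ^ i.val * z i4 φ ^ j.val = z (i * (t * μ) + j * i4) (j * φ)
    rw [zpow', zpow', zadd, ZMod.natCast_zmod_val, ZMod.natCast_zmod_val, mul_zero, zero_add]
  have hconjz : ∀ v ∈ N, ∀ i j, v * z i j * v⁻¹ = z i j := fun v hv i j => by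
    rw [← (zcomm i j v hv).eq, mul_inv_cancel_right]
  -- `b0 = 0`
  obtain ⟨r0, hr0⟩ := hxnk lam
  obtain ⟨r1, hr1, -⟩ := hwn w hw μ
  have hb0 : b0 = 0 := by
    have h := congrArg β hxn
    rw [map_mul, map_mul, map_inv, hβx, map_mul, show β (l ^ α.val * f ^ b0.val) = β (z α b0) from
      rfl, hβz, hβn] at h
    rw [show l ^ i2.val * f ^ j2.val = z i2 j2 from rfl,
      show w * x ^ lam * (n ^ μ.val * z i2 j2) * (w * x ^ lam)⁻¹ =
        w * ((x ^ lam * n ^ μ.val * (x ^ lam)⁻¹) * (x ^ lam * z i2 j2 * (x ^ lam)⁻¹)) * w⁻¹ by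
        group, ← conj_pow, hr0, hxk, (zcomm _ _ n hn).symm.mul_pow, zpow',
      mul_assoc (n ^ μ.val) (z _ _) (z _ _), zadd, ← conj_mul, hr1, hconjz w hw,
      mul_assoc (n ^ μ.val) (z _ _) (z _ _), zadd, mul_assoc (n ^ μ.val) (z _ _) (z _ _), zadd,
      mul_left_cancel_iff] at h
    obtain ⟨-, h⟩ := zinj _ _ _ _ h
    rw [ZMod.natCast_zmod_val] at h
    by_contra hne0
    refine h1 (mul_right_cancel₀ hne0 ?_)
    linear_combination h
  -- `γ = 0`
  have hγ : γ = 0 := by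
    have h := congrArg β hxf
    have hf' : l ^ γ.val * f = z γ 1 := by
      rw [hz]; simp only
      rw [ZMod.val_one p, pow_one]
    rw [map_mul, map_mul, map_inv, hβx, hβf, hf', hβz, show l ^ i4.val * f ^ φ.val = z i4 φ from rfl,
      show w * x ^ lam * z i4 φ * (w * x ^ lam)⁻¹ = w * (x ^ lam * z i4 φ * (x ^ lam)⁻¹) * w⁻¹ by
        group, hxk, hconjz w hw] at h
    obtain ⟨h, -⟩ := zinj _ _ _ _ h
    by_contra hne0
    refine h2 (mul_right_cancel₀ hne0 ?_)
    linear_combination h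
  have hxn' : x * n * x⁻¹ = n * z α 0 := by rw [hxn, hb0]
  have hxz' : ∀ i j, x * z i j * x⁻¹ = z i j := fun i j => by rw [hxz, hγ, zero_mul, add_zero]
  set x' := x * e ^ α.val with hx'
  have hn1 : Commute x' n := by
    have h := hen α 1
    rw [ZMod.val_one p, pow_one, one_mul] at h
    have he' : e ^ α.val * n * (e ^ α.val)⁻¹ = n * z (-α) 0 := by
      have hzi : z (-α) 0 = ⁅n, e ^ α.val⁆⁻¹ := by
        rw [eq_inv_iff_mul_eq_one, h, zadd, neg_add_cancel, add_zero, z00]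
      rw [← (zcomm _ _ n hn).eq, hzi, commutatorElement_def]
      group
    have : x' * n * x'⁻¹ = n := by
      rw [hx', show x * e ^ α.val * n * (x * e ^ α.val)⁻¹ = x * (e ^ α.val * n * (e ^ α.val)⁻¹) * x⁻¹
        by group, he', ← conj_mul, hxn', hxz', mul_assoc, zadd, add_neg_cancel, add_zero, z00,
        mul_one]
    exact mul_inv_eq_iff_eq_mul.1 this
  have hzx' : ∀ i j, Commute x' (z i j) := fun i j => by
    have : x' * z i j * x'⁻¹ = z i j := by
      rw [hx', show x * e ^ α.val * z i j * (x * e ^ α.val)⁻¹ =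
        x * (e ^ α.val * z i j * (e ^ α.val)⁻¹) * x⁻¹ by group, hconjz _ (N.pow_mem he _), hxz']
    exact mul_inv_eq_iff_eq_mul.1 this
  have hl1 : Commute x' l := by
    simpa [hz, ZMod.val_one] using hzx' 1 0
  have hf1 : Commute x' f := by
    simpa [hz, ZMod.val_one] using hzx' 0 1
  refine ⟨α.val, hn1, hl1, hf1, ?_⟩
  haveI := hN
  have hpre : ∀ g : Q, g ∈ N → QuotientGroup.mk' N g = 1 := fun g hg =>
    (QuotientGroup.eq_one_iff g).2 hg
  have hx'N : x' ^ p ∈ N := by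
    rw [← QuotientGroup.eq_one_iff, ← QuotientGroup.mk'_apply, hx', map_pow, map_mul,
      hpre _ (N.pow_mem he _), mul_one, ← map_pow, hpre _ hxp]
  obtain ⟨v, hv, hveq⟩ : ∃ v ∈ N, β x' = v * x' ^ lam := by
    refine ⟨β x' * (x' ^ lam)⁻¹, ?_, by group⟩
    rw [← QuotientGroup.eq_one_iff, ← QuotientGroup.mk'_apply, map_mul, map_inv, map_pow, hx',
      map_mul, hβx, map_pow β, hβe]
    simp only [map_mul, map_pow, hpre _ hw, hpre e he, hpre l hl, hpre f hf, one_pow,
      mul_one, one_mul, mul_inv_cancel]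
  -- `x' ^ p` is central
  obtain ⟨a, b, i, j, hvp⟩ := hgen _ hx'N
  have hab : a = 0 ∧ b = 0 := by
    have hcn : Commute (x' ^ p) n := hn1.pow_left p
    have hce : Commute (x' ^ p) e := by
      have h1 : x' * e * x'⁻¹ = e * (n ^ c.val * z i3 j3) := by
        rw [hx', show x * e ^ α.val * e * (x * e ^ α.val)⁻¹ = x * e * x⁻¹ by group, hxe, mul_assoc]
      have h2 : ∀ m : ℕ, x' ^ m * e * (x' ^ m)⁻¹ = e * (n ^ c.val * z i3 j3) ^ m := by
        intro m
        induction m with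
        | zero => simp
        | succ m ih =>
          rw [pow_succ', show x' * x' ^ m * e * (x' * x' ^ m)⁻¹ =
            x' * (x' ^ m * e * (x' ^ m)⁻¹) * x'⁻¹ by group, ih, ← conj_mul, h1,
            ((hn1.pow_right c.val).mul_right (hzx' i3 j3)).pow_right m |>.eq,
            mul_inv_cancel_right, mul_assoc, ← pow_succ']
      have h3 := h2 p
      rw [(zcomm i3 j3 _ (N.pow_mem hn c.val)).symm.mul_pow, zpow', ← pow_mul, mul_comm, pow_mul,
        hnp, one_pow, one_mul, ZMod.natCast_self, zero_mul, zero_mul, z00, mul_one] at h3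
      exact mul_inv_eq_iff_eq_mul.1 h3
    rw [hvp] at hcn hce
    have ha : a = 0 := by
      have h : n * e ^ a.val * n⁻¹ = e ^ a.val := by
        have h0 : n * (e ^ a.val * n ^ b.val * z i j) * n⁻¹ = e ^ a.val * n ^ b.val * z i j := by
          rw [mul_inv_eq_iff_eq_mul]; exact hcn.eq.symm
        rw [← conj_mul, ← conj_mul, hconjz n hn,
          show n * n ^ b.val * n⁻¹ = n ^ b.val by group] at h0
        exact mul_right_cancel (mul_right_cancel h0)
      have h' := hen a 1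
      rw [ZMod.val_one p, pow_one, one_mul, commutatorElement_def, h, mul_inv_cancel] at h'
      exact (zinj _ _ _ _ (z00.trans h')).1.symm
    refine ⟨ha, ?_⟩
    rw [ha, ZMod.val_zero, pow_zero, one_mul] at hce
    have h : n ^ b.val * e * (n ^ b.val)⁻¹ = e := by
      have h0 : n ^ b.val * z i j * e * (n ^ b.val * z i j)⁻¹ = e := by
        rw [mul_inv_eq_iff_eq_mul]; exact hce.eq
      rwa [show n ^ b.val * z i j * e * (n ^ b.val * z i j)⁻¹ =
        n ^ b.val * (z i j * e * (z i j)⁻¹) * (n ^ b.val)⁻¹ by group, (zcomm i j e he).eq,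
        mul_inv_cancel_right] at h0
    have h' := hen 1 b
    rw [ZMod.val_one p, pow_one, mul_one, commutatorElement_def, h, mul_inv_cancel] at h'
    exact (zinj _ _ _ _ (z00.trans h')).1.symm
  have hvp' : x' ^ p = z i j := by
    rw [hvp, hab.1, hab.2]; simp [hz]
  -- `v` commutes with `n` and `x'`
  obtain ⟨r, hr, hrf⟩ := hwn v hv μ
  have hr0' : r = 0 := by
    have h : β x' * β n * (β x')⁻¹ = β n := by
      rw [← map_inv, ← map_mul, ← map_mul, hn1.eq, mul_inv_cancel_right]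
    rw [hveq, hβn, show l ^ i2.val * f ^ j2.val = z i2 j2 from rfl,
      show v * x' ^ lam * (n ^ μ.val * z i2 j2) * (v * x' ^ lam)⁻¹ =
        v * (x' ^ lam * (n ^ μ.val * z i2 j2) * (x' ^ lam)⁻¹) * v⁻¹ by group,
      (((hn1.pow_right μ.val).mul_right (hzx' i2 j2)).pow_left lam).eq, mul_inv_cancel_right,
      ← conj_mul, hr, hconjz v hv, mul_assoc, zadd, mul_left_cancel_iff] at h
    obtain ⟨h, -⟩ := zinj _ _ _ _ h
    linear_combination h
  obtain ⟨b', i', j', hv'⟩ := hrf hr0' hμ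
  have hcvx : Commute v (x' ^ lam) := by
    rw [hv']
    exact (((hn1.pow_right b'.val).mul_right (hzx' i' j')).symm).pow_right lam
  have hv'p : v ^ p = 1 := by
    rw [hv', (zcomm i' j' _ (N.pow_mem hn b'.val)).symm.mul_pow, ← pow_mul, mul_comm, pow_mul, hnp,
      one_pow, one_mul, zpow', ZMod.natCast_self, zero_mul, zero_mul, z00]
  have h := congrArg β hvp'
  rw [map_pow, hveq, hcvx.mul_pow, hv'p, one_mul, ← pow_mul, mul_comm, pow_mul, hvp', zpow',
    hβz] at h
  obtain ⟨hi, hj⟩ := zinj _ _ _ _ h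
  have hj0 : j = 0 := by
    by_contra hne0
    refine h4 (mul_right_cancel₀ hne0 ?_)
    linear_combination -hj
  have hi0 : i = 0 := by
    by_contra hne0
    refine h3 (mul_right_cancel₀ hne0 ?_)
    rw [hj0, zero_mul, add_zero] at hi
    linear_combination -hi
  rw [hvp', hi0, hj0, z00]

end final

end Cfsg.Agent.Invol.EssThree
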