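import Cfsg.Agent.Lib.Fus.TorusExt
import Cfsg.Agent.Lib.Invol.EssThree.Setup
import Cfsg.Agent.Lib.Invol.EssThree.Irred
import Cfsg.Agent.Lib.Invol.EssThree.Transvection

/-!
# An essential subgroup needing three generators is normal when the sectional rank is three
-/

set_option autoImplicit false
set_option linter.style.haveILetI false
set_option linter.unusedSectionVars false

universe u

namespace Cfsg.Agent.Invol.EssThree

open Cfsg FusionSystem Cfsg.Agent.Fus
open scoped commutatorElement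

variable {p : ℕ} [hp : Fact p.Prime] {Ω : Type u} [Group Ω] {S : Subgroup Ω} [Finite S]
  {F : FusionSystem S}

/-- The frame on the normalizer of the subgroup. -/
noncomputable def Core.frame {E : Subgroup Ω} (D : Core F p E) (hS : IsPGroup p S) (hp3 : 3 ≤ p)
    (hlt : E < normalizerIn S E) : Frame p ↥(normalizerIn S E) where
  E := E.subgroupOf (normalizerIn S E)
  Φ := ((frattini E).map E.subtype).subgroupOf (normalizerIn S E)
  q g := @dite _ ((g : Ω) ∈ E) (Classical.dec _) (fun h => D.π ⟨g, h⟩) fun _ => 0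
  T := D.r.comp (TorusExt.cj F D.fn.1)
  normal := ⟨fun a ha g => (Subgroup.mem_normalizer_iff.1 g.2.2 _).1 ha⟩
  index_eq := by
    set T := D.r.comp (TorusExt.cj F D.fn.1) with hT
    have hker : T.ker = E.subgroupOf (normalizerIn S E) := by
      ext g
      rw [MonoidHom.mem_ker, Subgroup.mem_subgroupOf]
      refine ⟨fun h => ?_, fun h => D.r_inn hS ⟨⟨g, h⟩, MulEquiv.ext fun a => rfl⟩⟩
      obtain ⟨a, ha⟩ := D.ker_le _ h
      have hc : (a : Ω)⁻¹ * (g : Ω) ∈ centralizerIn S E := by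
        refine mem_centralizerIn.2 ⟨S.mul_mem (S.inv_mem (D.fn.1 a.2)) g.2.1, fun b hb => ?_⟩
        have h1 : (a : Ω) * b * (a : Ω)⁻¹ = g * b * (g : Ω)⁻¹ :=
          congrArg (fun f : MulAut E => ((f ⟨b, hb⟩ : E) : Ω)) ha
        have h2 : b = (a : Ω)⁻¹ * ((a : Ω) * b * (a : Ω)⁻¹) * a := by group
        rw [h1] at h2
        nth_rewrite 1 [h2]
        group
      have := E.mul_mem a.2 (D.centric hc)
      rwa [mul_inv_cancel_left] at this
    rw [← hker, Subgroup.index_ker]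
    have hG : IsPGroup p ↥(normalizerIn S E) := hS.to_le inf_le_left
    have hTp : IsPGroup p T.range := by
      rw [MonoidHom.range_eq_map]
      exact (hG.to_subgroup _).map _
    have hle : T.range ≤ D.r.range := by
      rintro _ ⟨g, rfl⟩
      exact ⟨_, rfl⟩
    have hb := D.emb.card_le hp3 hle hTp
    obtain ⟨i, hi⟩ := IsPGroup.iff_card.1 hTp
    refine le_antisymm hb ?_
    rw [hi]
    refine Nat.le_self_pow (fun h0 => ?_) p
    rw [h0, pow_zero, Subgroup.card_eq_one] at hi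
    obtain ⟨-, g, hg, hgE⟩ := SetLike.lt_iff_le_and_exists.1 hlt
    have h1 : T ⟨g, hg⟩ ∈ T.range := ⟨_, rfl⟩
    rw [hi, Subgroup.mem_bot] at h1
    exact hgE (Subgroup.mem_subgroupOf.1
      (hker ▸ MonoidHom.mem_ker.2 h1 : (⟨g, hg⟩ : ↥(normalizerIn S E)) ∈ E.subgroupOf _))
  le := by
    rintro g ⟨a, -, ha⟩
    have ha' : (a : Ω) = g := ha
    rw [Subgroup.mem_subgroupOf, ← ha']
    exact a.2
  q_mul a ha b hb := by
    rw [Subgroup.mem_subgroupOf] at ha hb
    simp only [Subgroup.coe_mul, dif_pos ha, dif_pos hb, dif_pos (E.mul_mem ha hb)]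
    exact D.π_mul ⟨a, ha⟩ ⟨b, hb⟩
  q_zero a ha := by
    rw [Subgroup.mem_subgroupOf] at ha
    simp only [dif_pos ha]
    rw [D.π_zero, Subgroup.mem_subgroupOf, Subgroup.mem_map]
    refine ⟨fun h => ⟨_, h, rfl⟩, fun ⟨b, hb, he⟩ => ?_⟩
    rwa [show (⟨a, ha⟩ : E) = b from Subtype.ext he.symm]
  q_surj v := by
    obtain ⟨a, rfl⟩ := D.π_surj v
    exact ⟨⟨a, le_normalizerIn D.fn.1 a.2⟩, a.2, by simp only [dif_pos a.2]⟩
  T_one a ha := D.r_inn hS ⟨⟨a, Subgroup.mem_subgroupOf.1 ha⟩, MulEquiv.ext fun b => rfl⟩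
  q_conj g a ha := by
    rw [Subgroup.mem_subgroupOf] at ha
    have hga : ((g * a * g⁻¹ : ↥(normalizerIn S E)) : Ω) ∈ E :=
      (Subgroup.mem_normalizer_iff.1 g.2.2 _).1 ha
    simp only [dif_pos ha, dif_pos hga]
    exact (congrArg D.π (Subtype.ext rfl)).trans (D.r_spec (TorusExt.cj F D.fn.1 g) ⟨a, ha⟩)
  phi_le L hL hc hpw := by
    haveI := finite_of_le D.fn.1
    have hEN : E ≤ normalizerIn S E := le_normalizerIn D.fn.1
    haveI : (L.comap (Subgroup.inclusion hEN)).Normal := hL.comap _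
    have hle : frattini E ≤ L.comap (Subgroup.inclusion hEN) := by
      refine Grp.frattini_le_of_elementary hp.out (Subgroup.commutator_le.2 fun a _ b _ => ?_)
        fun a => ?_
      · rw [Subgroup.mem_comap, map_commutatorElement]
        exact hc _ (Subgroup.mem_subgroupOf.2 a.2) _ (Subgroup.mem_subgroupOf.2 b.2)
      · rw [Subgroup.mem_comap, map_pow]
        exact hpw _ (Subgroup.mem_subgroupOf.2 a.2)
    rintro g ⟨a, ha, hag⟩
    rw [show g = Subgroup.inclusion hEN a from Subtype.ext hag.symm]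
    exact hle ha

/-- Conjugation by an element normalizing `N`, on `N`. -/
def conjAut {N : Subgroup Ω} {x : Ω} (hx : x ∈ Subgroup.normalizer (N : Set Ω)) : MulAut N :=
  N.normalizerMonoidHom ⟨x, hx⟩

theorem conjAut_apply {N : Subgroup Ω} {x : Ω} (hx : x ∈ Subgroup.normalizer (N : Set Ω)) (a : N) :
    ((conjAut hx a : N) : Ω) = x * a * x⁻¹ := rfl

theorem sq_zero {k : ℕ} (hk : k = 2) {g : (Fin k → ZMod p) ≃ₗ[ZMod p] (Fin k → ZMod p)} {j : ℕ}
    (hg : g ^ p ^ j = 1) (v : Fin k → ZMod p) : g (g v - v) - (g v - v) = 0 := by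
  subst hk
  set a : Module.End (ZMod p) (Fin 2 → ZMod p) :=
    (g : (Fin 2 → ZMod p) →ₗ[ZMod p] (Fin 2 → ZMod p)) with ha
  haveI : CharP (Module.End (ZMod p) (Fin 2 → ZMod p)) p :=
    charP_of_injective_algebraMap' (ZMod p) p
  have hpow : ∀ n : ℕ, ((g ^ n : (Fin 2 → ZMod p) ≃ₗ[ZMod p] (Fin 2 → ZMod p)) :
      (Fin 2 → ZMod p) →ₗ[ZMod p] (Fin 2 → ZMod p)) = a ^ n := fun n => by
    induction n with
    | zero => rfl
    | succ n ih => rw [pow_succ, pow_succ, ← ih]; rfl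
  have h0 : (a - 1) ^ p ^ j = 0 := by
    rw [sub_pow_char_pow_of_commute p j (Commute.one_right a), one_pow, ← hpow, hg]
    exact sub_self _
  have h2 : (a - 1) ^ 2 = 0 := by
    rcases le_or_gt 2 (p ^ j) with hm | hm
    · refine LinearMap.ker_eq_top.1 ?_
      have hf : Module.finrank (ZMod p) (Fin 2 → ZMod p) = 2 := by simp
      have hk := Module.End.ker_pow_eq_ker_pow_finrank_of_le (f := a - 1) (m := p ^ j)
        (by rw [hf]; exact hm)
      rw [h0, hf] at hk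
      rw [← hk]
      exact LinearMap.ker_zero
    · exact pow_eq_zero_of_le hm.le h0
  have h := LinearMap.congr_fun h2 v
  simp only [pow_succ, pow_zero, one_mul, Module.End.mul_apply, LinearMap.sub_apply,
    Module.End.one_apply, map_sub, ha, LinearEquiv.coe_coe, LinearMap.zero_apply] at h
  rw [← h, map_sub]

theorem isPGroup_of_prime_order {M : Type*} [Group M] [Finite M] (K : Subgroup M)
    (h : ∀ b ∈ K, ∀ q : ℕ, q.Prime → q ≠ p → b ^ q = 1 → b = 1) : IsPGroup p K := by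
  rw [IsPGroup.iff_card]
  refine ⟨_, Nat.eq_prime_pow_of_unique_prime_dvd Nat.card_pos.ne' fun {q} hq hdvd => ?_⟩
  by_contra hne
  haveI : Fact q.Prime := ⟨hq⟩
  obtain ⟨b, hb⟩ := exists_prime_orderOf_dvd_card' (G := K) q hdvd
  have h1 := h b b.2 q hq hne (by rw [← SubmonoidClass.coe_pow, ← hb, pow_orderOf_eq_one]; rfl)
  rw [show b = 1 from Subtype.ext h1, orderOf_one] at hb
  exact hq.ne_one hb.symm

theorem chain_step {G : Type*} [Group G] (U : Subgroup G) [U.Normal] (hpU : ∀ v : G, v ^ p ∈ U)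
    (b : MulAut G) (hU : ∀ u ∈ U, b u ∈ U) {q : ℕ} (hq : q.Prime) (hqp : q ≠ p) (hb : b ^ q = 1)
    {g : G} (hv : (g⁻¹ * b g)⁻¹ * b (g⁻¹ * b g) ∈ U) : g⁻¹ * b g ∈ U := by
  set v := g⁻¹ * b g with hvdef
  let B : G ⧸ U →* G ⧸ U := QuotientGroup.map U U b.toMonoidHom hU
  have hB : ∀ y : G, B (QuotientGroup.mk' U y) = QuotientGroup.mk' U (b y) := fun y => rfl
  have hvq : B (QuotientGroup.mk' U v) = QuotientGroup.mk' U v := by
    rw [hB, QuotientGroup.mk'_apply, QuotientGroup.mk'_apply, eq_comm, QuotientGroup.eq]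
    exact hv
  have hi : ∀ i : ℕ, QuotientGroup.mk' U ((b ^ i) g) =
      QuotientGroup.mk' U g * QuotientGroup.mk' U v ^ i := by
    intro i
    induction i with
    | zero => simp
    | succ i ih =>
      rw [pow_succ', MulAut.mul_apply, ← hB, ih, map_mul, map_pow, hvq, hB,
        show b g = g * v by rw [hvdef]; group, map_mul, mul_assoc, ← pow_succ']
  have h1 := hi q
  rw [hb, MulAut.one_apply, left_eq_mul] at h1
  have h2 : QuotientGroup.mk' U v ^ p = 1 := by
    rw [← map_pow, QuotientGroup.mk'_apply, QuotientGroup.eq_one_iff]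
    exact hpU v
  have hd := Nat.dvd_gcd (orderOf_dvd_of_pow_eq_one h1) (orderOf_dvd_of_pow_eq_one h2)
  rw [(Nat.coprime_primes hq hp.out).2 hqp, Nat.dvd_one, orderOf_eq_one_iff,
    QuotientGroup.mk'_apply, QuotientGroup.eq_one_iff] at hd
  exact hd

theorem exists_generator_field (hp5 : 5 ≤ p) :
    ∃ t : ZMod p, t ≠ 0 ∧ t * t ≠ 1 ∧ t * t * t ≠ 1 ∧ t * t * t * t * t ≠ 1 := by
  obtain ⟨g, hg⟩ := IsCyclic.exists_generator (α := (ZMod p)ˣ)
  have hord : orderOf g = p - 1 := by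
    rw [orderOf_eq_card_of_forall_mem_zpowers hg, Nat.card_eq_fintype_card, ZMod.card_units]
  have hval : orderOf (g : ZMod p) = p - 1 := by rw [orderOf_units, hord]
  have key : ∀ m : ℕ, (g : ZMod p) ^ m = 1 → p - 1 ∣ m := fun m h =>
    hval ▸ orderOf_dvd_of_pow_eq_one h
  refine ⟨g, Units.ne_zero g, fun h => ?_, fun h => ?_, fun h => ?_⟩
  · have := Nat.le_of_dvd two_pos (key 2 (by rw [sq]; exact h))
    omega
  · have := Nat.le_of_dvd (by norm_num) (key 3 (by rw [pow_succ, sq]; exact h))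
    omega
  · rcases (Nat.dvd_prime (by norm_num)).1 (key 5 (by rw [pow_succ, pow_succ, pow_succ, sq]; exact h))
      with h1 | h1
    · omega
    · have h6 : p = 6 := by omega
      exact absurd hp.out (by rw [h6]; norm_num)

set_option maxHeartbeats 2000000 in
/-- The contradiction, with the normalizer fully normalized. -/
theorem core_false (hS : IsPGroup p S) (hp5 : 5 ≤ p) (hsr : Cfsg.SectionalPRankLE p 3 S)
    (hF : F.IsSaturated p) {E : Subgroup Ω} (D : Core F p E) (hlt : normalizerIn S E < S)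
    (hNn : F.IsFullyNormalized (normalizerIn S E)) : False := by
  classical
  have hp3 : 3 ≤ p := by omega
  have hES : E < S := lt_of_le_of_lt (le_normalizerIn D.fn.1) hlt
  have hEN : E < normalizerIn S E := lt_normalizerIn hS hES
  set N := normalizerIn S E with hN
  haveI := finite_of_le (S := S) hlt.le
  set Fr := D.frame hS hp3 hEN with hFr
  have hFq : ∀ (g : N) (hg : (g : Ω) ∈ E), Fr.q g = D.π ⟨g, hg⟩ := fun g hg => dif_pos hg
  have hG : IsPGroup p N := hS.to_le hlt.le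
  have hrankS : Rank3 p S := rank3_of_sectional hsr
  have hR : Rank3 p N := hrankS.of_injective _ (Subgroup.inclusion_injective hlt.le)
  -- an element of `N_S(N)` outside `N`
  obtain ⟨x, hxP, hxN, hxp⟩ : ∃ x ∈ normalizerIn S N, x ∉ N ∧ x ^ p ∈ N := by
    obtain ⟨-, x0, hx0, hx0N⟩ := SetLike.lt_iff_le_and_exists.1 (lt_normalizerIn hS hlt)
    have hex : ∃ j : ℕ, x0 ^ p ^ j ∈ N := by
      obtain ⟨j, hj⟩ := hS ⟨x0, hx0.1⟩
      exact ⟨j, by rw [show x0 ^ p ^ j = 1 from congrArg Subtype.val hj]; exact N.one_mem⟩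
    have h0 : Nat.find hex ≠ 0 := fun h => hx0N (by
      have := Nat.find_spec hex
      rwa [h, pow_zero, pow_one] at this)
    obtain ⟨i, hi⟩ := Nat.exists_eq_succ_of_ne_zero h0
    refine ⟨x0 ^ p ^ i, Subgroup.pow_mem _ hx0 _, Nat.find_min hex (by omega), ?_⟩
    rw [← pow_mul, ← pow_succ, show i + 1 = Nat.find hex from hi.symm]
    exact Nat.find_spec hex
  have hxx : x * x ∉ N := fun h => hxN (by
    obtain ⟨m, hm⟩ := (hp.out.eq_two_or_odd').resolve_left (by omega)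
    have h1 : x = x ^ p * ((x * x) ^ m)⁻¹ := by
      rw [hm, ← sq, ← pow_mul, pow_succ' x (2 * m), mul_inv_cancel_right]
    rw [h1]
    exact N.mul_mem hxp (N.inv_mem (N.pow_mem h m)))
  set ξ : MulAut N := conjAut hxP.2 with hξdef
  have hfix : ∀ y, ∀ hy : y ∈ normalizerIn S N,
      (∀ a : N, (a : Ω) ∈ E → ((conjAut hy.2 a : N) : Ω) ∈ E) → y ∈ N := by
    intro y hy hE'
    refine ⟨hy.1, mem_normalizer_of_forall (fun a ha => hE' ⟨a, le_normalizerIn D.fn.1 ha⟩ ha) ?_⟩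
    have heq : Fr.E.map (conjAut hy.2).toMonoidHom = Fr.E := by
      refine Subgroup.eq_of_le_of_card_ge ?_
        (Subgroup.card_map_of_injective (conjAut hy.2).injective).ge
      rintro _ ⟨a, ha, rfl⟩
      exact hE' a ha
    intro a ha
    obtain ⟨b, hb, hba⟩ := heq.ge
      (show (⟨a, le_normalizerIn D.fn.1 ha⟩ : N) ∈ Fr.E from Subgroup.mem_subgroupOf.2 ha)
    have hba' : y * (b : Ω) * y⁻¹ = a := congrArg Subtype.val hba
    rw [← hba', show y⁻¹ * (y * (b : Ω) * y⁻¹) * y = (b : Ω) by group]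
    exact hb
  have hξ : Fr.E.map ξ.toMonoidHom ≠ Fr.E := fun h =>
    hxN (hfix x hxP fun a ha => h.le ⟨a, ha, rfl⟩)
  have hξ2 : Fr.E.map (ξ ^ 2).toMonoidHom ≠ Fr.E := fun h => by
    refine hxx (hfix (x * x) (Subgroup.mul_mem _ hxP hxP) fun a ha => ?_)
    have h1 : ((((ξ ^ 2) a) : N) : Ω) ∈ E := h.le ⟨a, ha, rfl⟩
    rw [sq, MulAut.mul_apply, hξdef, conjAut_apply, conjAut_apply] at h1
    rw [conjAut_apply]
    convert h1 using 1
    group
  obtain ⟨n, hn⟩ : ∃ n : N, n ∉ Fr.E := by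
    obtain ⟨-, g, hg, hgE⟩ := SetLike.lt_iff_le_and_exists.1 hEN
    exact ⟨⟨g, hg⟩, fun h => hgE (Subgroup.mem_subgroupOf.1 h)⟩
  have hTX : ∀ g, Fr.T g ∈ D.r.range := fun g => ⟨_, rfl⟩
  have hτ1 : Fr.T n ≠ 1 := fun h => hn (by
    have hrI : (Fr.T n) = D.r (TorusExt.cj F D.fn.1 n) := rfl
    rw [hrI] at h
    obtain ⟨a, ha⟩ := D.ker_le _ h
    have hc : (a : Ω)⁻¹ * (n : Ω) ∈ centralizerIn S E := by
      refine mem_centralizerIn.2 ⟨S.mul_mem (S.inv_mem (D.fn.1 a.2)) n.2.1, fun b hb => ?_⟩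
      have h1 : (a : Ω) * b * (a : Ω)⁻¹ = n * b * (n : Ω)⁻¹ :=
        congrArg (fun f : MulAut E => ((f ⟨b, hb⟩ : E) : Ω)) ha
      have h2 : b = (a : Ω)⁻¹ * ((a : Ω) * b * (a : Ω)⁻¹) * a := by group
      rw [h1] at h2
      nth_rewrite 1 [h2]
      group
    have := E.mul_mem a.2 (D.centric hc)
    rw [mul_inv_cancel_left] at this
    exact Subgroup.mem_subgroupOf.2 this)
  by_cases hreg : ∃ v, Fr.T n (Fr.T n v - v) - (Fr.T n v - v) ≠ 0
  · obtain ⟨e, he⟩ := hreg
    refine regular_false hp5 hG hR Fr ξ hξ hξ2 (D.r.range : Set (GL3 p)) ?_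
      (fun U hU => D.emb.irreducible hp3 (hTX n) (Fr.T_pow n) he U hU) ?_
    · rintro _ ⟨α, rfl⟩
      refine ⟨(MulAut.congr (Subgroup.subgroupOfEquivOfLe (le_normalizerIn D.fn.1)).symm) α,
        fun a => ?_⟩
      have ha : ((a : N) : Ω) ∈ E := a.2
      rw [hFq a ha, ← D.r_spec]
      exact (hFq _ (Subgroup.mem_subgroupOf.1
        ((MulAut.congr (Subgroup.subgroupOfEquivOfLe (le_normalizerIn D.fn.1)).symm) α a).2)).trans rfl
    · intro u hu
      by_contra hcon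
      push Not at hcon
      have hsq : ∀ w, Fr.T u (Fr.T u w - w) - (Fr.T u w - w) = 0 := by
        intro w
        obtain ⟨v, hv, rfl⟩ := Fr.q_surj w
        have h := (Fr.q_zero _ (Fr.comm_mem_E u (Fr.comm_mem_E u hv))).2 (hcon v hv)
        rw [Fr.q_comm u (Fr.comm_mem_E u hv), Fr.q_comm u hv] at h
        exact h
      obtain ⟨i, a, ha, rfl⟩ := Fr.exists_decomp hn u
      rw [map_mul, Fr.T_one a ha, one_mul, map_pow] at hsq
      have hi : (i : ZMod p) ≠ 0 := fun h => hu (by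
        obtain ⟨c, rfl⟩ := (ZMod.natCast_eq_zero_iff _ _).1 h
        rw [pow_mul]
        exact Fr.E.mul_mem ha (Fr.E.pow_mem (Fr.pow_p_mem n) c))
      have hti : (Fr.T n ^ i) ^ (i : ZMod p)⁻¹.val = Fr.T n := by
        conv_rhs => rw [← pow_one (Fr.T n)]
        rw [← pow_mul, pow_eq_pow_mod _ (Fr.T_pow n), pow_eq_pow_mod 1 (Fr.T_pow n)]
        congr 1
        have h1 : ((i * (i : ZMod p)⁻¹.val : ℕ) : ZMod p) = ((1 : ℕ) : ZMod p) := by
          rw [Nat.cast_mul, ZMod.natCast_zmod_val, mul_inv_cancel₀ hi, Nat.cast_one]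
        exact (ZMod.natCast_eq_natCast_iff' _ _ _).1 h1
      have hne : Fr.T n ^ i ≠ 1 := fun h => hτ1 (by rw [← hti, h, one_pow])
      obtain ⟨φ, c, hz⟩ := exists_isTv hne hsq
      refine he ?_
      rw [← hti, hz.pow_apply, hz.pow_apply, add_sub_cancel_left, add_sub_cancel_left, map_smul,
        hz.vanish, smul_zero, mul_zero, zero_smul]
  push Not at hreg
  -- the transvection case
  obtain ⟨e, l, f, hli, hTe, hTl, hTf, htor⟩ :=
    D.emb.transvection_frame (hTX n) hτ1 (Fr.T_pow n) hreg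
  obtain ⟨t, ht0, ht2, ht3, ht5⟩ := exists_generator_field hp5
  have ht1 : t ≠ 1 := fun h => ht2 (by rw [h, one_mul])
  obtain ⟨d, ⟨t0, hdt⟩, hde, hdl, hdf⟩ := htor t ht0
  set μ : ℕ := ((t * t)⁻¹).val with hμdef
  have hμ : (μ : ZMod p) = (t * t)⁻¹ := ZMod.natCast_zmod_val _
  have hpowT : ∀ i : ℕ, (Fr.T n ^ i) e = e + (i : ZMod p) • l := fun i => by
    induction i with
    | zero => simp
    | succ i ih =>
      rw [pow_succ, LinearEquiv.mul_apply, hTe, map_add, ih, pow_fix hTl i, Nat.cast_succ, add_smul,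
        one_smul, add_assoc]
  have hds : d.symm e = t⁻¹ • e ∧ d.symm l = t • l ∧ d.symm f = f := by
    refine ⟨?_, ?_, ?_⟩ <;> rw [LinearEquiv.symm_apply_eq]
    · rw [map_smul, hde, smul_smul, inv_mul_cancel₀ ht0, one_smul]
    · rw [map_smul, hdl, smul_smul, mul_inv_cancel₀ ht0, one_smul]
    · exact hdf.symm
  have hconjτ : d * Fr.T n * d⁻¹ = Fr.T n ^ μ := by
    refine LinearEquiv.ext fun v => ?_
    obtain ⟨a, b, c, rfl⟩ := span_three hli v
    show d (Fr.T n (d.symm (a • e + b • l + c • f))) = (Fr.T n ^ μ) (a • e + b • l + c • f)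
    simp only [map_add, map_smul, hds.1, hds.2.1, hds.2.2, hTe, hTl, hTf, hde, hdl, hdf, hpowT,
      pow_fix hTl μ, pow_fix hTf μ, hμ, smul_add, smul_smul, inv_mul_cancel₀ ht0, mul_inv,
      mul_inv_cancel_right₀ ht0, inv_mul_cancel_right₀ ht0]
    module
  have hNS : N ≤ S := hlt.le
  haveI := finite_of_le D.fn.1
  have hkerMA : ∀ g, (toMulAut p 3).comp D.r g = 1 → (g : MulAut E) ∈ Inn E := fun g hg =>
    D.ker_le g (toMulAut_injective p 3 (by rw [map_one]; exact hg))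
  obtain ⟨β0, hβ0, hβ0E, hβ0N, hβ0e⟩ := TorusExt.exists_ext (Q := Multiplicative (V3 p)) hS D.centric
    ((toMulAut p 3).comp D.r) hkerMA hF D.fn t0 (fun g => by
      obtain ⟨i, a, ha, hga⟩ := Fr.exists_decomp hn g
      refine ⟨n ^ (μ * i), ?_⟩
      have hg : D.r (TorusExt.cj F D.fn.1 g) = Fr.T n ^ i := by
        show Fr.T g = _
        rw [hga, map_mul, Fr.T_one a ha, one_mul, map_pow]
      have hy : D.r (TorusExt.cj F D.fn.1 (n ^ (μ * i))) = Fr.T n ^ (μ * i) := by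
        show Fr.T (n ^ (μ * i)) = _
        rw [map_pow]
      simp only [MonoidHom.comp_apply, ← map_inv (toMulAut p 3), ← map_mul (toMulAut p 3)]
      rw [hg, hy, hdt, ← conj_pow, hconjτ, ← pow_mul])
  have hβimg : fimg β0 N = N := by
    refine Subgroup.eq_of_le_of_card_ge (fimg_le hβ0N) (le_of_eq ?_)
    exact hβ0.card_fimg.symm
  obtain ⟨β1, hβ1, hβ1e⟩ := hβ0.exists_aut hβimg
  have hβapp : ∀ g : N, ((β1 g : N) : Ω) = β0 g := fun g => by rw [← autFun_coe, hβ1e _ g.2]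
  have hβq : ∀ a ∈ Fr.E, Fr.q (β1 a) = d (Fr.q a) := by
    intro a ha
    have ha' : (a : Ω) ∈ E := ha
    have h1 : ((β1 a : N) : Ω) = (((t0 : MulAut E) ⟨a, ha'⟩ : E) : Ω) := by
      rw [hβapp]; exact hβ0E ⟨a, ha'⟩
    rw [hFq a ha', hFq _ (h1 ▸ SetLike.coe_mem _), ← hdt, ← D.r_spec]
    exact congrArg D.π (Subtype.ext h1)
  have hβn : β1 n * (n ^ μ)⁻¹ ∈ Fr.E := by
    have h := hβ0e n (n ^ μ) (by
      simp only [MonoidHom.comp_apply, ← map_inv (toMulAut p 3), ← map_mul (toMulAut p 3)]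
      rw [hdt, show D.r (TorusExt.cj F D.fn.1 n) = Fr.T n from rfl,
        show D.r (TorusExt.cj F D.fn.1 (n ^ μ)) = Fr.T (n ^ μ) from rfl, map_pow, hconjτ])
    refine Subgroup.mem_subgroupOf.2 ?_
    simpa [hβapp] using h
  obtain ⟨hpowΦ, hTspan, hchar⟩ := transvection_phi hp5 hR Fr hn hli hTe hTl hTf β1 hβq ht0 ht1
    ht2 hde hdl hdf hμ hβn
  -- invariant subgroups of `N`
  haveI hΦn : Fr.Φ.Normal := Fr.phi_normal
  haveI hEn : Fr.E.Normal := Fr.normal
  set U1 := Submodule.span (ZMod p) {l} with hU1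
  set U2 := Submodule.span (ZMod p) {l, f} with hU2
  set L := Fr.pre U1 with hL
  set Zg := Fr.pre U2 with hZg
  have hU12 : U1 ≤ U2 := Submodule.span_mono (by simp)
  have hTg : ∀ g v, Fr.T g v - v ∈ U1 := fun g v => by
    obtain ⟨a, ha, rfl⟩ := Fr.q_surj v
    exact hTspan g a ha
  have hTfix : ∀ g, ∀ v ∈ U2, Fr.T g v = v := by
    intro g v hv
    obtain ⟨i, a, ha, rfl⟩ := Fr.exists_decomp hn g
    obtain ⟨r, s, rfl⟩ := Submodule.mem_span_pair.1 hv
    rw [map_mul, Fr.T_one a ha, one_mul, map_pow, map_add, map_smul, map_smul, pow_fix hTl,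
      pow_fix hTf]
  have hLn : L.Normal := Fr.pre_normal fun g v hv => by rw [hTfix g v (hU12 hv)]; exact hv
  have hZn : Zg.Normal := Fr.pre_normal fun g v hv => by rw [hTfix g v hv]; exact hv
  have hΦL : Fr.Φ ≤ L := Fr.phi_le_pre _
  have hLZ : L ≤ Zg := fun a ha => ⟨ha.1, hU12 ha.2⟩
  have hcomm : ∀ g h : N, ⁅g, h⁆ ∈ L := by
    intro g h
    haveI := hLn
    obtain ⟨i, a, ha, rfl⟩ := Fr.exists_decomp hn g
    obtain ⟨j, c, hc, rfl⟩ := Fr.exists_decomp hn h
    have hcen : ∀ y ∈ Fr.E, ∀ g : N,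
        Commute (QuotientGroup.mk' L y) (QuotientGroup.mk' L g) := fun y hy g => by
      rw [commute_iff_eq, eq_comm, ← commutatorElement_eq_one_iff_mul_comm, ← map_commutatorElement,
        QuotientGroup.mk'_apply, QuotientGroup.eq_one_iff]
      exact ⟨Fr.comm_mem_E g hy, by rw [Fr.q_comm g hy]; exact hTg g _⟩
    rw [← QuotientGroup.eq_one_iff, ← QuotientGroup.mk'_apply, map_commutatorElement,
      commutatorElement_eq_one_iff_mul_comm, map_mul, map_mul]
    refine Commute.eq ?_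
    refine Commute.mul_left ((hcen a ha c).mul_right (hcen a ha _)) ?_
    refine Commute.mul_right (hcen c hc _).symm ?_
    rw [map_pow, map_pow]
    exact (Commute.refl _).pow_pow i j
  have hZcomm : ∀ g, ∀ z ∈ Zg, ⁅g, z⁆ ∈ Fr.Φ := fun g z hz => by
    rw [← Fr.q_zero _ (Fr.comm_mem_E g hz.1), Fr.q_comm g hz.1, hTfix g _ hz.2, sub_self]
  obtain ⟨e0, he0, he0q⟩ := Fr.q_surj e
  obtain ⟨f0, hf0, hf0q⟩ := Fr.q_surj f
  set l0 := ⁅n, e0⁆ with hl0
  have hl0E : l0 ∈ Fr.E := Fr.comm_mem_E n he0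
  have hl0q : Fr.q l0 = l := by rw [hl0, Fr.q_comm n he0, he0q, hTe]; abel
  have hl0L : l0 ∈ L := ⟨hl0E, by rw [hl0q]; exact Submodule.mem_span_singleton_self l⟩
  have hf0Z : f0 ∈ Zg := ⟨hf0, by rw [hf0q]; exact Submodule.subset_span (by simp)⟩
  have hΦinv : ∀ a : MulAut N, ∀ y ∈ Fr.Φ, a y ∈ Fr.Φ := fun a y hy =>
    (hchar a).le ⟨y, hy, rfl⟩
  have hLinv : ∀ a : MulAut N, ∀ y ∈ L, a y ∈ L := by
    intro a y hy
    obtain ⟨r, hr⟩ := Submodule.mem_span_singleton.1 hy.2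
    have hφ : (l0 ^ r.val)⁻¹ * y ∈ Fr.Φ := by
      rw [← Fr.q_eq_iff (Fr.E.pow_mem hl0E _) hy.1, Fr.q_pow hl0E, hl0q, ← hr,
        ZMod.natCast_zmod_val]
    rw [show y = l0 ^ r.val * ((l0 ^ r.val)⁻¹ * y) from (mul_inv_cancel_left _ _).symm, map_mul,
      map_pow]
    refine L.mul_mem (L.pow_mem ?_ _) (hΦL (hΦinv a _ hφ))
    rw [hl0, map_commutatorElement]
    exact hcomm _ _
  have hZchar : ∀ g : N, (∀ h : N, ⁅h, g⁆ ∈ Fr.Φ) → g ∈ Zg := by
    intro g hg
    obtain ⟨i, a, ha, rfl⟩ := Fr.exists_decomp hn g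
    have hi : (i : ZMod p) = 0 := by
      have h1 := hg e0
      rw [← commutatorElement_inv] at h1
      have h2 := (Fr.q_zero _ (Fr.comm_mem_E (a * n ^ i) he0)).2 (inv_mem_iff.1 h1)
      rw [Fr.q_comm _ he0, map_mul, Fr.T_one a ha, one_mul, map_pow, he0q, hpowT,
        add_sub_cancel_left, smul_eq_zero] at h2
      exact h2.resolve_right (hli.ne_zero 1)
    obtain ⟨c, rfl⟩ := (ZMod.natCast_eq_zero_iff _ _).1 hi
    have hg1 : a * n ^ (p * c) ∈ Fr.E := by
      rw [pow_mul]; exact Fr.E.mul_mem ha (Fr.E.pow_mem (Fr.pow_p_mem n) c)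
    refine ⟨hg1, ?_⟩
    obtain ⟨r, s, w, hq⟩ := span_three hli (Fr.q (a * n ^ (p * c)))
    have h2 := (Fr.q_zero _ (Fr.comm_mem_E n hg1)).2 (hg n)
    rw [Fr.q_comm n hg1, hq, map_add, map_add, map_smul, map_smul, map_smul, hTe, hTl, hTf,
      show r • (e + l) + s • l + w • f - (r • e + s • l + w • f) = r • l by module,
      smul_eq_zero] at h2
    rw [hq, h2.resolve_right (hli.ne_zero 1), zero_smul, zero_add]
    exact Submodule.mem_span_pair.2 ⟨_, _, rfl⟩
  have hZinv : ∀ a : MulAut N, ∀ z ∈ Zg, a z ∈ Zg := fun a z hz => hZchar _ fun h => by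
    obtain ⟨h', rfl⟩ := a.surjective h
    rw [← map_commutatorElement]
    exact hΦinv a _ (hZcomm h' z hz)
  -- coordinates on `N / Zg`
  obtain ⟨k, q2, hq2m, hq20, hq2s, -⟩ := exists_coord (p := p) (⊤ : Subgroup N) Zg le_top
    (fun a _ b _ => hLZ (hcomm a b)) (fun a _ => hLZ (hΦL (hpowΦ a)))
  have hq2m' : ∀ a b, q2 (a * b) = q2 a + q2 b := fun a b => hq2m a trivial b trivial
  have hq20' : ∀ a, q2 a = 0 ↔ a ∈ Zg := fun a => hq20 a trivial
  have hq2pow : ∀ (a : N) (i : ℕ), q2 (a ^ i) = (i : ZMod p) • q2 a := fun a i => by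
    induction i with
    | zero => rw [pow_zero, (hq20' 1).2 Zg.one_mem, Nat.cast_zero, zero_smul]
    | succ i ih => rw [pow_succ, hq2m', ih, Nat.cast_succ, add_smul, one_smul]
  set E2 := q2 e0 with hE2
  set N2 := q2 n with hN2
  have hdec : ∀ a ∈ Fr.E, ∃ r : ZMod p, ∃ z ∈ Zg, a = e0 ^ r.val * z := by
    intro a ha
    obtain ⟨r, s, w, hq⟩ := span_three hli (Fr.q a)
    refine ⟨r, (e0 ^ r.val)⁻¹ * a, ⟨Fr.E.mul_mem (Fr.E.inv_mem (Fr.E.pow_mem he0 _)) ha, ?_⟩,
      (mul_inv_cancel_left _ _).symm⟩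
    rw [Fr.q_mul _ (Fr.E.inv_mem (Fr.E.pow_mem he0 _)) _ ha, Fr.q_inv (Fr.E.pow_mem he0 _),
      Fr.q_pow he0, he0q, ZMod.natCast_zmod_val, hq,
      show -(r • e) + (r • e + s • l + w • f) = s • l + w • f by abel]
    exact Submodule.mem_span_pair.2 ⟨_, _, rfl⟩
  have hspan2 : ∀ v, ∃ a b : ZMod p, v = a • E2 + b • N2 := by
    intro v
    obtain ⟨g, -, rfl⟩ := hq2s v
    obtain ⟨i, a, ha, rfl⟩ := Fr.exists_decomp hn g
    obtain ⟨r, z, hz, rfl⟩ := hdec a ha
    refine ⟨r, i, ?_⟩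
    rw [hq2m', hq2m', hq2pow, hq2pow, (hq20' z).2 hz, add_zero, ZMod.natCast_zmod_val]
  have hind2 : ∀ a b : ZMod p, a • E2 + b • N2 = 0 → a = 0 ∧ b = 0 := by
    intro a b h
    have hmem : e0 ^ a.val * n ^ b.val ∈ Zg := by
      rw [← hq20', hq2m', hq2pow, hq2pow, ZMod.natCast_zmod_val, ZMod.natCast_zmod_val]
      exact h
    have hb : b = 0 := by
      by_contra hb
      have h1 : n ^ b.val ∈ Fr.E := (Fr.E.mul_mem_cancel_left (Fr.E.pow_mem he0 _)).1 hmem.1
      have h2 : Fr.T n ^ b.val = 1 := by rw [← map_pow]; exact Fr.T_one _ h1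
      have h3 := hpowT b.val
      rw [h2, ZMod.natCast_zmod_val] at h3
      exact (smul_ne_zero hb (hli.ne_zero 1)) (left_eq_add.1 h3)
    refine ⟨?_, hb⟩
    rw [hb, ZMod.val_zero, pow_zero, mul_one] at hmem
    obtain ⟨r, s, hrs⟩ := Submodule.mem_span_pair.1 hmem.2
    rw [Fr.q_pow he0, he0q, ZMod.natCast_zmod_val] at hrs
    have h := Fintype.linearIndependent_iff.1 hli ![-a, r, s] (by
      simp only [Fin.sum_univ_three, Matrix.cons_val_zero, Matrix.cons_val_one, Matrix.cons_val]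
      rw [add_assoc, hrs]
      module) 0
    simpa using h
  have hk : k = 2 := by
    have hli2 : LinearIndependent (ZMod p) ![E2, N2] := LinearIndependent.pair_iff.2 hind2
    have hle := hli2.fintype_card_le_finrank
    simp only [Fintype.card_fin, Module.finrank_fin_fun] at hle
    have hsp : ⊤ ≤ Submodule.span (ZMod p) (Set.range ![E2, N2]) := fun v _ => by
      obtain ⟨a, b, rfl⟩ := hspan2 v
      exact add_mem (Submodule.smul_mem _ _ (Submodule.subset_span ⟨0, rfl⟩))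
        (Submodule.smul_mem _ _ (Submodule.subset_span ⟨1, rfl⟩))
    have := Module.finrank_eq_card_basis (Module.Basis.mk hli2 hsp)
    simp only [Module.finrank_fin_fun, Fintype.card_fin] at this
    exact this
  -- the linear action of `Aut_F(N)`
  obtain ⟨A, hA⟩ := exists_action q2 hq2m' (fun v => let ⟨g, _, hg⟩ := hq2s v; ⟨g, hg⟩)
    (F.autGroup N).subtype fun m h h0 => (hq20' _).2 (hZinv (m : MulAut N) h ((hq20' h).1 h0))
  haveI : Finite (MulAut N) :=
    Finite.of_injective (fun e : MulAut N => (e : N → N)) DFunLike.coe_injective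
  set G1 := normalizerIn S N with hG1
  set c2 := TorusExt.cj F hNS with hc2
  set X : ↥(normalizerIn S N) := ⟨x, hxP⟩ with hX
  set τ2 := A (c2 X) with hτ2
  have hPp : IsPGroup p ↥(normalizerIn S N) := hS.to_le inf_le_left
  have hmove : ∀ a : N, a ∈ Fr.E → (c2 X : MulAut N) a = ξ a := fun a _ => rfl
  have hτ2e : τ2 E2 ≠ E2 := by
    intro h
    refine hξ (Subgroup.eq_of_le_of_card_ge ?_
      (Subgroup.card_map_of_injective ξ.injective).ge)
    have hee : e0⁻¹ * ξ e0 ∈ Zg := by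
      have h2 := hq2m' e0⁻¹ (ξ e0)
      have h3 := hq2m' e0⁻¹ e0
      rw [inv_mul_cancel, (hq20' 1).2 Zg.one_mem] at h3
      have h4 : q2 (ξ e0) = E2 := by
        rw [← h]; exact hA (c2 X) e0
      rw [h4, ← h3, hq20'] at h2
      exact h2
    rintro _ ⟨a, ha, rfl⟩
    obtain ⟨r, z, hz, rfl⟩ := hdec a ha
    show ξ (e0 ^ r.val * z) ∈ Fr.E
    rw [map_mul, map_pow, show ξ e0 = e0 * (e0⁻¹ * ξ e0) by group]
    exact Fr.E.mul_mem (Fr.E.pow_mem (Fr.E.mul_mem he0 hee.1) _) (hZinv ξ z hz).1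
  have hQcard : Nat.card (Multiplicative (Fin k → ZMod p)) = p ^ 2 := by
    show Nat.card (Fin k → ZMod p) = _
    rw [Nat.card_fun, Nat.card_fin, Nat.card_zmod, hk]
  have hgen2 : ∀ y, ∃ i : ℕ, A (c2 y) = τ2 ^ i := by
    intro y
    set P2 := (((toMulAut p k).comp A).comp c2).range with hP2
    have hP2p : IsPGroup p P2 := by
      rw [hP2, MonoidHom.range_eq_map]
      exact (hPp.to_subgroup _).map _
    have hb := TorusExt.card_le_of_pgroup_aut hQcard hP2p
    have hm : toMulAut p k τ2 ∈ P2 := ⟨X, rfl⟩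
    have hne : toMulAut p k τ2 ≠ 1 := fun h => hτ2e (by
      rw [toMulAut_injective p k (h.trans (map_one _).symm)]
      rfl)
    have hz : Subgroup.zpowers (toMulAut p k τ2) = P2 := by
      refine Subgroup.eq_of_le_of_card_ge (Subgroup.zpowers_le.2 hm) (hb.trans ?_)
      rw [Nat.card_zpowers]
      obtain ⟨i, hi⟩ := hP2p ⟨_, hm⟩
      obtain ⟨j, -, hj⟩ := (Nat.dvd_prime_pow hp.out).1
        (orderOf_dvd_of_pow_eq_one (congrArg Subtype.val hi))
      rw [hj]
      refine Nat.le_self_pow (fun h0 => hne ?_) p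
      rw [h0, pow_zero, orderOf_eq_one_iff] at hj
      exact hj
    obtain ⟨i, hi⟩ := (mem_powers_iff_mem_zpowers (x := toMulAut p k τ2)).2
      (hz.ge (⟨y, rfl⟩ : toMulAut p k (A (c2 y)) ∈ P2))
    refine ⟨i, toMulAut_injective p k ?_⟩
    rw [map_pow]
    exact hi.symm
  have hτsq : ∀ v, τ2 (τ2 v - v) - (τ2 v - v) = 0 := by
    obtain ⟨j, hj⟩ := hPp X
    exact fun v => sq_zero hk (j := j) (by rw [hτ2, ← map_pow, ← map_pow, hj, map_one, map_one]) v
  -- the scalar on `Zg / L`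
  have hspan3 : ⊤ ≤ Submodule.span (ZMod p) (Set.range ![e, l, f]) :=
    (hli.span_eq_top_of_card_eq_finrank (by simp)).ge
  set cf := (Module.Basis.mk hli hspan3).coord 2 with hcf
  have hcfv : ∀ i, cf (![e, l, f] i) = if i = 2 then 1 else 0 := fun i => by
    rw [hcf, Module.Basis.coord_apply,
      show ![e, l, f] i = Module.Basis.mk hli hspan3 i from (Module.Basis.mk_apply hli hspan3 i).symm,
      Module.Basis.repr_self, Finsupp.single_apply]
  have cfe : cf e = 0 := by simpa using hcfv 0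
  have cfl : cf l = 0 := by simpa using hcfv 1
  have cff : cf f = 1 := by simpa using hcfv 2
  have hcfL : ∀ y ∈ L, cf (Fr.q y) = 0 := fun y hy => by
    obtain ⟨r, hr⟩ := Submodule.mem_span_singleton.1 hy.2
    rw [← hr, map_smul, cfl, smul_zero]
  have hψlin : ∀ a : MulAut N, ∀ z ∈ Zg,
      cf (Fr.q (a z)) = cf (Fr.q z) * cf (Fr.q (a f0)) := by
    intro a z hz
    obtain ⟨r, w, hrw⟩ := Submodule.mem_span_pair.1 hz.2
    have hw1 : cf (Fr.q z) = w := by
      rw [← hrw, map_add, map_smul, map_smul, cfl, cff, smul_zero, zero_add, smul_eq_mul, mul_one]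
    have hy : (f0 ^ w.val)⁻¹ * z ∈ L := by
      refine ⟨Fr.E.mul_mem (Fr.E.inv_mem (Fr.E.pow_mem hf0 _)) hz.1, ?_⟩
      rw [Fr.q_mul _ (Fr.E.inv_mem (Fr.E.pow_mem hf0 _)) _ hz.1, Fr.q_inv (Fr.E.pow_mem hf0 _),
        Fr.q_pow hf0, hf0q, ZMod.natCast_zmod_val, ← hrw,
        show -(w • f) + (r • l + w • f) = r • l by abel]
      exact U1.smul_mem _ (Submodule.mem_span_singleton_self l)
    have hf0a := (hZinv a f0 hf0Z).1
    conv_lhs => rw [show z = f0 ^ w.val * ((f0 ^ w.val)⁻¹ * z) by group, map_mul, map_pow,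
      Fr.q_mul _ (Fr.E.pow_mem hf0a _) _ (hLinv a _ hy).1, Fr.q_pow hf0a, map_add, map_smul,
      hcfL _ (hLinv a _ hy)]
    rw [add_zero, ZMod.natCast_zmod_val, hw1, smul_eq_mul]
  let ψ : F.autGroup N →* ZMod p :=
    { toFun := fun a => cf (Fr.q ((a : MulAut N) f0))
      map_one' := by
        show cf (Fr.q f0) = 1
        rw [hf0q, cff]
      map_mul' := fun a b => by
        show cf (Fr.q ((a : MulAut N) ((b : MulAut N) f0))) = _
        rw [hψlin a _ (hZinv b f0 hf0Z), mul_comm] }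
  have hψc : ∀ y, ψ (c2 y) = 1 := by
    intro y
    obtain ⟨j, hj⟩ := hPp y
    have h1 : (ψ (c2 y)) ^ p ^ j = 1 := by rw [← map_pow, ← map_pow, hj, map_one, map_one]
    rwa [ZMod.pow_card_pow] at h1
  let b0 : F.autGroup N := ⟨β1, hβ1⟩
  have hψb : ψ b0 = 1 := by
    show cf (Fr.q (β1 f0)) = 1
    rw [hβq f0 hf0, hf0q, hdf, cff]
  have hΦfr : Fr.Φ ≤ frattini N := Fr.phi_le _ inferInstance
    (fun a _ b _ => Grp.pGroup_commutator_le_frattini hG
      (Subgroup.commutator_mem_commutator (Subgroup.mem_top a) (Subgroup.mem_top b)))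
    (fun a _ => Grp.pGroup_pow_mem_frattini hG a)
  -- the kernel is a `p`-group
  set K := A.ker ⊓ ψ.ker with hK
  haveI : K.Normal := inferInstance
  have hKp : IsPGroup p K := by
    refine isPGroup_of_prime_order K fun b hb q hq hqp hbq => ?_
    haveI := hLn
    haveI := hZn
    have hbq' : (b : MulAut N) ^ q = 1 := by rw [← SubmonoidClass.coe_pow, hbq]; rfl
    have h1 : ∀ g : N, g⁻¹ * (b : MulAut N) g ∈ Zg := fun g => by
      rw [← hq20', hq2m', show q2 g⁻¹ = -q2 g from ?_, show q2 ((b : MulAut N) g) = A b (q2 g) from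
        hA b g, show A b = 1 from MonoidHom.mem_ker.1 hb.1]
      · exact neg_add_cancel _
      · have h := hq2m' g⁻¹ g
        rw [inv_mul_cancel, (hq20' 1).2 Zg.one_mem] at h
        exact eq_neg_of_add_eq_zero_left h.symm
    have hl : ∀ y ∈ L, y⁻¹ * (b : MulAut N) y ∈ Fr.Φ := by
      have hl0b : l0⁻¹ * (b : MulAut N) l0 ∈ Fr.Φ := by
        obtain ⟨z, hz, hze⟩ : ∃ z ∈ Zg, (b : MulAut N) n = n * z := ⟨_, h1 n, by group⟩
        obtain ⟨z', hz', hze'⟩ : ∃ z' ∈ Zg, (b : MulAut N) e0 = e0 * z' := ⟨_, h1 e0, by group⟩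
        rw [← QuotientGroup.eq, hl0, map_commutatorElement, hze, hze', ← QuotientGroup.mk'_apply,
          ← QuotientGroup.mk'_apply, map_commutatorElement, map_commutatorElement, map_mul, map_mul]
        have hc : ∀ w ∈ Zg, ∀ g : N,
            Commute (QuotientGroup.mk' Fr.Φ g) (QuotientGroup.mk' Fr.Φ w) := fun w hw g => by
          rw [commute_iff_eq, ← commutatorElement_eq_one_iff_mul_comm, ← map_commutatorElement,
            QuotientGroup.mk'_apply, QuotientGroup.eq_one_iff]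
          exact hZcomm g w hw
        set P := QuotientGroup.mk' Fr.Φ n
        set R := QuotientGroup.mk' Fr.Φ e0
        set Z := QuotientGroup.mk' Fr.Φ z
        set Z' := QuotientGroup.mk' Fr.Φ z'
        have c1 : Commute P Z' := hc z' hz' n
        have c2 : Commute R Z' := hc z' hz' e0
        have c3 : Commute Z R := (hc z hz e0).symm
        have c4 : Commute Z Z' := hc z' hz' z
        rw [show ⁅P * Z, R * Z'⁆ = P * ⁅Z, R * Z'⁆ * P⁻¹ * ⁅P, R * Z'⁆ by
            simp only [commutatorElement_def]; group,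
          commutatorElement_eq_one_iff_mul_comm.2 (c3.mul_right c4).eq, mul_one, mul_inv_cancel,
          one_mul, show ⁅P, R * Z'⁆ = ⁅P, R⁆ * (R * ⁅P, Z'⁆ * R⁻¹) by
            simp only [commutatorElement_def]; group,
          commutatorElement_eq_one_iff_mul_comm.2 c1.eq, mul_one, mul_inv_cancel, mul_one]
      intro y hy
      obtain ⟨r, hr⟩ := Submodule.mem_span_singleton.1 hy.2
      obtain ⟨φ, hφ, hye⟩ : ∃ φ ∈ Fr.Φ, y = l0 ^ r.val * φ := by
        refine ⟨(l0 ^ r.val)⁻¹ * y, ?_, (mul_inv_cancel_left _ _).symm⟩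
        rw [← Fr.q_eq_iff (Fr.E.pow_mem hl0E _) hy.1, Fr.q_pow hl0E, hl0q, ← hr,
          ZMod.natCast_zmod_val]
      rw [← QuotientGroup.eq, hye, map_mul, map_pow, QuotientGroup.mk_mul, QuotientGroup.mk_mul,
        QuotientGroup.mk_pow, QuotientGroup.mk_pow, (QuotientGroup.eq_one_iff φ).2 hφ,
        (QuotientGroup.eq_one_iff _).2 (hΦinv b φ hφ), QuotientGroup.eq.2 hl0b]
    have hz : ∀ z ∈ Zg, z⁻¹ * (b : MulAut N) z ∈ L := fun z hz => by
      have hz' := hZinv b z hz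
      have hψ1 : cf (Fr.q ((b : MulAut N) z)) = cf (Fr.q z) := by
        rw [hψlin b z hz, show cf (Fr.q ((b : MulAut N) f0)) = 1 from MonoidHom.mem_ker.1 hb.2,
          mul_one]
      refine ⟨Fr.E.mul_mem (Fr.E.inv_mem hz.1) hz'.1, ?_⟩
      have hm : Fr.q (z⁻¹ * (b : MulAut N) z) ∈ U2 :=
        (Zg.mul_mem (Zg.inv_mem hz) hz').2
      obtain ⟨r, w, hrw⟩ := Submodule.mem_span_pair.1 hm
      have h := congrArg cf hrw
      rw [map_add, map_smul, map_smul, cfl, cff, smul_zero, zero_add, smul_eq_mul, mul_one,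
        Fr.q_mul _ (Fr.E.inv_mem hz.1) _ hz'.1, Fr.q_inv hz.1, map_add, map_neg, hψ1,
        neg_add_cancel] at h
      rw [← hrw, h, zero_smul, add_zero]
      exact U1.smul_mem _ (Submodule.mem_span_singleton_self l)
    have hstep : ∀ g, g⁻¹ * (b : MulAut N) g ∈ L := fun g =>
      chain_step (p := p) L (fun v => hΦL (hpowΦ v)) b (hLinv b) hq hqp hbq' (hz _ (h1 g))
    have hstep2 : ∀ g, g⁻¹ * (b : MulAut N) g ∈ Fr.Φ := fun g =>
      chain_step (p := p) Fr.Φ hpowΦ b (hΦinv b) hq hqp hbq' (hl _ (hstep g))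
    exact Subtype.ext (fixed_of_frattini hG (b : MulAut N) hq hqp hbq'
      fun g => hΦfr (hstep2 g))
  obtain ⟨-, R, hRS⟩ := fullyAutomized_of_fullyNormalized hS hF hNn
  have hKR : ∀ a ∈ K, ∃ y, c2 y = a := fun a ha => by
    have h := hKp.le_sylow_of_normal R ha
    rw [hRS, Subgroup.mem_subgroupOf] at h
    exact TorusExt.exists_cj hNS h
  -- the torus element
  obtain ⟨s, hdE, hdN⟩ : ∃ s : ZMod p,
      A b0 E2 = t • E2 ∧ A b0 N2 = s • E2 + (t * t)⁻¹ • N2 := by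
    obtain ⟨r, z, hz, hrz⟩ := hdec _ hβn
    refine ⟨r, ?_, ?_⟩
    · have h1 : q2 (β1 e0) = A b0 E2 := hA b0 e0
      obtain ⟨z', hz', hze⟩ : ∃ z' ∈ Zg, β1 e0 = e0 ^ t.val * z' := by
        refine ⟨(e0 ^ t.val)⁻¹ * β1 e0, Fr.phi_le_pre _ ?_, (mul_inv_cancel_left _ _).symm⟩
        have hE' : β1 e0 ∈ Fr.E := by
          have := hβ0E ⟨e0, he0⟩
          refine Subgroup.mem_subgroupOf.2 ?_
          rw [hβapp]
          exact this ▸ SetLike.coe_mem _
        rw [← Fr.q_eq_iff (Fr.E.pow_mem he0 _) hE', Fr.q_pow he0, hβq e0 he0, he0q, hde,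
          ZMod.natCast_zmod_val]
      rw [← h1, hze, hq2m', hq2pow, (hq20' z').2 hz', add_zero, ZMod.natCast_zmod_val]
    · have h1 : q2 (β1 n) = A b0 N2 := hA b0 n
      rw [← h1, show β1 n = β1 n * (n ^ μ)⁻¹ * n ^ μ by group, hrz, hq2m', hq2m', hq2pow, hq2pow,
        (hq20' z).2 hz, add_zero, ZMod.natCast_zmod_val, hμ]
  set m2 := (t * t)⁻¹ with hm2
  have hm20 : m2 ≠ 0 := inv_ne_zero (mul_ne_zero ht0 ht0)
  have htm : t - m2 ≠ 0 := fun h => ht3 (by
    rw [sub_eq_zero] at h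
    calc t * t * t = t * t * m2 := by rw [← h]
      _ = 1 := mul_inv_cancel₀ (mul_ne_zero ht0 ht0))
  set Nd := N2 + (-(s * (t - m2)⁻¹)) • E2 with hNd
  have hdNd : A b0 Nd = m2 • Nd := by
    rw [hNd, map_add, map_smul, hdN, hdE, smul_add, smul_smul, smul_smul,
      show s • E2 + m2 • N2 + (-(s * (t - m2)⁻¹) * t) • E2 =
        m2 • N2 + (s + -(s * (t - m2)⁻¹) * t) • E2 by module]
    congr 2
    field_simp
    ring
  have hindd : ∀ a b : ZMod p, a • E2 + b • Nd = 0 → a = 0 ∧ b = 0 := by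
    intro a b h
    obtain ⟨h1, h2⟩ := hind2 (a + b * -(s * (t - m2)⁻¹)) b (by rw [← h, hNd]; module)
    rw [h2, zero_mul, add_zero] at h1
    exact ⟨h1, h2⟩
  set u := τ2 E2 - E2 with hu
  have hτu : τ2 u = u := sub_eq_zero.1 (hτsq E2)
  have hτE : τ2 E2 = E2 + u := by rw [hu, add_sub_cancel]
  obtain ⟨α, γ, huγ⟩ : ∃ α γ : ZMod p, u = α • E2 + γ • Nd := by
    obtain ⟨a, b, hab⟩ := hspan2 u
    exact ⟨a + b * (s * (t - m2)⁻¹), b, by rw [hab, hNd]; module⟩
  have hu0 : u ≠ 0 := fun h => hτ2e (sub_eq_zero.1 h)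
  have hγ : γ ≠ 0 := by
    intro h
    rw [h, zero_smul, add_zero] at huγ
    have hτu' := hτu
    rw [huγ, map_smul, hτE, huγ, smul_add, smul_smul, add_eq_left, smul_eq_zero] at hτu'
    have hα0 : α * α = 0 := hτu'.resolve_right fun hE0 => one_ne_zero
      (hind2 1 0 (by rw [hE0, smul_zero, zero_smul, add_zero])).1
    exact hu0 (by rw [huγ, mul_self_eq_zero.1 hα0, zero_smul])
  obtain ⟨Dt, v, te, me, c, hψD, hDv, hDu, hτv, hc, hvu, hconds⟩ :
      ∃ (Dt : F.autGroup N) (v : Fin k → ZMod p) (te me c : ZMod p), ψ Dt = 1 ∧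
        A Dt v = te • v ∧ A Dt u = me • u ∧ τ2 v = v + c • u ∧ c ≠ 0 ∧
        (∀ a b : ZMod p, a • v + b • u = 0 → a = 0 ∧ b = 0) ∧
        te ≠ 0 ∧ me ≠ 0 ∧ me * (me * te⁻¹) ≠ 1 ∧ 1 * (me * te⁻¹) ≠ te * me ∧ 1 ≠ me * te⁻¹ := by
    by_cases hα : α = 0
    · refine ⟨b0, E2, t, m2, 1, hψb, hdE, ?_, by rw [one_smul, hτE], one_ne_zero, ?_, ht0, hm20,
        ?_, ?_, ?_⟩
      · rw [huγ, hα, zero_smul, zero_add, map_smul, hdNd, smul_comm]
      · intro a b h
        rw [huγ, hα, zero_smul, zero_add, smul_smul] at h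
        obtain ⟨h1, h2⟩ := hindd _ _ h
        exact ⟨h1, (mul_eq_zero.1 h2).resolve_right hγ⟩
      · intro h
        refine ht5 ?_
        have h' := congrArg (fun r => r * (t * t * t * t * t)) h
        simp only [hm2, one_mul] at h'
        field_simp at h'
        linear_combination -h'
      · intro h
        refine ht2 ?_
        have h' := congrArg (fun r => r * (t * t * t)) h
        simp only [hm2, one_mul] at h'
        field_simp at h'
        linear_combination -h'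
      · intro h
        refine ht3 ?_
        have h' := congrArg (fun r => r * (t * t * t)) h
        simp only [hm2, one_mul] at h'
        field_simp at h'
        linear_combination h'
    · set v := A b0 u with hv
      have hvv : v = (α * (t - m2)) • E2 + m2 • u := by
        rw [hv, huγ, map_add, map_smul, map_smul, hdE, hdNd]
        module
      have hτv : τ2 v = v + (α * (t - m2)) • u := by
        rw [hvv, map_add, map_smul, map_smul, hτE, hτu]
        module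
      have hvu : ∀ a b : ZMod p, a • v + b • u = 0 → a = 0 ∧ b = 0 := by
        intro a b h
        rw [hvv, huγ] at h
        obtain ⟨h1, h2⟩ := hindd (a * (α * (t - m2)) + (a * m2 + b) * α) ((a * m2 + b) * γ) (by
          rw [← h]; module)
        have h3 := (mul_eq_zero.1 h2).resolve_right hγ
        rw [h3, zero_mul, add_zero] at h1
        have ha := (mul_eq_zero.1 h1).resolve_right (mul_ne_zero hα htm)
        rw [ha, zero_mul, zero_add] at h3
        exact ⟨ha, h3⟩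
      set d2 := A b0 with hd2
      set τ' := d2 * τ2 * d2⁻¹ with hτ'
      have hτ'v : τ' v = v := by
        show d2 (τ2 (d2.symm (d2 u))) = d2 u
        rw [d2.symm_apply_apply, hτu]
      obtain ⟨κ, ρ, hκρ⟩ : ∃ κ ρ : ZMod p, d2.symm u = κ • E2 + ρ • u := by
        obtain ⟨a, b, hab⟩ := hspan2 (d2.symm u)
        refine ⟨a - (b * γ⁻¹) * α + b * (s * (t - m2)⁻¹), b * γ⁻¹, ?_⟩
        rw [hab, huγ, smul_add, smul_smul, smul_smul, inv_mul_cancel_right₀ hγ, hNd]
        module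
      have hκ : κ ≠ 0 := by
        intro h
        rw [h, zero_smul, zero_add] at hκρ
        have h2 := congrArg d2 hκρ
        rw [d2.apply_symm_apply, map_smul] at h2
        obtain ⟨-, h3⟩ := hvu ρ (-1) (by rw [hv, ← h2]; module)
        exact neg_ne_zero.2 one_ne_zero h3
      have hτ'u : τ' u = u + κ • v := by
        show d2 (τ2 (d2.symm u)) = _
        rw [hκρ, map_add, map_smul, map_smul, hτE, hτu,
          show κ • (E2 + u) + ρ • u = (κ • E2 + ρ • u) + κ • u by module, ← hκρ, map_add,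
          d2.apply_symm_apply, map_smul]
      set a' := α * (t - m2) with ha'
      have ha'0 : a' ≠ 0 := mul_ne_zero hα htm
      set B1 : F.autGroup N := (c2 X) ^ (a'⁻¹).val with hB1
      set B2 : F.autGroup N := (b0 * c2 X * b0⁻¹) ^ (κ⁻¹).val with hB2
      have hA1 : A B1 = τ2 ^ (a'⁻¹).val := by rw [hB1, map_pow]
      have hA2 : A B2 = τ' ^ (κ⁻¹).val := by rw [hB2, map_pow, map_mul, map_mul, map_inv]
      let toE : ((Fin k → ZMod p) ≃ₗ[ZMod p] (Fin k → ZMod p)) →*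
          Module.End (ZMod p) (Fin k → ZMod p) :=
        { toFun := fun g => (g : (Fin k → ZMod p) →ₗ[ZMod p] (Fin k → ZMod p))
          map_one' := rfl
          map_mul' := fun _ _ => rfl }
      obtain ⟨f1, f2⟩ := end_pow_add (a := toE τ2) (c := a' • u) (d := v)
        (show τ2 (a' • u) = a' • u by rw [map_smul, hτu]) hτv (a'⁻¹).val
      obtain ⟨g1, g2⟩ := end_pow_add (a := toE τ') (c := κ • v) (d := u)
        (show τ' (κ • v) = κ • v by rw [map_smul, hτ'v]) hτ'u (κ⁻¹).val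
      rw [← map_pow, ZMod.natCast_zmod_val, smul_smul, inv_mul_cancel₀ ha'0, one_smul,
        ← hA1] at f2
      rw [← map_pow, ZMod.natCast_zmod_val, smul_smul, inv_mul_cancel₀ hκ, one_smul, ← hA2] at g2
      rw [map_smul, ← map_pow, ← hA1] at f1
      rw [map_smul, ← map_pow, ← hA2] at g1
      obtain ⟨o1, o2⟩ := torus_apply (toE (A B1)) (toE (A B2))
        (smul_right_injective _ ha'0 f1) f2 (smul_right_injective _ hκ g1) g2 ht0
      refine ⟨torus B1 B2 t, v, t⁻¹, t, a', ?_, ?_, ?_, hτv, ha'0, hvu, inv_ne_zero ht0, ht0,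
        ?_, ?_, ?_⟩
      · have e1 : ψ B1 = 1 := by rw [hB1, map_pow, hψc, one_pow]
        have e2 : ψ B2 = 1 := by
          rw [hB2, map_pow, map_mul, map_mul, hψc, mul_one, ← map_mul, mul_inv_cancel, map_one,
            one_pow]
        rw [map_torus, e1, e2]
        simp [torus, weyl]
      · rw [← map_torus, ← map_torus] at o2
        exact o2
      · rw [← map_torus, ← map_torus] at o1
        exact o1
      · rw [inv_inv, ← mul_assoc]; exact ht3
      · rw [inv_inv, one_mul, inv_mul_cancel₀ ht0]; exact ht2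
      · rw [inv_inv]; exact fun h => ht2 h.symm
  obtain ⟨hte, hme, hc1, hc3, hc4⟩ := hconds
  set lamz := me * te⁻¹ with hlamz
  set lam := lamz.val with hlam
  have hτ2pow : ∀ i : ℕ, (τ2 ^ i) u = u ∧ (τ2 ^ i) v = v + ((i : ZMod p) * c) • u := fun i => by
    induction i with
    | zero => exact ⟨rfl, by simp⟩
    | succ i ih =>
      rw [pow_succ', LinearEquiv.mul_apply, LinearEquiv.mul_apply, ih.1, ih.2, map_add, map_smul,
        hτu, hτv, Nat.cast_succ]
      exact ⟨rfl, by module⟩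
  have hspanvu : ∀ w, ∃ a b : ZMod p, w = a • v + b • u := by
    intro w
    have hli2 : LinearIndependent (ZMod p) ![v, u] := LinearIndependent.pair_iff.2 hvu
    have ht := hli2.span_eq_top_of_card_eq_finrank (by simp [hk])
    obtain ⟨g, hg⟩ := Submodule.mem_span_range_iff_exists_fun (ZMod p) |>.1
      (ht.ge (Submodule.mem_top (x := w)))
    exact ⟨g 0, g 1, by rw [← hg, Fin.sum_univ_two]; rfl⟩
  have hconj2 : A Dt * τ2 * (A Dt)⁻¹ = τ2 ^ lam := by
    refine LinearEquiv.ext fun w => ?_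
    obtain ⟨a, b, rfl⟩ := hspanvu w
    have h1 : (A Dt).symm v = te⁻¹ • v := by
      rw [LinearEquiv.symm_apply_eq, map_smul, hDv, smul_smul, inv_mul_cancel₀ hte, one_smul]
    have h2 : (A Dt).symm u = me⁻¹ • u := by
      rw [LinearEquiv.symm_apply_eq, map_smul, hDu, smul_smul, inv_mul_cancel₀ hme, one_smul]
    show A Dt (τ2 ((A Dt).symm (a • v + b • u))) = (τ2 ^ lam) (a • v + b • u)
    simp only [map_add, map_smul, h1, h2, hτv, hτu, hDv, hDu, (hτ2pow lam).1, (hτ2pow lam).2,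
      smul_add, smul_smul]
    rw [hlam, ZMod.natCast_zmod_val, hlamz, inv_mul_cancel_right₀ hte, inv_mul_cancel_right₀ hme]
    module
  have hnorm : ∀ y, ∃ y', Dt * c2 y * Dt⁻¹ = c2 y' ∧ ∀ i : ℕ, A (c2 y) = τ2 ^ i →
      A (c2 y') = τ2 ^ (lam * i) := by
    intro y
    obtain ⟨i, hi⟩ := hgen2 y
    set a := (c2 (X ^ (lam * i)))⁻¹ * (Dt * c2 y * Dt⁻¹) with ha
    have haK : a ∈ K := by
      refine Subgroup.mem_inf.2 ⟨MonoidHom.mem_ker.2 ?_, MonoidHom.mem_ker.2 ?_⟩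
      · simp only [ha, map_mul, map_inv, map_pow, hi]
        rw [← hτ2, ← conj_pow, hconj2, ← pow_mul, inv_mul_cancel]
      · have hinv : ∀ g, ψ g = 1 → ψ g⁻¹ = 1 := fun g hg => by
          have := map_mul ψ g⁻¹ g
          rw [inv_mul_cancel, map_one, hg, mul_one] at this
          exact this.symm
        rw [ha, map_mul, map_mul, map_mul, hinv _ (hψc _), hψc, hψD, hinv _ hψD]
        simp
    obtain ⟨y1, hy1⟩ := hKR a haK
    have hy' : Dt * c2 y * Dt⁻¹ = c2 (X ^ (lam * i) * y1) := by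
      rw [map_mul, hy1, ha, mul_inv_cancel_left]
    refine ⟨_, hy', fun i' hi' => ?_⟩
    rw [← hy', map_mul, map_mul, map_inv, hi', ← conj_pow, hconj2, ← pow_mul]
  -- extend the torus element
  have hCN : centralizerIn S N ≤ N := fun g hg => by
    obtain ⟨h1, h2⟩ := mem_centralizerIn.1 hg
    exact le_normalizerIn D.fn.1 (D.centric
      (mem_centralizerIn.2 ⟨h1, fun a ha => h2 a (le_normalizerIn D.fn.1 ha)⟩))
  obtain ⟨βf, hβf, hβfN, hβfP, hβfe⟩ := TorusExt.exists_ext (Q := N) hS hCN (F.autGroup N).subtype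
    (fun g hg => by
      have : (g : MulAut N) = 1 := hg
      rw [this]; exact one_mem _) hF hNn Dt (fun y => by
      obtain ⟨y', hy', -⟩ := hnorm y
      exact ⟨y', by simp only [← map_inv, ← map_mul]; exact congrArg _ hy'⟩)
  -- the quotient by `Φ`
  have hNG : N ≤ G1 := le_normalizerIn hNS
  haveI : Finite ↥G1 := finite_of_le (S := S) inf_le_left
  set ι : N →* G1 := Subgroup.inclusion hNG with hι
  set ΦP := Fr.Φ.map ι with hΦP
  haveI hΦPn : ΦP.Normal := ⟨fun a ha g => by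
    obtain ⟨a0, ha0, rfl⟩ := ha
    exact ⟨conjAut g.2.2 a0, hΦinv _ _ ha0, Subtype.ext rfl⟩⟩
  set j : N →* G1 ⧸ ΦP := (QuotientGroup.mk' ΦP).comp ι with hj
  have hjker : ∀ a : N, j a = 1 ↔ a ∈ Fr.Φ := fun a => by
    show QuotientGroup.mk' ΦP (ι a) = 1 ↔ _
    rw [QuotientGroup.mk'_apply, QuotientGroup.eq_one_iff]
    exact ⟨fun ⟨b, hb, hbe⟩ => Subgroup.inclusion_injective hNG hbe ▸ hb, fun h => ⟨a, h, rfl⟩⟩
  have hjeq : ∀ a b : N, a⁻¹ * b ∈ Fr.Φ → j a = j b := fun a b h => by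
    rw [← hjker, map_mul, map_inv, inv_mul_eq_one] at h
    exact h
  let βP : G1 →* G1 := MonoidHom.mk' (fun g => ⟨βf g, hβfP g g.2⟩) fun a b =>
    Subtype.ext (hβf.map_mul a.2 b.2)
  have hβPι : ∀ a : N, βP (ι a) = ι ((Dt : MulAut N) a) := fun a => Subtype.ext (hβfN a)
  let βQ : G1 ⧸ ΦP →* G1 ⧸ ΦP := QuotientGroup.map ΦP ΦP βP (by
    rintro _ ⟨a, ha, rfl⟩
    rw [Subgroup.mem_comap, hβPι]
    exact ⟨_, hΦinv _ a ha, rfl⟩)
  have hβQj : ∀ a : N, βQ (j a) = j ((Dt : MulAut N) a) := fun a =>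
    congrArg (QuotientGroup.mk' ΦP) (hβPι a)
  set xq := QuotientGroup.mk' ΦP X with hxq
  have hxj : ∀ a : N, xq * j a * xq⁻¹ = j ((c2 X : MulAut N) a) := fun a => by
    show QuotientGroup.mk' ΦP X * QuotientGroup.mk' ΦP (ι a) * (QuotientGroup.mk' ΦP X)⁻¹ =
      QuotientGroup.mk' ΦP (ι ((c2 X : MulAut N) a))
    rw [← map_inv, ← map_mul, ← map_mul]
    exact congrArg _ (Subtype.ext rfl)
  obtain ⟨ee, -, heev⟩ := hq2s v
  obtain ⟨nn, -, hnnu⟩ := hq2s u
  set lz := ⁅nn, ee⁆ with hlz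
  have hlzL : lz ∈ L := hcomm nn ee
  have hcZ : ∀ w ∈ Zg, ∀ g : N, Commute (j g) (j w) := fun w hw g => by
    rw [commute_iff_eq, ← commutatorElement_eq_one_iff_mul_comm, ← map_commutatorElement, hjker]
    exact hZcomm g w hw
  have hdecZ : ∀ g : N, ∃ a b : ZMod p, ∃ z ∈ Zg, g = ee ^ a.val * nn ^ b.val * z := by
    intro g
    obtain ⟨a, b, hab⟩ := hspanvu (q2 g)
    refine ⟨a, b, (ee ^ a.val * nn ^ b.val)⁻¹ * g, ?_, (mul_inv_cancel_left _ _).symm⟩
    rw [← hq20', hq2m']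
    have h := hq2m' (ee ^ a.val * nn ^ b.val)⁻¹ (ee ^ a.val * nn ^ b.val)
    rw [inv_mul_cancel, (hq20' 1).2 Zg.one_mem] at h
    rw [eq_neg_of_add_eq_zero_left h.symm, hq2m', hq2pow, hq2pow, ZMod.natCast_zmod_val,
      ZMod.natCast_zmod_val, heev, hnnu, hab, neg_add_cancel]
  have hlz0 : lz ∉ Fr.Φ := by
    intro h
    refine one_ne_zero (hind2 1 0 ?_).1
    rw [one_smul, zero_smul, add_zero, hE2, hq20']
    refine hZchar _ fun g => ?_
    rw [← hjker, map_commutatorElement, commutatorElement_eq_one_iff_mul_comm]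
    have h1 : Commute (j nn) (j ee) := by
      rw [commute_iff_eq, ← commutatorElement_eq_one_iff_mul_comm, ← map_commutatorElement, hjker]
      exact h
    obtain ⟨a, b, z, hz, rfl⟩ := hdecZ g
    obtain ⟨a', b', z', hz', he0eq⟩ := hdecZ e0
    rw [he0eq]
    simp only [map_mul, map_pow]
    refine Commute.eq ?_
    have hzz : ∀ g, Commute (j z) (j g) := fun g => (hcZ z hz g).symm
    have hzz' : ∀ g, Commute (j g) (j z') := hcZ z' hz'
    have ce : Commute (j ee ^ a.val * j nn ^ b.val) (j ee ^ a'.val * j nn ^ b'.val) :=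
      ((((Commute.refl _).pow_pow _ _).mul_right (h1.symm.pow_pow _ _))).mul_left
        ((h1.pow_pow _ _).mul_right ((Commute.refl _).pow_pow _ _))
    refine Commute.mul_left (ce.mul_right ?_) ?_
    · have := hzz' (ee ^ a.val * nn ^ b.val)
      rwa [map_mul, map_pow, map_pow] at this
    · have h2 := hzz (ee ^ a'.val * nn ^ b'.val)
      rw [map_mul, map_pow, map_pow] at h2
      exact h2.mul_right (hzz z')
  obtain ⟨κ, hκ0, hlzκ⟩ : ∃ κ : ZMod p, κ ≠ 0 ∧ Fr.q lz = κ • l := by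
    obtain ⟨κ, hκ⟩ := Submodule.mem_span_singleton.1 hlzL.2
    refine ⟨κ, fun h => hlz0 ?_, hκ.symm⟩
    rw [← Fr.q_zero _ hlzL.1, ← hκ, h, zero_smul]
  have hzdec : ∀ z ∈ Zg, ∃ i i' : ZMod p,
      j z = j lz ^ i.val * j f0 ^ i'.val ∧ i' = cf (Fr.q z) := by
    intro z hz
    obtain ⟨r, w, hrw⟩ := Submodule.mem_span_pair.1 hz.2
    refine ⟨r * κ⁻¹, w, ?_, ?_⟩
    · rw [← map_pow, ← map_pow, ← map_mul]
      refine (hjeq _ _ ?_).symm
      have h1 := Fr.E.pow_mem hlzL.1 (r * κ⁻¹).val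
      have h2 := Fr.E.pow_mem hf0 w.val
      rw [← Fr.q_eq_iff (Fr.E.mul_mem h1 h2) hz.1, Fr.q_mul _ h1 _ h2, Fr.q_pow hlzL.1,
        Fr.q_pow hf0, hlzκ, hf0q, ZMod.natCast_zmod_val, ZMod.natCast_zmod_val, smul_smul,
        inv_mul_cancel_right₀ hκ0, hrw]
    · rw [← hrw, map_add, map_smul, map_smul, cfl, cff, smul_zero, zero_add, smul_eq_mul, mul_one]
  have hgenQ : ∀ w ∈ j.range, ∃ a b i i' : ZMod p,
      w = j ee ^ a.val * j nn ^ b.val * (j lz ^ i.val * j f0 ^ i'.val) := by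
    rintro _ ⟨g, rfl⟩
    obtain ⟨a, b, z, hz, rfl⟩ := hdecZ g
    obtain ⟨i, i', hi, -⟩ := hzdec z hz
    exact ⟨a, b, i, i', by rw [map_mul, map_mul, map_pow, map_pow, hi]⟩
  have hindQ : ∀ a b i i' : ZMod p,
      j ee ^ a.val * j nn ^ b.val * (j lz ^ i.val * j f0 ^ i'.val) = 1 →
        a = 0 ∧ b = 0 ∧ i = 0 ∧ i' = 0 := by
    intro a b i i' h
    simp only [← map_pow, ← map_mul, hjker] at h
    have hz2 : lz ^ i.val * f0 ^ i'.val ∈ Zg :=
      Zg.mul_mem (Zg.pow_mem (hLZ hlzL) _) (Zg.pow_mem hf0Z _)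
    have h1 := (hq20' _).2 (hLZ (hΦL h))
    rw [hq2m', hq2m', hq2pow, hq2pow, (hq20' _).2 hz2, add_zero, heev, hnnu,
      ZMod.natCast_zmod_val, ZMod.natCast_zmod_val] at h1
    obtain ⟨rfl, rfl⟩ := hvu a b h1
    rw [ZMod.val_zero, pow_zero, pow_zero, one_mul, one_mul] at h
    have h2 := (Fr.q_zero _ (Fr.le h)).2 h
    rw [Fr.q_mul _ (Fr.E.pow_mem hlzL.1 _) _ (Fr.E.pow_mem hf0 _), Fr.q_pow hlzL.1,
      Fr.q_pow hf0, hlzκ, hf0q, ZMod.natCast_zmod_val, ZMod.natCast_zmod_val, smul_smul] at h2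
    have h3 := Fintype.linearIndependent_iff.1 hli ![0, i * κ, i'] (by
      simp only [Fin.sum_univ_three, Matrix.cons_val_zero, Matrix.cons_val_one, Matrix.cons_val,
        zero_smul, zero_add]
      exact h2)
    have h31 : i * κ = 0 := by simpa using h3 1
    exact ⟨rfl, rfl, (mul_eq_zero.1 h31).resolve_right hκ0, by simpa using h3 2⟩
  haveI hjn : j.range.Normal := ⟨fun w hw g => by
    obtain ⟨a, rfl⟩ := hw
    obtain ⟨g, rfl⟩ := QuotientGroup.mk'_surjective ΦP g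
    refine ⟨conjAut g.2.2 a, ?_⟩
    show QuotientGroup.mk' ΦP (ι (conjAut g.2.2 a)) =
      QuotientGroup.mk' ΦP g * QuotientGroup.mk' ΦP (ι a) * (QuotientGroup.mk' ΦP g)⁻¹
    rw [← map_inv, ← map_mul, ← map_mul]
    exact congrArg _ (Subtype.ext rfl)⟩
  have hjp : ∀ a : N, j a ^ p = 1 := fun a => by rw [← map_pow, hjker]; exact hpowΦ a
  have hact : ∀ (a : F.autGroup N) (g : N) (r r' : ZMod p), A a (q2 g) = r • v + r' • u →
      ∃ i i' : ZMod p, j ((a : MulAut N) g) =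
        j ee ^ r.val * j nn ^ r'.val * (j lz ^ i.val * j f0 ^ i'.val) := by
    intro a g r r' h
    have hw : (ee ^ r.val * nn ^ r'.val)⁻¹ * (a : MulAut N) g ∈ Zg := by
      rw [← hq20', hq2m']
      have h0 := hq2m' (ee ^ r.val * nn ^ r'.val)⁻¹ (ee ^ r.val * nn ^ r'.val)
      rw [inv_mul_cancel, (hq20' 1).2 Zg.one_mem] at h0
      rw [eq_neg_of_add_eq_zero_left h0.symm, hq2m', hq2pow, hq2pow, ZMod.natCast_zmod_val,
        ZMod.natCast_zmod_val, heev, hnnu, show q2 ((a : MulAut N) g) = A a (q2 g) from hA a g, h,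
        neg_add_cancel]
    obtain ⟨i, i', hi, -⟩ := hzdec _ hw
    refine ⟨i, i', ?_⟩
    rw [← hi, ← map_pow, ← map_pow, ← map_mul, ← map_mul, mul_inv_cancel_left]
  obtain ⟨αx, b0x, hxn⟩ := hact (c2 X) nn 0 1 (by
    rw [hnnu, zero_smul, zero_add, one_smul]; exact hτu)
  obtain ⟨i3, j3, hxe⟩ := hact (c2 X) ee 1 c (by rw [heev, one_smul]; exact hτv)
  obtain ⟨i1, j1, hβe⟩ := hact Dt ee te 0 (by rw [heev, zero_smul, add_zero]; exact hDv)
  obtain ⟨i2, j2, hβn'⟩ := hact Dt nn 0 me (by rw [hnnu, zero_smul, zero_add]; exact hDu)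
  obtain ⟨γx, wx, hxf, hwx⟩ := hzdec _ (hZinv ((c2 X : F.autGroup N) : MulAut N) f0 hf0Z)
  obtain ⟨i4, wD, hβf0, hwD⟩ := hzdec _ (hZinv ((Dt : F.autGroup N) : MulAut N) f0 hf0Z)
  rw [show cf (Fr.q (((c2 X : F.autGroup N) : MulAut N) f0)) = 1 from hψc X] at hwx
  rw [show cf (Fr.q ((Dt : MulAut N) f0)) = 1 from hψD] at hwD
  rw [hwx] at hxf
  rw [hwD] at hβf0
  rw [ZMod.val_one p, pow_one] at hxn hxe hxf
  rw [ZMod.val_zero, pow_zero, one_mul] at hxn hβn'
  rw [ZMod.val_zero, pow_zero, mul_one] at hβe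
  have hjl : j lz = ⁅j nn, j ee⁆ := map_commutatorElement j nn ee
  have hxl : xq * j lz * xq⁻¹ = j lz := by
    rw [hjl, show xq * ⁅j nn, j ee⁆ * xq⁻¹ = ⁅xq * j nn * xq⁻¹, xq * j ee * xq⁻¹⁆ by
      simp only [commutatorElement_def]; group, hxj, hxj, hxn, hxe]
    set Z1 := j lz ^ αx.val * j f0 ^ b0x.val
    set Z3 := j lz ^ i3.val * j f0 ^ j3.val
    have hZ : ∀ (i i' : ZMod p) (g : N), Commute (j g) (j lz ^ i.val * j f0 ^ i'.val) :=
      fun i i' g => ((hcZ lz (hLZ hlzL) g).pow_right _).mul_right ((hcZ f0 hf0Z g).pow_right _)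
    have c1 : ∀ g : N, Commute Z1 (j g) := fun g => (hZ αx b0x g).symm
    have c3 : ∀ g : N, Commute Z3 (j g) := fun g => (hZ i3 j3 g).symm
    have c13 : Commute Z1 (j ee * j nn ^ c.val * Z3) := by
      refine ((c1 ee).mul_right ((c1 nn).pow_right _)).mul_right ?_
      have := c1 (lz ^ i3.val * f0 ^ j3.val)
      rwa [map_mul, map_pow, map_pow] at this
    rw [show ⁅j nn * Z1, j ee * j nn ^ c.val * Z3⁆ = j nn * ⁅Z1, j ee * j nn ^ c.val * Z3⁆ *
        (j nn)⁻¹ * ⁅j nn, j ee * j nn ^ c.val * Z3⁆ by simp only [commutatorElement_def]; group,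
      commutatorElement_eq_one_iff_mul_comm.2 c13.eq, mul_one, mul_inv_cancel, one_mul,
      show ⁅j nn, j ee * j nn ^ c.val * Z3⁆ = ⁅j nn, j ee⁆ * (j ee * (⁅j nn, j nn ^ c.val⁆ *
        (j nn ^ c.val * ⁅j nn, Z3⁆ * (j nn ^ c.val)⁻¹)) * (j ee)⁻¹) by
        simp only [commutatorElement_def]; group,
      commutatorElement_eq_one_iff_mul_comm.2 (c3 nn).symm.eq,
      commutatorElement_eq_one_iff_mul_comm.2 ((Commute.refl (j nn)).pow_right c.val).eq]
    simp
  obtain ⟨W, hW, hβx⟩ : ∃ W ∈ j.range, βQ xq = W * xq ^ lam := by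
    obtain ⟨y', hy', hy'i⟩ := hnorm X
    have h := hβfe X y' (by simp only [← map_inv, ← map_mul]; exact congrArg _ hy')
    have hA' : A (c2 y') = A (c2 (X ^ lam)) := by
      rw [hy'i 1 (pow_one _).symm, mul_one, map_pow, map_pow]
    have hz : ((y' * (X ^ lam)⁻¹ : G1) : Ω) ∈ N := by
      set z : G1 := y' * (X ^ lam)⁻¹ with hz
      refine hfix z z.2 fun a ha => ?_
      have hAz : A (c2 z) = 1 := by
        rw [hz, map_mul, map_mul, map_inv, map_inv, hA', mul_inv_cancel]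
      have h1 : a⁻¹ * conjAut z.2.2 a ∈ Zg := by
        rw [← hq20', hq2m']
        have h0 := hq2m' a⁻¹ a
        rw [inv_mul_cancel, (hq20' 1).2 Zg.one_mem] at h0
        rw [eq_neg_of_add_eq_zero_left h0.symm,
          show q2 (conjAut z.2.2 a) = A (c2 z) (q2 a) from hA (c2 z) a, hAz]
        exact neg_add_cancel _
      have h2 := Fr.E.mul_mem (Subgroup.mem_subgroupOf.2 ha : a ∈ Fr.E) h1.1
      rw [mul_inv_cancel_left] at h2
      exact h2
    have hw0 : ((βP X * (X ^ lam)⁻¹ : G1) : Ω) ∈ N := by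
      have h3 := N.mul_mem h hz
      simp only [Subgroup.coe_mul, Subgroup.coe_inv] at h3 ⊢
      convert h3 using 1
      show βf x * _ = _
      group
      rfl
    refine ⟨j ⟨_, hw0⟩, ⟨_, rfl⟩, ?_⟩
    show QuotientGroup.mk' ΦP (βP X) = QuotientGroup.mk' ΦP (ι ⟨_, hw0⟩) * xq ^ lam
    rw [show ι ⟨_, hw0⟩ = βP X * (X ^ lam)⁻¹ from Subtype.ext rfl, map_mul, map_inv, map_pow,
      hxq, inv_mul_cancel_right]
  have hlamc : (lam : ZMod p) = lamz := ZMod.natCast_zmod_val _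
  obtain ⟨m, hm1, hm2', hm3, hm4⟩ := transvection_final (N := j.range) hjn ⟨ee, rfl⟩ ⟨nn, rfl⟩
    ⟨lz, rfl⟩ ⟨f0, rfl⟩ (hjp ee) (hjp nn) (hjp lz) (hjp f0) hjl.symm
    (by rintro _ ⟨g, rfl⟩; exact ⟨(hcZ lz (hLZ hlzL) g).symm, (hcZ f0 hf0Z g).symm⟩)
    hgenQ hindQ (c := c) (α := αx) (b0 := b0x) (γ := γx) (i3 := i3) (j3 := j3)
    (show xq ^ p ∈ j.range from ⟨⟨x ^ p, hxp⟩, by
      show QuotientGroup.mk' ΦP (ι ⟨x ^ p, hxp⟩) = _
      rw [hxq, ← map_pow]
      exact congrArg _ (Subtype.ext rfl)⟩)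
    hxl (by rw [hxj]; exact hxf) (by rw [hxj]; exact hxn) (by rw [hxj]; exact hxe) hc βQ
    (t := te) (μ := me) (φ := 1) (i1 := i1) (j1 := j1) (i2 := i2) (j2 := j2) (i4 := i4)
    (lam := lam) hW (by rw [hβQj]; exact hβe) (by rw [hβQj]; exact hβn')
    (by rw [hβQj]; exact hβf0) hβx hme
    (by rw [hlamc]; exact hc1) (by rw [hlamc]; exact hc3)
    (by rw [hlamc]; exact fun h => hc3 (by rw [one_mul]; exact h.symm))
    (by rw [hlamc]; exact hc4)
  -- four independent commuting elements of order `p`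
  set x' : G1 := X * ι ee ^ m with hx'
  have hx'q : QuotientGroup.mk' ΦP x' = xq * j ee ^ m := by
    rw [hx', map_mul, map_pow]; rfl
  have hRP : Rank3 p G1 :=
    hrankS.of_injective _ (Subgroup.inclusion_injective (inf_le_left : G1 ≤ S))
  have hcj : ∀ a b : G1, Commute (QuotientGroup.mk' ΦP a) (QuotientGroup.mk' ΦP b) →
      ⁅a, b⁆ ∈ ΦP := fun a b h => by
    rw [← QuotientGroup.eq_one_iff, ← QuotientGroup.mk'_apply, map_commutatorElement,
      commutatorElement_eq_one_iff_mul_comm]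
    exact h
  refine no_four hRP ΦP ![x', ι nn, ι lz, ι f0] ?_ ?_ ?_
  · have k1 : Commute (QuotientGroup.mk' ΦP x') (QuotientGroup.mk' ΦP (ι nn)) := hx'q ▸ hm1
    have k2 : Commute (QuotientGroup.mk' ΦP x') (QuotientGroup.mk' ΦP (ι lz)) := hx'q ▸ hm2'
    have k3 : Commute (QuotientGroup.mk' ΦP x') (QuotientGroup.mk' ΦP (ι f0)) := hx'q ▸ hm3
    have k4 : Commute (QuotientGroup.mk' ΦP (ι nn)) (QuotientGroup.mk' ΦP (ι lz)) :=
      hcZ lz (hLZ hlzL) nn
    have k5 : Commute (QuotientGroup.mk' ΦP (ι nn)) (QuotientGroup.mk' ΦP (ι f0)) :=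
      hcZ f0 hf0Z nn
    have k6 : Commute (QuotientGroup.mk' ΦP (ι lz)) (QuotientGroup.mk' ΦP (ι f0)) :=
      hcZ f0 hf0Z lz
    intro a b
    refine hcj _ _ ?_
    fin_cases a <;> fin_cases b <;>
      simp only [Fin.zero_eta, Fin.mk_one, Fin.isValue, Matrix.cons_val_zero, Matrix.cons_val_one,
        Matrix.cons_val, Fin.reduceFinMk] <;>
      first
      | exact Commute.refl _
      | assumption
      | exact k1.symm
      | exact k2.symm
      | exact k3.symm
      | exact k4.symm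
      | exact k5.symm
      | exact k6.symm
  · intro a
    rw [← QuotientGroup.eq_one_iff, ← QuotientGroup.mk'_apply, map_pow]
    fin_cases a
    · show QuotientGroup.mk' ΦP x' ^ p = 1
      rw [hx'q]; exact hm4
    · exact hjp nn
    · exact hjp lz
    · exact hjp f0
  · intro a ha
    simp only [Matrix.cons_val_zero, Matrix.cons_val_one, Matrix.cons_val] at ha
    rw [← QuotientGroup.eq_one_iff, ← QuotientGroup.mk'_apply] at ha
    simp only [map_mul, map_pow] at ha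
    rw [hx'q, show QuotientGroup.mk' ΦP (ι nn) = j nn from rfl,
      show QuotientGroup.mk' ΦP (ι lz) = j lz from rfl,
      show QuotientGroup.mk' ΦP (ι f0) = j f0 from rfl] at ha
    have hN' : (xq * j ee ^ m) ^ a 0 ∈ j.range := by
      have h1 : (xq * j ee ^ m) ^ a 0 = ((j nn) ^ a 1 * j lz ^ a 2 * j f0 ^ a 3)⁻¹ := by
        refine eq_inv_of_mul_eq_one_left ?_
        rw [← mul_assoc, ← mul_assoc]
        exact ha
      rw [h1, ← map_pow, ← map_pow, ← map_pow, ← map_mul, ← map_mul, ← map_inv]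
      exact ⟨_, rfl⟩
    have h0 : p ∣ a 0 := by
      by_contra hnd
      refine hxN ?_
      have hx1 : xq ^ a 0 ∈ j.range := by
        have he : QuotientGroup.mk' j.range (j ee) = 1 := (QuotientGroup.eq_one_iff _).2 ⟨ee, rfl⟩
        rw [← QuotientGroup.eq_one_iff, ← QuotientGroup.mk'_apply] at hN' ⊢
        rwa [map_pow, map_mul, map_pow, he, one_pow, mul_one, ← map_pow] at hN'
      obtain ⟨g, hg⟩ := hx1
      have hxa : (x ^ a 0 : Ω) ∈ N := by
        rw [hxq, ← map_pow, show j g = QuotientGroup.mk' ΦP (ι g) from rfl,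
          QuotientGroup.mk'_apply, QuotientGroup.mk'_apply, QuotientGroup.eq] at hg
        obtain ⟨φ, -, hφe⟩ := hg
        have h2 : X ^ a 0 = ι (g * φ) := by rw [map_mul, hφe, mul_inv_cancel_left]
        have h3 := congrArg Subtype.val h2
        rw [SubmonoidClass.coe_pow] at h3
        rw [show x ^ a 0 = ((ι (g * φ) : G1) : Ω) from h3]
        exact (g * φ).2
      obtain ⟨r, -, hr⟩ := Nat.exists_mul_mod_eq_one_of_coprime
        ((hp.out.coprime_iff_not_dvd.2 hnd).symm) hp.out.one_lt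
      have h1 := N.pow_mem hxa r
      rw [← pow_mul, ← Nat.mod_add_div (a 0 * r) p, hr, pow_add, pow_one, pow_mul] at h1
      exact (N.mul_mem_cancel_right (N.pow_mem hxp _)).1 h1
    have hx0 : (xq * j ee ^ m) ^ a 0 = 1 := by
      obtain ⟨r, hr⟩ := h0
      rw [hr, pow_mul, hm4, one_pow]
    rw [hx0, one_mul] at ha
    have hv : ∀ (g : N) (i : ℕ), j g ^ ((i : ZMod p)).val = j g ^ i := fun g i => by
      rw [ZMod.val_natCast, ← pow_eq_pow_mod i (hjp g)]
    obtain ⟨-, z1, z2, z3⟩ := hindQ 0 (a 1 : ZMod p) (a 2 : ZMod p) (a 3 : ZMod p) (by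
      rw [ZMod.val_zero, pow_zero, one_mul, hv, hv, hv, ← mul_assoc]
      exact ha)
    intro i
    fin_cases i
    · exact h0
    · exact (ZMod.natCast_eq_zero_iff _ _).1 z1
    · exact (ZMod.natCast_eq_zero_iff _ _).1 z2
    · exact (ZMod.natCast_eq_zero_iff _ _).1 z3

/-- An essential subgroup needing three generators is normal in `S`. -/
theorem essential_le_normalizer (hS : IsPGroup p S) (hp5 : 5 ≤ p)
    (hsr : Cfsg.SectionalPRankLE p 3 S) (hF : F.IsSaturated p) {E : Subgroup Ω}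
    (hE : F.IsEssential p E) (hrk : (frattini E).index = p ^ 3) :
    S ≤ Subgroup.normalizer (E : Set Ω) := by
  by_contra hle
  obtain ⟨D⟩ := exists_core hS hE hrk
  have hlt : normalizerIn S E < S := lt_of_le_of_ne inf_le_left fun h => hle (h ▸ inf_le_right)
  obtain ⟨Q, hQ, hQn⟩ := exists_fullyNormalized F hlt.le
  obtain ⟨h, hh, hhQ, -⟩ := exists_map_to_fullyNormalized hS hF hQn hQ
  have hh' := hh.res (le_normalizerIn hlt.le)
  obtain ⟨⟨D'⟩, hN⟩ := D.transfer hh'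
  refine core_false hS hp5 hsr hF D' ?_ (hN ▸ hhQ ▸ hQn)
  rw [hN]
  refine lt_of_le_of_ne hh'.fimg_le_S fun heq => ?_
  have hc := hh'.card_fimg
  rw [heq] at hc
  exact (card_lt_of_lt hlt).ne hc.symm

end Cfsg.Agent.Invol.EssThree
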