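import Cfsg.Agent.Lib.Invol.EssThree.Frame

/-!
# The maximal subgroup is invariant when it is acted on by regular unipotent elements
-/

set_option autoImplicit false
set_option linter.style.haveILetI false
set_option linter.unusedSectionVars false

namespace Cfsg.Agent.Invol.EssThree

open scoped commutatorElement
open Module

variable {p : ℕ} [hp : Fact p.Prime] {G : Type*} [Group G]

theorem comm_pow_pow {H : Type*} [Group H] {x y z : H} (h : ⁅x, y⁆ = z) (hzx : Commute z x)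
    (hzy : Commute z y) (i : ℕ) : ∀ j : ℕ, ⁅x ^ i, y ^ j⁆ = z ^ (i * j) := by
  have h1 : ∀ i : ℕ, ⁅x ^ i, y⁆ = z ^ i := by
    intro i
    induction i with
    | zero => simp
    | succ i ih =>
      rw [pow_succ', show ⁅x * x ^ i, y⁆ = x * ⁅x ^ i, y⁆ * x⁻¹ * ⁅x, y⁆ by
        simp only [commutatorElement_def]; group, ih, h, ← (hzx.pow_left i).eq,
        mul_inv_cancel_right, ← pow_succ]
  intro j
  induction j with
  | zero => simp
  | succ j ih =>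
    rw [pow_succ, show ⁅x ^ i, y ^ j * y⁆ = ⁅x ^ i, y ^ j⁆ * (y ^ j * ⁅x ^ i, y⁆ * (y ^ j)⁻¹) by
      simp only [commutatorElement_def]; group, ih, h1,
      ← ((hzy.pow_left i).pow_right j).eq, mul_inv_cancel_right, ← pow_add, Nat.mul_succ]

theorem closure_mapsTo {H : Type*} [Group H] (f : H →* H) {S : Set H} (hf : ∀ s ∈ S, f s ∈ S)
    {x : H} (hx : x ∈ Subgroup.closure S) : f x ∈ Subgroup.closure S :=
  ((Subgroup.closure_le ((Subgroup.closure S).comap f)).2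
    fun s hs => Subgroup.subset_closure (hf s hs)) hx

theorem mul_card_le_of_lt [Finite G] (hG : IsPGroup p G) {H K : Subgroup G} (h : H < K) :
    p * Nat.card H ≤ Nat.card K := by
  obtain ⟨i, hi⟩ := IsPGroup.iff_card.1 (hG.to_subgroup H)
  obtain ⟨j, hj⟩ := IsPGroup.iff_card.1 (hG.to_subgroup K)
  have hle := Subgroup.card_le_of_le h.le
  have hne : Nat.card H ≠ Nat.card K := fun e => h.ne (Subgroup.eq_of_le_of_card_ge h.le e.ge)
  rw [hi, hj] at hle hne ⊢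
  rw [← pow_succ']
  have h1 := (Nat.pow_le_pow_iff_right hp.out.one_lt).1 hle
  exact Nat.pow_le_pow_right hp.out.pos (lt_of_le_of_ne h1 fun e => hne (by rw [e]))

namespace Frame

variable (D : Frame p G)

/-- The preimage of a subspace. -/
def pre (U : Submodule (ZMod p) (V3 p)) : Subgroup G where
  carrier := {a | a ∈ D.E ∧ D.q a ∈ U}
  one_mem' := ⟨D.E.one_mem, by rw [D.q_one]; exact U.zero_mem⟩
  mul_mem' {a b} ha hb := ⟨D.E.mul_mem ha.1 hb.1, by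
    rw [D.q_mul a ha.1 b hb.1]; exact U.add_mem ha.2 hb.2⟩
  inv_mem' {a} ha := ⟨D.E.inv_mem ha.1, by rw [D.q_inv ha.1]; exact U.neg_mem ha.2⟩

theorem mem_pre {U : Submodule (ZMod p) (V3 p)} {a : G} :
    a ∈ D.pre U ↔ a ∈ D.E ∧ D.q a ∈ U := Iff.rfl

theorem pre_le (U : Submodule (ZMod p) (V3 p)) : D.pre U ≤ D.E := fun _ ha => ha.1

theorem phi_le_pre (U : Submodule (ZMod p) (V3 p)) : D.Φ ≤ D.pre U := fun a ha =>
  ⟨D.le ha, by rw [(D.q_zero a (D.le ha)).2 ha]; exact U.zero_mem⟩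

theorem pre_normal {U : Submodule (ZMod p) (V3 p)} (hU : ∀ g, ∀ v ∈ U, D.T g v ∈ U) :
    (D.pre U).Normal :=
  ⟨fun a ha g => ⟨D.conj_mem ha.1, by rw [D.q_conj g a ha.1]; exact hU g _ ha.2⟩⟩

end Frame

variable [Finite G]

/-- In the regular case a maximal subgroup with an irreducible automizer is characteristic. -/
theorem regular_false (hp5 : 5 ≤ p) (hG : IsPGroup p G) (hR : Rank3 p G) (D : Frame p G)
    (ξ : MulAut G) (hξ : D.E.map ξ.toMonoidHom ≠ D.E)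
    (hξ2 : D.E.map (ξ ^ 2).toMonoidHom ≠ D.E) (Γ : Set (GL3 p))
    (hΓ : ∀ g ∈ Γ, ∃ α : MulAut D.E, ∀ a : D.E, D.q (α a) = g (D.q a))
    (hirr : ∀ U : Submodule (ZMod p) (V3 p), (∀ g ∈ Γ, ∀ v ∈ U, g v ∈ U) → U = ⊥ ∨ U = ⊤)
    (hreg : ∀ u, u ∉ D.E → ∃ v ∈ D.E, ⁅u, ⁅u, v⁆⁆ ∉ D.Φ) : False := by
  classical
  haveI hEn : D.E.Normal := D.normal
  haveI hΦn : D.Φ.Normal := D.phi_normal
  set E' := D.E.map ξ.toMonoidHom with hE'
  set Φ' := D.Φ.map ξ.toMonoidHom with hΦ'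
  have hξinj : Function.Injective ξ.toMonoidHom := ξ.injective
  have hE'n : E'.Normal := D.normal.map _ ξ.surjective
  have hΦ'n : Φ'.Normal := D.phi_normal.map _ ξ.surjective
  have hE'card : Nat.card E' = Nat.card D.E := Subgroup.card_map_of_injective hξinj
  have hnotle : ¬ E' ≤ D.E := fun h => hξ (Subgroup.eq_of_le_of_card_ge h hE'card.ge)
  obtain ⟨n, hnE', hn⟩ : ∃ n ∈ E', n ∉ D.E := SetLike.not_le_iff_exists.1 hnotle
  obtain ⟨e, he, hne⟩ := hreg n hn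
  set m := ⁅n, e⁆ with hm
  set b := ⁅n, m⁆ with hb
  have hmE : m ∈ D.E := D.comm_mem_E n he
  have hbE : b ∈ D.E := D.comm_mem_E n hmE
  obtain ⟨N, hN⟩ : ∃ N : V3 p →ₗ[ZMod p] V3 p, ∀ v, N v = D.T n v - v :=
    ⟨(D.T n : V3 p →ₗ[ZMod p] V3 p) - LinearMap.id, fun v => rfl⟩
  have hqm : D.q m = N (D.q e) := by rw [hm, D.q_comm n he, hN]
  have hqb : D.q b = N (D.q m) := by rw [hb, D.q_comm n hmE, hN]
  have hqb0 : D.q b ≠ 0 := fun h => hne ((D.q_zero b hbE).1 h)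
  have hcube : ∀ v, N (N (N v)) = 0 := fun v => by
    simp only [hN, map_sub]
    have h := cube_zero (k := 1) (by rw [pow_one]; exact D.T_pow n) v
    simp only [map_sub] at h
    exact h
  have hNb : N (D.q b) = 0 := by rw [hqb, hqm]; exact hcube _
  have hli : LinearIndependent (ZMod p) ![D.q e, D.q m, D.q b] := by
    rw [Fintype.linearIndependent_iff]
    intro a ha
    simp only [Fin.sum_univ_three, Matrix.cons_val_zero, Matrix.cons_val_one, Matrix.cons_val]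
      at ha
    have h1 := congrArg (fun x => N (N x)) ha
    simp only [map_add, map_smul, ← hqm, ← hqb, hNb, smul_zero, add_zero, map_zero] at h1
    have a0 := (smul_eq_zero.1 h1).resolve_right hqb0
    rw [a0, zero_smul, zero_add] at ha
    have h2 := congrArg N ha
    simp only [map_add, map_smul, ← hqb, hNb, smul_zero, add_zero, map_zero] at h2
    have a1 := (smul_eq_zero.1 h2).resolve_right hqb0
    rw [a1, zero_smul, zero_add] at ha
    intro i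
    fin_cases i
    · exact a0
    · exact a1
    · exact (smul_eq_zero.1 ha).resolve_right hqb0
  set U1 := Submodule.span (ZMod p) {D.q b} with hU1
  set U2 := Submodule.span (ZMod p) {D.q m, D.q b} with hU2
  have hU12 : U1 ≤ U2 := Submodule.span_mono (by simp)
  have hN2 : ∀ v ∈ U2, N v ∈ U1 := fun v hv => by
    obtain ⟨r, s, rfl⟩ := Submodule.mem_span_pair.1 hv
    simp only [map_add, map_smul, ← hqb, hNb, smul_zero, add_zero]
    exact U1.smul_mem _ (Submodule.mem_span_singleton_self _)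
  have hT2 : ∀ g, ∀ v ∈ U2, D.T g v - v ∈ U1 ∧ (v ∈ U1 → D.T g v = v) := by
    intro g v hv
    obtain ⟨i, a, ha, rfl⟩ := D.exists_decomp hn g
    rw [map_mul, D.T_one a ha, one_mul, map_pow]
    clear ha
    induction i generalizing v with
    | zero => exact ⟨by simp, fun _ => by simp⟩
    | succ i ih =>
      rw [pow_succ, LinearEquiv.mul_apply]
      have h1 : D.T n v - v ∈ U1 := by rw [← hN]; exact hN2 v hv
      have hv' : D.T n v ∈ U2 := by
        rw [show D.T n v = (D.T n v - v) + v by abel]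
        exact U2.add_mem (hU12 h1) hv
      obtain ⟨h2, h3⟩ := ih _ hv'
      refine ⟨?_, fun hv1 => ?_⟩
      · rw [show (D.T n ^ i) (D.T n v) - v =
          ((D.T n ^ i) (D.T n v) - D.T n v) + (D.T n v - v) by abel]
        exact U1.add_mem h2 h1
      · have : D.T n v = v := by
          obtain ⟨r, rfl⟩ := Submodule.mem_span_singleton.1 hv1
          refine sub_eq_zero.1 ?_
          rw [← hN, map_smul, hNb, smul_zero]
        rw [this] at h3 ⊢
        exact h3 hv1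
  set M := D.pre U2 with hM
  set L := D.pre U1 with hL
  have hLM : L ≤ M := fun a ha => ⟨ha.1, hU12 ha.2⟩
  have hMn : M.Normal := D.pre_normal fun g v hv => by
    rw [show D.T g v = (D.T g v - v) + v by abel]
    exact U2.add_mem (hU12 (hT2 g v hv).1) hv
  have hLn : L.Normal := D.pre_normal fun g v hv => by rw [(hT2 g v (hU12 hv)).2 hv]; exact hv
  have hqpre : ∀ a ∈ D.E, ∃ x y z : ℕ, ∃ φ ∈ D.Φ, a = e ^ x * m ^ y * b ^ z * φ ∧
      D.q a = (x : ZMod p) • D.q e + (y : ZMod p) • D.q m + (z : ZMod p) • D.q b := by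
    intro a ha
    obtain ⟨x, y, z, hxyz⟩ := span_three hli (D.q a)
    have hA : e ^ x.val * m ^ y.val * b ^ z.val ∈ D.E :=
      D.E.mul_mem (D.E.mul_mem (D.E.pow_mem he _) (D.E.pow_mem hmE _)) (D.E.pow_mem hbE _)
    refine ⟨x.val, y.val, z.val, (e ^ x.val * m ^ y.val * b ^ z.val)⁻¹ * a, ?_,
      (mul_inv_cancel_left _ _).symm, by simpa only [ZMod.natCast_zmod_val] using hxyz⟩
    rw [← D.q_eq_iff hA ha, D.q_mul _ (D.E.mul_mem (D.E.pow_mem he _) (D.E.pow_mem hmE _)) _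
      (D.E.pow_mem hbE _), D.q_mul _ (D.E.pow_mem he _) _ (D.E.pow_mem hmE _), D.q_pow he,
      D.q_pow hmE, D.q_pow hbE, hxyz]
    simp only [ZMod.natCast_zmod_val]
  have hdvd : ∀ x : ℕ, (x : ZMod p) = 0 → ∀ {c : G}, c ∈ D.E → c ^ x ∈ D.Φ := fun x hx c hc => by
    rw [← D.q_zero _ (D.E.pow_mem hc x), D.q_pow hc, hx, zero_smul]
  -- `E ⊓ E' = M`
  have hab : ∀ g h : G, ⁅g, h⁆ ∈ D.E ⊓ E' := by
    intro g h
    have key : ∀ (H : Subgroup G) (hH : H.Normal), H.index = p → ⁅g, h⁆ ∈ H := by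
      intro H hH hHi
      haveI := hH
      haveI : IsCyclic (G ⧸ H) := isCyclic_of_prime_card (p := p) hHi
      rw [← QuotientGroup.eq_one_iff, ← QuotientGroup.mk'_apply, map_commutatorElement,
        commutatorElement_eq_one_iff_mul_comm]
      exact (IsCyclic.commGroup (α := G ⧸ H)).mul_comm _ _
    refine ⟨key _ D.normal D.index_eq, key _ hE'n ?_⟩
    rw [hE', Subgroup.index_map_of_bijective ξ.bijective, D.index_eq]
  have hE'p : ∀ g : G, g ^ p ∈ E' := fun g =>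
    ⟨ξ.symm g ^ p, D.pow_p_mem _, by
      show ξ (ξ.symm g ^ p) = g ^ p
      rw [map_pow, ξ.apply_symm_apply]⟩
  have hΦE' : D.Φ ≤ E' := D.phi_le E' hE'n (fun a _ c _ => (hab a c).2) (fun a _ => hE'p a)
  have hmE' : m ∈ E' := (hab n e).2
  have hbE' : b ∈ E' := (hab n m).2
  have hMeq : D.E ⊓ E' = M := by
    refine le_antisymm ?_ ?_
    · intro a ha
      refine ⟨ha.1, ?_⟩
      obtain ⟨x, y, z, φ, hφ, haeq, hqa⟩ := hqpre a ha.1
      rw [hqa]
      by_cases hx : (x : ZMod p) = 0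
      · rw [hx, zero_smul, zero_add]
        exact Submodule.mem_span_pair.2 ⟨_, _, rfl⟩
      exfalso
      refine hξ (Subgroup.eq_of_le_of_card_ge ?_ hE'card.le).symm
      have hex : e ^ x ∈ E' := by
        have h : e ^ x = a * φ⁻¹ * (b ^ z)⁻¹ * (m ^ y)⁻¹ := by rw [haeq]; group
        rw [h]
        exact E'.mul_mem (E'.mul_mem (E'.mul_mem ha.2 (E'.inv_mem (hΦE' hφ)))
          (E'.inv_mem (E'.pow_mem hbE' z))) (E'.inv_mem (E'.pow_mem hmE' y))
      have hxp : Nat.Coprime x p := by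
        rw [Nat.coprime_comm, hp.out.coprime_iff_not_dvd, ← ZMod.natCast_eq_zero_iff]
        exact hx
      obtain ⟨i, -, hi⟩ := Nat.exists_mul_mod_eq_one_of_coprime hxp hp.out.one_lt
      have heE' : e ∈ E' := by
        have h1 := E'.pow_mem hex i
        rw [← pow_mul, ← Nat.mod_add_div (x * i) p, hi, pow_add, pow_one, pow_mul] at h1
        exact (E'.mul_mem_cancel_right (E'.pow_mem (hE'p e) _)).1 h1
      intro c hc
      obtain ⟨x', y', z', φ', hφ', hceq, -⟩ := hqpre c hc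
      rw [hceq]
      exact E'.mul_mem (E'.mul_mem (E'.mul_mem (E'.pow_mem heE' _) (E'.pow_mem hmE' _))
        (E'.pow_mem hbE' _)) (hΦE' hφ')
    · intro a ha
      refine ⟨ha.1, ?_⟩
      obtain ⟨x, y, z, φ, hφ, haeq, hqa⟩ := hqpre a ha.1
      obtain ⟨r, s, hrs⟩ := Submodule.mem_span_pair.1 ha.2
      rw [hqa] at hrs
      have hx : (x : ZMod p) = 0 := by
        have h := Fintype.linearIndependent_iff.1 hli
          ![(x : ZMod p), (y : ZMod p) - r, (z : ZMod p) - s] (by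
          simp only [Fin.sum_univ_three, Matrix.cons_val_zero, Matrix.cons_val_one, Matrix.cons_val,
            sub_smul]
          rw [show (x : ZMod p) • D.q e + ((y : ZMod p) • D.q m - r • D.q m) +
            ((z : ZMod p) • D.q b - s • D.q b) = ((x : ZMod p) • D.q e + (y : ZMod p) • D.q m +
              (z : ZMod p) • D.q b) - (r • D.q m + s • D.q b) by abel, ← hrs, sub_self]) 0
        simpa using h
      rw [haeq]
      exact E'.mul_mem (E'.mul_mem (E'.mul_mem (hΦE' (hdvd x hx he)) (E'.pow_mem hmE' _))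
        (E'.pow_mem hbE' _)) (hΦE' hφ)
  have hcommM : ∀ g h : G, ⁅g, h⁆ ∈ M := fun g h => hMeq ▸ hab g h
  have hmM : m ∈ M := hcommM n e
  have hbL : b ∈ L := ⟨hbE, Submodule.mem_span_singleton_self _⟩
  have hML : ∀ g, ∀ a ∈ M, ⁅g, a⁆ ∈ L := fun g a ha =>
    ⟨D.comm_mem_E g ha.1, by rw [D.q_comm g ha.1]; exact (hT2 g _ ha.2).1⟩
  have hLΦ : ∀ g, ∀ a ∈ L, ⁅g, a⁆ ∈ D.Φ := fun g a ha => by
    rw [← D.q_zero _ (D.comm_mem_E g ha.1), D.q_comm g ha.1, (hT2 g _ (hU12 ha.2)).2 ha.2,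
      sub_self]
  have hmL : m ∉ L := fun h => hne (hLΦ n m h)
  have heM : e ∉ M := fun h => hmL (hML n e h)
  -- the conjugate Frattini subgroup
  have hΦ'L : Φ' ≤ L := by
    refine D.map_phi_le ξ L hLn ?_ ?_
    · intro a ha c hc
      obtain ⟨i, a0, ha0, rfl⟩ := D.exists_decomp hn a
      obtain ⟨j, c0, hc0, rfl⟩ := D.exists_decomp hn c
      have ha0M : a0 ∈ M := hMeq ▸
        ⟨ha0, (E'.mul_mem_cancel_right (E'.pow_mem hnE' i)).1 ha⟩
      have hc0M : c0 ∈ M := hMeq ▸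
        ⟨hc0, (E'.mul_mem_cancel_right (E'.pow_mem hnE' j)).1 hc⟩
      haveI := hLn
      have hcentral : ∀ y ∈ M, ∀ g : G,
          Commute (QuotientGroup.mk' L y) (QuotientGroup.mk' L g) := fun y hy g => by
        rw [commute_iff_eq, eq_comm, ← commutatorElement_eq_one_iff_mul_comm,
          ← map_commutatorElement, QuotientGroup.mk'_apply, QuotientGroup.eq_one_iff]
        exact hML g y hy
      rw [← QuotientGroup.eq_one_iff, ← QuotientGroup.mk'_apply, map_commutatorElement,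
        commutatorElement_eq_one_iff_mul_comm, map_mul, map_mul]
      refine Commute.eq ?_
      refine Commute.mul_left ((hcentral a0 ha0M c0).mul_right (hcentral a0 ha0M _)) ?_
      refine Commute.mul_right (hcentral c0 hc0M _).symm ?_
      rw [map_pow, map_pow]
      exact (Commute.refl _).pow_pow i j
    · intro a ha
      obtain ⟨i, a0, ha0, rfl⟩ := D.exists_decomp hn a
      refine ⟨D.pow_p_mem _, ?_⟩
      rw [D.q_mul_pow_p hp5 ha0, ← pow_mul, mul_comm, pow_mul, D.q_pow (D.pow_p_mem n)]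
      refine U1.smul_mem _ ?_
      have hfix : N (D.q (n ^ p)) = 0 := by
        rw [hN, ← D.q_conj n _ (D.pow_p_mem n), show n * n ^ p * n⁻¹ = n ^ p by group, sub_self]
      obtain ⟨x, y, z, hxyz⟩ := span_three hli (D.q (n ^ p))
      rw [hxyz] at hfix ⊢
      simp only [map_add, map_smul, ← hqm, ← hqb, hNb, smul_zero, add_zero] at hfix
      have h := Fintype.linearIndependent_iff.1 hli ![0, x, y] (by
        simpa [Fin.sum_univ_three] using hfix)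
      rw [show x = 0 by simpa using h 1, show y = 0 by simpa using h 2, zero_smul, zero_smul,
        zero_add, zero_add]
      exact U1.smul_mem _ (Submodule.mem_span_singleton_self _)
  have hξL : L.map ξ.toMonoidHom = L := by
    refine Subgroup.eq_of_le_of_card_ge ?_ (Subgroup.card_map_of_injective hξinj).ge
    rintro _ ⟨a, ha, rfl⟩
    obtain ⟨x, y, z, φ, hφ, haeq, hqa⟩ := hqpre a ha.1
    obtain ⟨r, hr⟩ := Submodule.mem_span_singleton.1 ha.2
    rw [hqa] at hr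
    have h := Fintype.linearIndependent_iff.1 hli
      ![(x : ZMod p), (y : ZMod p), (z : ZMod p) - r] (by
      simp only [Fin.sum_univ_three, Matrix.cons_val_zero, Matrix.cons_val_one, Matrix.cons_val,
        sub_smul]
      rw [show (x : ZMod p) • D.q e + (y : ZMod p) • D.q m + ((z : ZMod p) • D.q b - r • D.q b) =
        ((x : ZMod p) • D.q e + (y : ZMod p) • D.q m + (z : ZMod p) • D.q b) - r • D.q b by abel,
        ← hr, sub_self])
    have hx : (x : ZMod p) = 0 := by simpa using h 0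
    have hy : (y : ZMod p) = 0 := by simpa using h 1
    have hξb : ξ b ∈ L := by
      rw [hb, hm, map_commutatorElement, map_commutatorElement]
      exact hML _ _ (hcommM _ _)
    show ξ a ∈ L
    rw [haeq, map_mul, map_mul, map_mul, map_pow ξ b]
    exact L.mul_mem (L.mul_mem (L.mul_mem (hΦ'L ⟨_, hdvd x hx he, rfl⟩)
      (hΦ'L ⟨_, hdvd y hy hmE, rfl⟩)) (L.pow_mem hξb z)) (hΦ'L ⟨φ, hφ, rfl⟩)
  have hξM : M.map ξ.toMonoidHom = M := by
    refine Subgroup.eq_of_le_of_card_ge ?_ (Subgroup.card_map_of_injective hξinj).ge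
    rintro _ ⟨a, ha, rfl⟩
    obtain ⟨x, y, z, φ, hφ, haeq, hqa⟩ := hqpre a ha.1
    obtain ⟨r, s, hrs⟩ := Submodule.mem_span_pair.1 ha.2
    rw [hqa] at hrs
    have hx : (x : ZMod p) = 0 := by
      have h := Fintype.linearIndependent_iff.1 hli
        ![(x : ZMod p), (y : ZMod p) - r, (z : ZMod p) - s] (by
        simp only [Fin.sum_univ_three, Matrix.cons_val_zero, Matrix.cons_val_one, Matrix.cons_val,
          sub_smul]
        rw [show (x : ZMod p) • D.q e + ((y : ZMod p) • D.q m - r • D.q m) +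
          ((z : ZMod p) • D.q b - s • D.q b) = ((x : ZMod p) • D.q e + (y : ZMod p) • D.q m +
            (z : ZMod p) • D.q b) - (r • D.q m + s • D.q b) by abel, ← hrs, sub_self]) 0
      simpa using h
    have hξm : ξ m ∈ M := by rw [hm, map_commutatorElement]; exact hcommM _ _
    have hξb : ξ b ∈ M := by rw [hb, map_commutatorElement]; exact hcommM _ _
    show ξ a ∈ M
    rw [haeq, map_mul, map_mul, map_mul, map_pow ξ b, map_pow ξ m]
    exact M.mul_mem (M.mul_mem (M.mul_mem (hLM (hΦ'L ⟨_, hdvd x hx he, rfl⟩))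
      (M.pow_mem hξm y)) (M.pow_mem hξb z)) (hLM (hΦ'L ⟨φ, hφ, rfl⟩))
  have hLΦ' : ∀ g, ∀ a ∈ L, ⁅g, a⁆ ∈ Φ' := fun g a ha => by
    rw [← hξL] at ha
    obtain ⟨a0, ha0, rfl⟩ := ha
    refine ⟨⁅ξ.symm g, a0⁆, hLΦ _ _ ha0, ?_⟩
    show ξ ⁅ξ.symm g, a0⁆ = _
    rw [map_commutatorElement, ξ.apply_symm_apply]
    rfl
  have hΦne : Φ' ≠ D.Φ := fun h => hne (by
    obtain ⟨n0, hn0, hn0e⟩ := hnE'
    obtain ⟨m0, hm0, hm0e⟩ := hmE'
    rw [hb, ← h]
    refine ⟨⁅n0, m0⁆, D.comm_mem hn0 hm0, ?_⟩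
    rw [map_commutatorElement, hn0e, hm0e])
  have hΦL : D.Φ ≤ L := D.phi_le_pre _
  set I := D.Φ ⊓ Φ' with hI
  have hIn : I.Normal := inferInstance
  have hIΦ : I ≤ D.Φ := inf_le_left
  have hInv : ¬ D.Φ ≤ I := fun h => hΦne (Subgroup.eq_of_le_of_card_ge
    (fun a ha => (h ha).2) (Subgroup.card_map_of_injective hξinj).le).symm
  have hLI : ∀ g, ∀ a ∈ L, ⁅g, a⁆ ∈ I := fun g a ha => ⟨hLΦ g a ha, hLΦ' g a ha⟩
  have hem : ⁅e, m⁆ ∉ I := by
    intro hemI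
    have hMΦ' : ∀ a ∈ M, ⁅e, a⁆ ∈ Φ' := by
      intro a ha
      obtain ⟨x, y, z, φ, hφ, haeq, hqa⟩ := hqpre a ha.1
      obtain ⟨r, s, hrs⟩ := Submodule.mem_span_pair.1 ha.2
      rw [hqa] at hrs
      have hx : (x : ZMod p) = 0 := by
        have h := Fintype.linearIndependent_iff.1 hli
          ![(x : ZMod p), (y : ZMod p) - r, (z : ZMod p) - s] (by
          simp only [Fin.sum_univ_three, Matrix.cons_val_zero, Matrix.cons_val_one, Matrix.cons_val,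
            sub_smul]
          rw [show (x : ZMod p) • D.q e + ((y : ZMod p) • D.q m - r • D.q m) +
            ((z : ZMod p) • D.q b - s • D.q b) = ((x : ZMod p) • D.q e + (y : ZMod p) • D.q m +
              (z : ZMod p) • D.q b) - (r • D.q m + s • D.q b) by abel, ← hrs, sub_self]) 0
        simpa using h
      haveI := hΦ'n
      rw [← QuotientGroup.eq_one_iff, ← QuotientGroup.mk'_apply, map_commutatorElement,
        commutatorElement_eq_one_iff_mul_comm]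
      have hc : ∀ c, ⁅e, c⁆ ∈ Φ' →
          Commute (QuotientGroup.mk' Φ' e) (QuotientGroup.mk' Φ' c) := fun c hc => by
        rw [commute_iff_eq, ← commutatorElement_eq_one_iff_mul_comm, ← map_commutatorElement,
          QuotientGroup.mk'_apply, QuotientGroup.eq_one_iff]
        exact hc
      refine Commute.eq ?_
      rw [haeq, map_mul, map_mul, map_mul, map_pow _ b, map_pow _ m]
      exact ((((hc _ (hLΦ' _ _ (hΦL (hdvd x hx he)))).mul_right
        ((hc m hemI.2).pow_right y)).mul_right ((hc b (hLΦ' _ _ hbL)).pow_right z))).mul_right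
        (hc _ (hLΦ' _ _ (hΦL hφ)))
    have hu : ξ.symm e ∉ D.E := fun h => heM (hMeq ▸ ⟨he, ξ.symm e, h, ξ.apply_symm_apply e⟩)
    obtain ⟨v, hv, hvne⟩ := hreg _ hu
    have h2 : ⁅e, ⁅e, ξ v⁆⁆ ∈ Φ' := hMΦ' _ (hcommM _ _)
    obtain ⟨w, hw, hwe⟩ := h2
    refine hvne ?_
    have h3 : ξ ⁅ξ.symm e, ⁅ξ.symm e, v⁆⁆ = ξ w := by
      rw [map_commutatorElement, map_commutatorElement, ξ.apply_symm_apply]
      exact hwe.symm
    rwa [ξ.injective h3]
  -- coordinates on `Φ / J`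
  set S : Set G := {x | (∃ φ ∈ D.Φ, φ ^ p = x) ∨ ∃ φ ∈ D.Φ, ∃ a ∈ D.E, ⁅φ, a⁆ = x} with hS
  set J := Subgroup.closure S with hJ
  have hSpow : ∀ φ ∈ D.Φ, φ ^ p ∈ J := fun φ hφ =>
    Subgroup.subset_closure (Or.inl ⟨φ, hφ, rfl⟩)
  have hScomm : ∀ φ ∈ D.Φ, ∀ a ∈ D.E, ⁅φ, a⁆ ∈ J := fun φ hφ a ha =>
    Subgroup.subset_closure (Or.inr ⟨φ, hφ, a, ha, rfl⟩)
  have hJI : J ≤ I := by
    refine (Subgroup.closure_le I).2 ?_
    rintro x (⟨φ, hφ, rfl⟩ | ⟨φ, hφ, a, ha, rfl⟩)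
    · refine ⟨D.Φ.pow_mem hφ p, ?_⟩
      obtain ⟨φ0, hφ0, rfl⟩ : φ ∈ E' := hΦE' hφ
      exact ⟨φ0 ^ p, D.pow_mem hφ0, map_pow ξ.toMonoidHom φ0 p⟩
    · rw [← commutatorElement_inv]
      exact I.inv_mem (hLI a φ (hΦL hφ))
  have hJΦ : J ≤ D.Φ := hJI.trans hIΦ
  have hJn : J.Normal := ⟨fun x hx g => by
    refine closure_mapsTo (MulAut.conj g).toMonoidHom ?_ hx
    rintro s (⟨φ, hφ, rfl⟩ | ⟨φ, hφ, a, ha, rfl⟩)
    · exact Or.inl ⟨g * φ * g⁻¹, hΦn.conj_mem φ hφ g, (map_pow (MulAut.conj g).toMonoidHom φ p).symm⟩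
    · exact Or.inr ⟨g * φ * g⁻¹, hΦn.conj_mem φ hφ g, g * a * g⁻¹, D.conj_mem ha,
        (map_commutatorElement (MulAut.conj g).toMonoidHom φ a).symm⟩⟩
  obtain ⟨k, ω, hωm, hω0, hωs, hωc⟩ := exists_coord D.Φ J hJΦ
    (fun a ha c hc => hScomm a ha c (D.le hc)) hSpow
  have hk3 : k ≤ 3 := dim_le_three hR hJΦ (fun a ha c hc => hScomm a ha c (D.le hc)) hSpow hωc
  have hω1 : ω 1 = 0 := (hω0 1 D.Φ.one_mem).2 J.one_mem
  have hωinv : ∀ φ ∈ D.Φ, ω φ⁻¹ = -ω φ := fun φ hφ => by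
    have h := hωm φ⁻¹ (D.Φ.inv_mem hφ) φ hφ
    rw [inv_mul_cancel, hω1] at h
    exact eq_neg_of_add_eq_zero_left h.symm
  have hωpow : ∀ φ ∈ D.Φ, ∀ i : ℕ, ω (φ ^ i) = (i : ZMod p) • ω φ := fun φ hφ i => by
    induction i with
    | zero => rw [pow_zero, hω1, Nat.cast_zero, zero_smul]
    | succ i ih =>
      rw [pow_succ, hωm _ (D.Φ.pow_mem hφ i) _ hφ, ih, Nat.cast_succ, add_smul, one_smul]
  have hωE : ∀ a ∈ D.E, ∀ φ ∈ D.Φ, ω (a * φ * a⁻¹) = ω φ := fun a ha φ hφ => by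
    have h1 : ⁅φ, a⁆⁻¹ ∈ J := J.inv_mem (hScomm φ hφ a ha)
    rw [show a * φ * a⁻¹ = ⁅φ, a⁆⁻¹ * φ by simp only [commutatorElement_def]; group,
      hωm _ (hJΦ h1) _ hφ, (hω0 _ (hJΦ h1)).2 h1, zero_add]
  set C : G → G → Fin k → ZMod p := fun a c => ω ⁅a, c⁆ with hC
  have hCadd : ∀ a ∈ D.E, ∀ a' ∈ D.E, ∀ c ∈ D.E, C (a * a') c = C a c + C a' c := by
    intro a ha a' ha' c hc
    show ω ⁅a * a', c⁆ = _
    rw [show ⁅a * a', c⁆ = a * ⁅a', c⁆ * a⁻¹ * ⁅a, c⁆ by simp only [commutatorElement_def]; group,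
      hωm _ (hΦn.conj_mem _ (D.comm_mem ha' hc) a) _ (D.comm_mem ha hc),
      hωE a ha _ (D.comm_mem ha' hc), add_comm]
  have hCskew : ∀ a ∈ D.E, ∀ c ∈ D.E, C c a = -C a c := fun a ha c hc => by
    show ω ⁅c, a⁆ = -ω ⁅a, c⁆
    rw [← hωinv _ (D.comm_mem ha hc), commutatorElement_inv]
  have hC0 : ∀ φ ∈ D.Φ, ∀ c ∈ D.E, C φ c = 0 := fun φ hφ c hc =>
    (hω0 _ (D.comm_mem (D.le hφ) hc)).2 (hScomm φ hφ c hc)
  have hC1 : ∀ c ∈ D.E, C 1 c = 0 := fun c hc => hC0 1 D.Φ.one_mem c hc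
  have hCpow : ∀ a ∈ D.E, ∀ c ∈ D.E, ∀ i : ℕ, C (a ^ i) c = (i : ZMod p) • C a c := by
    intro a ha c hc i
    induction i with
    | zero => rw [pow_zero, hC1 c hc, Nat.cast_zero, zero_smul]
    | succ i ih =>
      rw [pow_succ, hCadd _ (D.E.pow_mem ha i) _ ha c hc, ih, Nat.cast_succ, add_smul, one_smul]
  have hCself : ∀ a, C a a = 0 := fun a => by
    show ω ⁅a, a⁆ = 0
    rw [commutatorElement_self, hω1]
  have hCexp : ∀ a ∈ D.E, ∀ c ∈ D.E, ∀ x y z : ZMod p,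
      D.q a = x • D.q e + y • D.q m + z • D.q b →
      C a c = x • C e c + y • C m c + z • C b c := by
    intro a ha c hc x y z hq
    set a' := e ^ x.val * m ^ y.val * b ^ z.val with ha'
    have h1 := D.E.pow_mem he x.val
    have h2 := D.E.pow_mem hmE y.val
    have h3 := D.E.pow_mem hbE z.val
    have ha'E : a' ∈ D.E := D.E.mul_mem (D.E.mul_mem h1 h2) h3
    have hφ : a'⁻¹ * a ∈ D.Φ := by
      rw [← D.q_eq_iff ha'E ha, ha', D.q_mul _ (D.E.mul_mem h1 h2) _ h3, D.q_mul _ h1 _ h2,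
        D.q_pow he, D.q_pow hmE, D.q_pow hbE, hq]
      simp only [ZMod.natCast_zmod_val]
    rw [show a = a' * (a'⁻¹ * a) by group, hCadd _ ha'E _ (D.le hφ) c hc, hC0 _ hφ c hc, add_zero,
      ha', hCadd _ (D.E.mul_mem h1 h2) _ h3 c hc, hCadd _ h1 _ h2 c hc, hCpow e he c hc,
      hCpow m hmE c hc, hCpow b hbE c hc]
    simp only [ZMod.natCast_zmod_val]
  have hCem : C e m ≠ 0 := fun h => hem (hJI ((hω0 _ (D.comm_mem he hmE)).1 h))
  let Rad : Submodule (ZMod p) (V3 p) :=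
    { carrier := {v | ∃ a ∈ D.E, D.q a = v ∧ ∀ c ∈ D.E, C a c = 0}
      zero_mem' := ⟨1, D.E.one_mem, D.q_one, hC1⟩
      add_mem' := by
        rintro _ _ ⟨a, ha, rfl, ha0⟩ ⟨a', ha', rfl, ha'0⟩
        exact ⟨a * a', D.E.mul_mem ha ha', D.q_mul a ha a' ha', fun c hc => by
          rw [hCadd a ha a' ha' c hc, ha0 c hc, ha'0 c hc, add_zero]⟩
      smul_mem' := by
        rintro r _ ⟨a, ha, rfl, ha0⟩
        exact ⟨a ^ r.val, D.E.pow_mem ha _, by rw [D.q_pow ha, ZMod.natCast_zmod_val],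
          fun c hc => by rw [hCpow a ha c hc, ha0 c hc, smul_zero]⟩ }
  have hlift : ∀ g ∈ Γ, ∀ α : MulAut D.E, (∀ a : D.E, D.q (α a) = g (D.q a)) →
      ∀ a c : D.E, C a c = 0 → C (α a) (α c) = 0 := by
    intro g hg α hα a c h
    have hΦα : ∀ x : D.E, (x : G) ∈ D.Φ → ((α x : D.E) : G) ∈ D.Φ := fun x hx => by
      rw [← D.q_zero _ (α x).2, hα, (D.q_zero _ x.2).2 hx, map_zero]
    have hJα : ∀ x : D.E, (x : G) ∈ J → ((α x : D.E) : G) ∈ J := by
      rintro ⟨x, hxE⟩ hx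
      replace hx : x ∈ J := hx
      induction hx using Subgroup.closure_induction with
      | mem s hs =>
        rcases hs with ⟨φ, hφ, rfl⟩ | ⟨φ, hφ, a', ha', rfl⟩
        · rw [show (⟨φ ^ p, hxE⟩ : D.E) = (⟨φ, D.le hφ⟩ : D.E) ^ p from Subtype.ext rfl, map_pow,
            SubmonoidClass.coe_pow]
          exact hSpow _ (hΦα _ hφ)
        · rw [show (⟨⁅φ, a'⁆, hxE⟩ : D.E) = ⁅(⟨φ, D.le hφ⟩ : D.E), ⟨a', ha'⟩⁆ from Subtype.ext rfl,
            map_commutatorElement]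
          exact hScomm _ (hΦα _ hφ) _ (α _).2
      | one =>
        rw [show (⟨1, hxE⟩ : D.E) = 1 from rfl, map_one]
        exact J.one_mem
      | mul u v hu hv ihu ihv =>
        have huE : u ∈ D.E := D.le (hJΦ hu)
        have hvE : v ∈ D.E := D.le (hJΦ hv)
        rw [show (⟨u * v, hxE⟩ : D.E) = ⟨u, huE⟩ * ⟨v, hvE⟩ from rfl, map_mul, Subgroup.coe_mul]
        exact J.mul_mem (ihu huE) (ihv hvE)
      | inv u hu ihu =>
        have huE : u ∈ D.E := D.le (hJΦ hu)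
        rw [show (⟨u⁻¹, hxE⟩ : D.E) = (⟨u, huE⟩ : D.E)⁻¹ from rfl, map_inv, Subgroup.coe_inv]
        exact J.inv_mem (ihu huE)
    have h1 : ((⁅a, c⁆ : D.E) : G) ∈ J := (hω0 _ (D.comm_mem a.2 c.2)).1 h
    have h2 := hJα _ h1
    rw [map_commutatorElement] at h2
    exact (hω0 _ (D.comm_mem (α a).2 (α c).2)).2 h2
  have hRad : Rad = ⊥ := by
    refine (hirr Rad fun g hg v hv => ?_).resolve_right fun htop => ?_
    · obtain ⟨a, ha, rfl, ha0⟩ := hv
      obtain ⟨α, hα⟩ := hΓ g hg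
      refine ⟨α ⟨a, ha⟩, (α _).2, hα ⟨a, ha⟩, fun c hc => ?_⟩
      obtain ⟨c0, hc0⟩ := α.surjective ⟨c, hc⟩
      rw [show c = ((α c0 : D.E) : G) from (congrArg Subtype.val hc0).symm]
      exact hlift g hg α hα ⟨a, ha⟩ c0 (ha0 _ c0.2)
    · obtain ⟨a, ha, hqa, ha0⟩ : D.q e ∈ Rad := htop.ge Submodule.mem_top
      refine hCem ?_
      have h := hCexp a ha m hmE 1 0 0 (by rw [hqa]; simp)
      rw [ha0 m hmE, one_smul, zero_smul, zero_smul, add_zero, add_zero] at h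
      exact h.symm
  have hCmb : C m b ≠ 0 := by
    intro hmb
    have hiso : ∀ a c, a ∈ M → c ∈ M → C a c = 0 := by
      intro a c ha hc
      obtain ⟨r, s, hrs⟩ := Submodule.mem_span_pair.1 ha.2
      obtain ⟨r', s', hrs'⟩ := Submodule.mem_span_pair.1 hc.2
      rw [hCexp a ha.1 c hc.1 0 r s (by rw [zero_smul, zero_add]; exact hrs.symm), zero_smul,
        zero_add, hCskew c hc.1 m hmE, hCskew c hc.1 b hbE,
        hCexp c hc.1 m hmE 0 r' s' (by rw [zero_smul, zero_add]; exact hrs'.symm),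
        hCexp c hc.1 b hbE 0 r' s' (by rw [zero_smul, zero_add]; exact hrs'.symm),
        hCskew m hmE b hbE, hmb, hCself m, hCself b]
      simp
    obtain ⟨g, hg, hgU⟩ : ∃ g ∈ Γ, ∃ v ∈ U2, g v ∉ U2 := by
      by_contra hcon
      push Not at hcon
      rcases hirr U2 hcon with h | h
      · have : D.q b ∈ U2 := hU12 (Submodule.mem_span_singleton_self _)
        rw [h, Submodule.mem_bot] at this
        exact hqb0 this
      · have : D.q e ∈ U2 := h.ge Submodule.mem_top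
        exact heM ⟨he, this⟩
    obtain ⟨v, hv, hgv⟩ := hgU
    obtain ⟨α, hα⟩ := hΓ g hg
    obtain ⟨j, hj⟩ := Function.ne_iff.1 hqb0
    obtain ⟨x, y, hne', hf⟩ := exists_comb (LinearMap.proj j ∘ₗ N ∘ₗ N) (g (D.q m)) (g (D.q b))
      (fun x y h => by
        rw [← map_smul, ← map_smul, ← map_add, LinearEquiv.map_eq_zero_iff] at h
        have h2 := Fintype.linearIndependent_iff.1 hli ![0, x, y] (by
          simpa [Fin.sum_univ_three] using h)
        exact ⟨by simpa using h2 1, by simpa using h2 2⟩)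
    set w := x • g (D.q m) + y • g (D.q b) with hw
    have hwU : w ∈ U2 := by
      obtain ⟨a0, a1, a2, ha⟩ := span_three hli w
      rw [ha] at hf ⊢
      simp only [LinearMap.comp_apply, map_add, map_smul, ← hqm, ← hqb, hNb, smul_zero, add_zero,
        LinearMap.proj_apply, map_zero, smul_eq_mul, mul_zero, Pi.smul_apply, Pi.zero_apply] at hf
      rw [(mul_eq_zero.1 hf).resolve_right hj, zero_smul, zero_add]
      exact Submodule.mem_span_pair.2 ⟨_, _, rfl⟩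
    obtain ⟨w0, hw0E, hw0q⟩ := D.q_surj (x • D.q m + y • D.q b)
    obtain ⟨v0, hv0E, hv0q⟩ := D.q_surj v
    have hw0M : w0 ∈ M := ⟨hw0E, hw0q ▸ Submodule.mem_span_pair.2 ⟨x, y, rfl⟩⟩
    have hv0M : v0 ∈ M := ⟨hv0E, hv0q ▸ hv⟩
    set W0 : D.E := α ⟨w0, hw0E⟩
    set V0 : D.E := α ⟨v0, hv0E⟩
    have hqW : D.q W0 = w := by
      rw [hα]
      show g (D.q w0) = w
      rw [hw0q, map_add, map_smul, map_smul]
    have hqV : D.q V0 = g v := by
      rw [hα]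
      show g (D.q v0) = g v
      rw [hv0q]
    have hVW : C V0 W0 = 0 := hlift g hg α hα ⟨v0, hv0E⟩ ⟨w0, hw0E⟩ (hiso _ _ hv0M hw0M)
    have hWM : (W0 : G) ∈ M := ⟨W0.2, hqW ▸ hwU⟩
    obtain ⟨a0, a1, a2, ha⟩ := span_three hli (g v)
    have ha0 : a0 ≠ 0 := fun h => hgv (by
      rw [ha, h, zero_smul, zero_add]; exact Submodule.mem_span_pair.2 ⟨_, _, rfl⟩)
    have hbM : b ∈ M := hLM hbL
    have heW : C e W0 = 0 := by
      rw [hCexp _ V0.2 _ W0.2 a0 a1 a2 (hqV.trans ha), hiso m _ hmM hWM, hiso b _ hbM hWM,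
        smul_zero, smul_zero, add_zero, add_zero, smul_eq_zero] at hVW
      exact hVW.resolve_left ha0
    have : w ∈ Rad := by
      refine ⟨W0, W0.2, hqW, fun c hc => ?_⟩
      obtain ⟨c0, c1, c2, hc'⟩ := span_three hli (D.q c)
      rw [hCskew c hc W0 W0.2, hCexp c hc _ W0.2 c0 c1 c2 hc', hiso m _ hmM hWM,
        hiso b _ hbM hWM, heW]
      simp
    rw [hRad, Submodule.mem_bot] at this
    exact hne' this
  -- the action of `n` on `Φ / J`
  choose s hsΦ hsω using hωs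
  have hωcong : ∀ g : G, ∀ φ ∈ D.Φ, ∀ ψ ∈ D.Φ, ω φ = ω ψ →
      ω (g * φ * g⁻¹) = ω (g * ψ * g⁻¹) := by
    intro g φ hφ ψ hψ h
    have hj : φ⁻¹ * ψ ∈ J := by
      rw [← hω0 _ (D.Φ.mul_mem (D.Φ.inv_mem hφ) hψ), hωm _ (D.Φ.inv_mem hφ) _ hψ, hωinv φ hφ, h,
        neg_add_cancel]
    have hj' := hJn.conj_mem _ hj g
    rw [show g * ψ * g⁻¹ = g * φ * g⁻¹ * (g * (φ⁻¹ * ψ) * g⁻¹) by group,
      hωm _ (hΦn.conj_mem _ hφ g) _ (hJΦ hj'), (hω0 _ (hJΦ hj')).2 hj', add_zero]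
  obtain ⟨δ, hδ⟩ : ∃ δ : (Fin k → ZMod p) →ₗ[ZMod p] (Fin k → ZMod p),
      ∀ φ ∈ D.Φ, δ (ω φ) = ω (n * φ * n⁻¹) - ω φ := by
    let f : (Fin k → ZMod p) →+ (Fin k → ZMod p) := AddMonoidHom.mk'
      (fun v => ω (n * s v * n⁻¹) - v) fun u v => by
        have h1 : ω (n * s (u + v) * n⁻¹) = ω (n * (s u * s v) * n⁻¹) :=
          hωcong n _ (hsΦ _) _ (D.Φ.mul_mem (hsΦ u) (hsΦ v))
            (by rw [hsω, hωm _ (hsΦ u) _ (hsΦ v), hsω, hsω])
        rw [h1, show n * (s u * s v) * n⁻¹ = (n * s u * n⁻¹) * (n * s v * n⁻¹) by group,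
          hωm _ (hΦn.conj_mem _ (hsΦ u) n) _ (hΦn.conj_mem _ (hsΦ v) n)]
        abel
    refine ⟨f.toZModLinearMap p, fun φ hφ => ?_⟩
    show ω (n * s (ω φ) * n⁻¹) - ω φ = _
    rw [hωcong n _ (hsΦ _) φ hφ (hsω _)]
  have hδC : ∀ a ∈ D.E, ∀ c ∈ D.E, δ (C a c) = C (n * a * n⁻¹) (n * c * n⁻¹) - C a c :=
    fun a ha c hc => by
      show δ (ω ⁅a, c⁆) = _
      rw [hδ _ (D.comm_mem ha hc)]
      congr 2
      simp only [commutatorElement_def]
      group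
  have hce : n * e * n⁻¹ = m * e := by rw [hm, commutatorElement_def]; group
  have hcm : n * m * n⁻¹ = b * m := by rw [hb, commutatorElement_def]; group
  have hβΦ : ⁅n, b⁆ ∈ D.Φ := hLΦ n b hbL
  have hcb : n * b * n⁻¹ = ⁅n, b⁆ * b := by rw [commutatorElement_def]; group
  have hqme : D.q (m * e) = (1 : ZMod p) • D.q e + (1 : ZMod p) • D.q m + (0 : ZMod p) • D.q b := by
    rw [D.q_mul m hmE e he]; simp [add_comm]
  have hqbm : D.q (b * m) = (0 : ZMod p) • D.q e + (1 : ZMod p) • D.q m + (1 : ZMod p) • D.q b := by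
    rw [D.q_mul b hbE m hmE]; simp [add_comm]
  have hqβb : D.q (⁅n, b⁆ * b) =
      (0 : ZMod p) • D.q e + (0 : ZMod p) • D.q m + (1 : ZMod p) • D.q b := by
    rw [D.q_mul _ (D.le hβΦ) b hbE, (D.q_zero _ (D.le hβΦ)).2 hβΦ]; simp
  have hmeE := D.E.mul_mem hmE he
  have hbmE := D.E.mul_mem hbE hmE
  have hβbE := D.E.mul_mem (D.le hβΦ) hbE
  have hδem : δ (C e m) = C e b + C m b := by
    rw [hδC e he m hmE, hce, hcm, hCexp _ hmeE _ hbmE 1 1 0 hqme]
    rw [hCskew _ hbmE e he, hCskew _ hbmE m hmE, hCexp _ hbmE e he 0 1 1 hqbm,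
      hCexp _ hbmE m hmE 0 1 1 hqbm, hCskew e he m hmE, hCskew e he b hbE, hCskew m hmE b hbE,
      hCself m]
    simp only [zero_smul, one_smul, zero_add, add_zero, neg_add, neg_neg]
    abel
  have hδeb : δ (C e b) = C m b := by
    rw [hδC e he b hbE, hce, hcb, hCexp _ hmeE _ hβbE 1 1 0 hqme, hCskew _ hβbE e he,
      hCskew _ hβbE m hmE, hCexp _ hβbE e he 0 0 1 hqβb, hCexp _ hβbE m hmE 0 0 1 hqβb,
      hCskew e he b hbE, hCskew m hmE b hbE]
    simp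
  have hδmb : δ (C m b) = 0 := by
    rw [hδC m hmE b hbE, hcm, hcb, hCexp _ hbmE _ hβbE 0 1 1 hqbm, hCskew _ hβbE m hmE,
      hCskew _ hβbE b hbE, hCexp _ hβbE m hmE 0 0 1 hqβb, hCexp _ hβbE b hbE 0 0 1 hqβb,
      hCskew m hmE b hbE, hCself b]
    simp
  have hωli : LinearIndependent (ZMod p) ![C e m, C e b, C m b] := by
    rw [Fintype.linearIndependent_iff]
    intro a ha
    simp only [Fin.sum_univ_three, Matrix.cons_val_zero, Matrix.cons_val_one, Matrix.cons_val]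
      at ha
    have h1 := congrArg δ ha
    simp only [map_add, map_smul, hδem, hδeb, hδmb, smul_zero, add_zero, map_zero] at h1
    have h2 := congrArg δ h1
    simp only [map_add, map_smul, hδeb, hδmb, smul_zero, add_zero, map_zero] at h2
    have a0 := (smul_eq_zero.1 h2).resolve_right hCmb
    rw [a0, zero_smul, zero_add] at h1 ha
    have a1 := (smul_eq_zero.1 h1).resolve_right hCmb
    rw [a1, zero_smul, zero_add] at ha
    intro i
    fin_cases i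
    · exact a0
    · exact a1
    · exact (smul_eq_zero.1 ha).resolve_right hCmb
  have hspan : ∀ w : Fin k → ZMod p, ∃ x y z : ZMod p,
      w = x • C e m + y • C e b + z • C m b := by
    intro w
    have hle := hωli.fintype_card_le_finrank
    simp only [Fintype.card_fin, Module.finrank_fin_fun] at hle
    have ht := hωli.span_eq_top_of_card_eq_finrank (by simp; omega)
    obtain ⟨f, hf⟩ := Submodule.mem_span_range_iff_exists_fun (ZMod p) |>.1
      (ht.ge (Submodule.mem_top (x := w)))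
    exact ⟨f 0, f 1, f 2, by rw [← hf, Fin.sum_univ_three]; rfl⟩
  set W1 := Submodule.span (ZMod p) {C e b, C m b} with hW1
  set W2 := Submodule.span (ZMod p) {C m b} with hW2
  have hW21 : W2 ≤ W1 := Submodule.span_mono (by simp)
  have hebW1 : C e b ∈ W1 := Submodule.subset_span (by simp)
  have hmbW2 : C m b ∈ W2 := Submodule.mem_span_singleton_self _
  have hcoord : ∀ x y z : ZMod p, x • C e m + y • C e b + z • C m b ∈ W1 → x = 0 := by
    intro x y z h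
    obtain ⟨r, s, hrs⟩ := Submodule.mem_span_pair.1 h
    have h1 := Fintype.linearIndependent_iff.1 hωli ![x, y - r, z - s] (by
      simp only [Fin.sum_univ_three, Matrix.cons_val_zero, Matrix.cons_val_one, Matrix.cons_val,
        sub_smul]
      rw [show x • C e m + (y • C e b - r • C e b) + (z • C m b - s • C m b) =
        (x • C e m + y • C e b + z • C m b) - (r • C e b + s • C m b) by abel, hrs, sub_self]) 0
    simpa using h1
  have hebW2 : C e b ∉ W2 := fun h => by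
    obtain ⟨r, hr⟩ := Submodule.mem_span_singleton.1 h
    have h1 := Fintype.linearIndependent_iff.1 hωli ![0, 1, -r] (by
      simp [Fin.sum_univ_three, hr]) 1
    simp at h1
  have hδW : ∀ w, δ w ∈ W1 := fun w => by
    obtain ⟨x, y, z, rfl⟩ := hspan w
    simp only [map_add, map_smul, hδem, hδeb, hδmb, smul_zero, add_zero]
    exact W1.add_mem (W1.smul_mem _ (W1.add_mem hebW1 (hW21 hmbW2)))
      (W1.smul_mem _ (hW21 hmbW2))
  have hδW1 : ∀ w ∈ W1, δ w ∈ W2 := fun w hw => by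
    obtain ⟨r, s, rfl⟩ := Submodule.mem_span_pair.1 hw
    simp only [map_add, map_smul, hδeb, hδmb, smul_zero, add_zero]
    exact W2.smul_mem _ hmbW2
  have hIW : ∀ i ∈ I, ω i ∈ W1 := by
    intro i hi
    obtain ⟨x, y, z, hxyz⟩ := hspan (ω i)
    by_cases hx : x = 0
    · rw [hxyz, hx, zero_smul, zero_add]
      exact Submodule.mem_span_pair.2 ⟨y, z, rfl⟩
    exfalso
    refine hem ?_
    have hj1 : ⁅e, b⁆ ∈ I := hLI e b hbL
    have hj2 : ⁅m, b⁆ ∈ I := hLI m b hbL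
    set j := i * (⁅e, b⁆ ^ (-y).val * ⁅m, b⁆ ^ (-z).val) with hj
    have hjI : j ∈ I := I.mul_mem hi (I.mul_mem (I.pow_mem hj1 _) (I.pow_mem hj2 _))
    have hωj : ω (j ^ x⁻¹.val) = C e m := by
      rw [hωpow j (hIΦ hjI), hj, hωm _ (hIΦ hi) _
        (D.Φ.mul_mem (D.Φ.pow_mem (hIΦ hj1) _) (D.Φ.pow_mem (hIΦ hj2) _)),
        hωm _ (D.Φ.pow_mem (hIΦ hj1) _) _ (D.Φ.pow_mem (hIΦ hj2) _), hωpow _ (hIΦ hj1),
        hωpow _ (hIΦ hj2), hxyz]
      simp only [ZMod.natCast_zmod_val]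
      show x⁻¹ • (x • C e m + y • C e b + z • C m b + ((-y) • C e b + (-z) • C m b)) = C e m
      rw [show x • C e m + y • C e b + z • C m b + ((-y) • C e b + (-z) • C m b) = x • C e m by
        simp only [neg_smul]; abel, smul_smul, inv_mul_cancel₀ hx, one_smul]
    have hj' : j ^ x⁻¹.val ∈ I := I.pow_mem hjI _
    have hdiff : (j ^ x⁻¹.val)⁻¹ * ⁅e, m⁆ ∈ J := by
      rw [← hω0 _ (D.Φ.mul_mem (D.Φ.inv_mem (hIΦ hj')) (D.comm_mem he hmE)),
        hωm _ (D.Φ.inv_mem (hIΦ hj')) _ (D.comm_mem he hmE), hωinv _ (hIΦ hj'), hωj]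
      exact neg_add_cancel _
    have h := I.mul_mem hj' (hJI hdiff)
    rwa [mul_inv_cancel_left] at h
  have hβW : ω ⁅n, b⁆ ∈ W1 := hIW _ (hLI n b hbL)
  -- conjugation on `Φ / J`
  have hconj : ∀ c : ℕ, ∀ u ∈ D.E, ∀ φ ∈ D.Φ,
      ω ((u * n ^ c) * φ * (u * n ^ c)⁻¹) - ω φ - (c : ZMod p) • δ (ω φ) ∈ W2 := by
    intro c u hu φ hφ
    rw [show u * n ^ c * φ * (u * n ^ c)⁻¹ = u * (n ^ c * φ * (n ^ c)⁻¹) * u⁻¹ by group,
      hωE u hu _ (hΦn.conj_mem φ hφ _)]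
    induction c with
    | zero => simp
    | succ c ih =>
      rw [show n ^ (c + 1) * φ * (n ^ (c + 1))⁻¹ = n * (n ^ c * φ * (n ^ c)⁻¹) * n⁻¹ by
        rw [pow_succ']; group]
      set ψ := n ^ c * φ * (n ^ c)⁻¹ with hψ
      have hψΦ : ψ ∈ D.Φ := hΦn.conj_mem φ hφ _
      have h1 : ω (n * ψ * n⁻¹) = ω ψ + δ (ω ψ) := by rw [hδ ψ hψΦ]; abel
      obtain ⟨w, hw, hwe⟩ : ∃ w ∈ W2, ω ψ = ω φ + (c : ZMod p) • δ (ω φ) + w :=
        ⟨_, ih, by abel⟩
      rw [h1, hwe, map_add, map_add, map_smul, Nat.cast_succ, add_smul, one_smul,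
        show ω φ + (c : ZMod p) • δ (ω φ) + w +
          (δ (ω φ) + (c : ZMod p) • δ (δ (ω φ)) + δ w) - ω φ -
            ((c : ZMod p) • δ (ω φ) + δ (ω φ)) = w + (c : ZMod p) • δ (δ (ω φ)) + δ w by abel]
      exact W2.add_mem (W2.add_mem hw (W2.smul_mem _ (hδW1 _ (hδW _)))) (hδW1 _ (hW21 hw))
  have hconj1 : ∀ g : G, ∀ φ ∈ D.Φ, ω (g * φ * g⁻¹) - ω φ ∈ W1 := fun g φ hφ => by
    obtain ⟨i, a, ha, rfl⟩ := D.exists_decomp hn g
    have h := hconj i a ha φ hφ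
    rw [show ω (a * n ^ i * φ * (a * n ^ i)⁻¹) - ω φ =
      (ω (a * n ^ i * φ * (a * n ^ i)⁻¹) - ω φ - (i : ZMod p) • δ (ω φ)) +
        (i : ZMod p) • δ (ω φ) by abel]
    exact W1.add_mem (hW21 h) (W1.smul_mem _ (hδW _))
  have hconj2 : ∀ g : G, ∀ φ ∈ D.Φ, ω φ ∈ W1 → ω (g * φ * g⁻¹) - ω φ ∈ W2 := fun g φ hφ h0 => by
    obtain ⟨i, a, ha, rfl⟩ := D.exists_decomp hn g
    have h := hconj i a ha φ hφ
    rw [show ω (a * n ^ i * φ * (a * n ^ i)⁻¹) - ω φ =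
      (ω (a * n ^ i * φ * (a * n ^ i)⁻¹) - ω φ - (i : ZMod p) • δ (ω φ)) +
        (i : ZMod p) • δ (ω φ) by abel]
    exact W2.add_mem h (W2.smul_mem _ (hδW1 _ h0))
  let pre : Submodule (ZMod p) (Fin k → ZMod p) → Subgroup G := fun W =>
    { carrier := {φ | φ ∈ D.Φ ∧ ω φ ∈ W}
      one_mem' := ⟨D.Φ.one_mem, by rw [hω1]; exact W.zero_mem⟩
      mul_mem' := fun {a c} ha hc => ⟨D.Φ.mul_mem ha.1 hc.1, by
        rw [hωm a ha.1 c hc.1]; exact W.add_mem ha.2 hc.2⟩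
      inv_mem' := fun {a} ha => ⟨D.Φ.inv_mem ha.1, by
        rw [hωinv a ha.1]; exact W.neg_mem ha.2⟩ }
  set Φ1 := pre W1 with hΦ1
  set Φ2 := pre W2 with hΦ2
  haveI hΦ1n : Φ1.Normal := ⟨fun φ hφ g => ⟨hΦn.conj_mem φ hφ.1 g, by
    rw [show ω (g * φ * g⁻¹) = (ω (g * φ * g⁻¹) - ω φ) + ω φ by abel]
    exact W1.add_mem (hconj1 g φ hφ.1) hφ.2⟩⟩
  haveI hΦ2n : Φ2.Normal := ⟨fun φ hφ g => ⟨hΦn.conj_mem φ hφ.1 g, by
    rw [show ω (g * φ * g⁻¹) = (ω (g * φ * g⁻¹) - ω φ) + ω φ by abel]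
    exact W2.add_mem (hconj2 g φ hφ.1 (hW21 hφ.2)) hφ.2⟩⟩
  -- the subgroups `H` and `R`
  haveI := hLn
  set G4 := ⁅L, (⊤ : Subgroup G)⁆ with hG4
  set K := Subgroup.closure
    {x | (∃ a ∈ L, a ^ p = x) ∨ ∃ a ∈ L, ∃ c ∈ L, ⁅a, c⁆ = x} with hK
  set R := ⁅G4, (⊤ : Subgroup G)⁆ ⊔ K with hR0
  set H := G4 ⊔ R with hH
  have hG4I : G4 ≤ I := Subgroup.commutator_le.2 fun a ha g _ => by
    rw [← commutatorElement_inv]
    exact I.inv_mem (hLI g a ha)
  have hG5 : ⁅G4, (⊤ : Subgroup G)⁆ ≤ Φ2 ⊓ I := Subgroup.commutator_le.2 fun φ hφ g _ => by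
    have hφI := hG4I hφ
    refine ⟨⟨?_, ?_⟩, ?_⟩
    · rw [← commutatorElement_inv]
      exact D.Φ.inv_mem (hIΦ (hLI g φ (hΦL (hIΦ hφI))))
    · have h := hconj2 g φ (hIΦ hφI) (hIW φ hφI)
      show ω ⁅φ, g⁆ ∈ W2
      rw [show ⁅φ, g⁆ = φ * (g * φ * g⁻¹)⁻¹ by simp only [commutatorElement_def]; group,
        hωm _ (hIΦ hφI) _ (D.Φ.inv_mem (hΦn.conj_mem _ (hIΦ hφI) g)),
        hωinv _ (hΦn.conj_mem _ (hIΦ hφI) g), ← sub_eq_add_neg, ← neg_sub]
      exact W2.neg_mem h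
    · rw [← commutatorElement_inv]
      exact I.inv_mem (hLI g φ (hΦL (hIΦ hφI)))
  have hLdec : ∀ a ∈ L, ∃ z : ℕ, ∃ φ ∈ D.Φ, a = b ^ z * φ := by
    intro a ha
    obtain ⟨r, hr⟩ := Submodule.mem_span_singleton.1 ha.2
    refine ⟨r.val, (b ^ r.val)⁻¹ * a, ?_, (mul_inv_cancel_left _ _).symm⟩
    rw [← D.q_eq_iff (D.E.pow_mem hbE _) ha.1, D.q_pow hbE, ← hr, ZMod.natCast_zmod_val]
  have hKle : K ≤ Φ2 ⊓ I := by
    have hbp : ω (b ^ p) ∈ W2 := by
      have hfix : δ (ω (b ^ p)) = 0 := by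
        rw [hδ _ (D.pow_mem hbE), sub_eq_zero,
          show n * b ^ p * n⁻¹ = (⁅n, b⁆ * b) ^ p by
            rw [← hcb]; exact (conj_pow).symm]
        haveI := hJn
        have hφJ : QuotientGroup.mk' J (⁅n, b⁆ * b) ^ p = QuotientGroup.mk' J b ^ p := by
          have hc : Commute (QuotientGroup.mk' J ⁅n, b⁆) (QuotientGroup.mk' J b) := by
            rw [commute_iff_eq, ← commutatorElement_eq_one_iff_mul_comm, ← map_commutatorElement,
              QuotientGroup.mk'_apply, QuotientGroup.eq_one_iff]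
            exact hScomm _ hβΦ b hbE
          rw [map_mul, hc.mul_pow, ← map_pow _ ⁅n, b⁆,
            show QuotientGroup.mk' J (⁅n, b⁆ ^ p) = 1 from
              (QuotientGroup.eq_one_iff _).2 (hSpow _ hβΦ), one_mul]
        rw [← map_pow, ← map_pow, QuotientGroup.mk'_apply, QuotientGroup.mk'_apply,
          QuotientGroup.eq] at hφJ
        have h1 := D.pow_mem hβbE
        have h2 := D.pow_mem hbE
        have h3 := (hω0 _ (D.Φ.mul_mem (D.Φ.inv_mem h1) h2)).2 hφJ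
        rw [hωm _ (D.Φ.inv_mem h1) _ h2, hωinv _ h1, neg_add_eq_zero] at h3
        exact h3
      obtain ⟨x, y, z, hxyz⟩ := hspan (ω (b ^ p))
      rw [hxyz] at hfix ⊢
      simp only [map_add, map_smul, hδem, hδeb, hδmb, smul_zero, add_zero, smul_add] at hfix
      have h1 := Fintype.linearIndependent_iff.1 hωli ![0, x, x + y] (by
        simp only [Fin.sum_univ_three, Matrix.cons_val_zero, Matrix.cons_val_one, Matrix.cons_val,
          zero_smul, zero_add, add_smul]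
        rw [← hfix]; abel)
      have hx : x = 0 := by simpa using h1 1
      have hxy : x + y = 0 := by simpa using h1 2
      rw [hx, zero_add] at hxy
      rw [hx, hxy, zero_smul, zero_smul, zero_add, zero_add]
      exact W2.smul_mem _ hmbW2
    refine (Subgroup.closure_le _).2 ?_
    rintro x (⟨a, ha, rfl⟩ | ⟨a, ha, c, hc, rfl⟩)
    · obtain ⟨z, φ, hφ, rfl⟩ := hLdec a ha
      have hbz := D.E.pow_mem hbE z
      have hzE : b ^ z * φ ∈ D.E := D.E.mul_mem hbz (D.le hφ)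
      have hI' : (b ^ z * φ) ^ p ∈ I := by
        refine ⟨D.pow_mem hzE, ?_⟩
        obtain ⟨a0, ha0, hae⟩ : b ^ z * φ ∈ E' := E'.mul_mem (E'.pow_mem hbE' z) (hΦE' hφ)
        rw [← hae]
        exact ⟨a0 ^ p, D.pow_mem ha0, map_pow ξ.toMonoidHom a0 p⟩
      refine ⟨⟨hIΦ hI', ?_⟩, hI'⟩
      show ω ((b ^ z * φ) ^ p) ∈ W2
      haveI := hJn
      have hφJ : QuotientGroup.mk' J (b ^ z * φ) ^ p = QuotientGroup.mk' J ((b ^ p) ^ z) := by
        have hc : Commute (QuotientGroup.mk' J (b ^ z)) (QuotientGroup.mk' J φ) := by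
          rw [commute_iff_eq, eq_comm, ← commutatorElement_eq_one_iff_mul_comm,
            ← map_commutatorElement, QuotientGroup.mk'_apply, QuotientGroup.eq_one_iff]
          exact hScomm _ hφ _ hbz
        rw [map_mul, hc.mul_pow, ← map_pow _ φ, ← map_pow _ (b ^ z),
          show QuotientGroup.mk' J (φ ^ p) = 1 from (QuotientGroup.eq_one_iff _).2 (hSpow _ hφ),
          mul_one, ← pow_mul, ← pow_mul, mul_comm z p]
      rw [← map_pow, QuotientGroup.mk'_apply, QuotientGroup.mk'_apply, QuotientGroup.eq] at hφJ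
      have h1 := D.pow_mem hzE
      have h2 := D.Φ.pow_mem (D.pow_mem hbE) z
      have h3 := (hω0 _ (D.Φ.mul_mem (D.Φ.inv_mem h1) h2)).2 hφJ
      rw [hωm _ (D.Φ.inv_mem h1) _ h2, hωinv _ h1, neg_add_eq_zero] at h3
      rw [h3, hωpow _ (D.pow_mem hbE)]
      exact W2.smul_mem _ hbp
    · refine ⟨⟨D.comm_mem ha.1 hc.1, ?_⟩, hLI a c hc⟩
      obtain ⟨r, hr⟩ := Submodule.mem_span_singleton.1 ha.2
      obtain ⟨r', hr'⟩ := Submodule.mem_span_singleton.1 hc.2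
      show C a c ∈ W2
      rw [hCexp a ha.1 c hc.1 0 0 r (by simp [hr]), hCskew c hc.1 b hbE,
        hCexp c hc.1 b hbE 0 0 r' (by simp [hr']), hCself b]
      simp
  have hRle : R ≤ Φ2 ⊓ I := sup_le hG5 hKle
  have hHI : H ≤ I := sup_le hG4I (hRle.trans inf_le_right)
  have hRH : R ≤ H := le_sup_right
  have hRlt : R < H ∧ H ⊓ Φ2 < H := by
    have hbe : ⁅b, e⁆ ∈ H := Subgroup.mem_sup_left
      (Subgroup.commutator_mem_commutator hbL (Subgroup.mem_top e))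
    have hnot : ⁅b, e⁆ ∉ Φ2 := fun h => hebW2 (by
      have h1 : C b e ∈ W2 := h.2
      rw [hCskew e he b hbE] at h1
      exact W2.neg_mem_iff.1 h1)
    exact ⟨lt_of_le_of_ne hRH fun hh => hnot ((hRle (hh.ge hbe)).1),
      lt_of_le_of_ne inf_le_left fun hh => hnot (Subgroup.mem_inf.1 (hh.ge hbe)).2⟩
  have hReq : R = H ⊓ Φ2 := by
    refine Subgroup.eq_of_le_of_card_ge (le_inf hRH (hRle.trans inf_le_left)) ?_
    have h1 := mul_card_le_of_lt hG hRlt.2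
    have h2 : p * Nat.card H ≤ Nat.card D.Φ := mul_card_le_of_lt hG
      (lt_of_le_of_ne (hHI.trans hIΦ) fun h => hInv (h.ge.trans hHI))
    have h3 : p * Nat.card D.Φ ≤ Nat.card L := mul_card_le_of_lt hG
      (lt_of_le_of_ne hΦL fun h => hqb0 ((D.q_zero b hbE).2 (h.ge hbL)))
    have h4 : Nat.card L ≤ p ^ 3 * Nat.card R :=
      hR L R (hRH.trans (hHI.trans (hIΦ.trans hΦL)))
        (fun a ha c hc => Subgroup.mem_sup_right
          (Subgroup.subset_closure (Or.inr ⟨a, ha, c, hc, rfl⟩)))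
        (fun a ha => Subgroup.mem_sup_right (Subgroup.subset_closure (Or.inl ⟨a, ha, rfl⟩)))
    refine Nat.le_of_mul_le_mul_left ?_ (pow_pos hp.out.pos 3)
    calc p ^ 3 * Nat.card ↥(H ⊓ Φ2) = p * (p * (p * Nat.card ↥(H ⊓ Φ2))) := by ring
      _ ≤ p * (p * Nat.card H) := by gcongr
      _ ≤ p * Nat.card D.Φ := by gcongr
      _ ≤ Nat.card L := h3
      _ ≤ _ := h4
  have hξG4 : G4.map ξ.toMonoidHom = G4 := by
    rw [hG4, Subgroup.map_commutator, hξL, Subgroup.map_top_of_surjective _ ξ.surjective]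
  have hξR : ∀ x ∈ R, ξ x ∈ R := by
    intro x hx
    have hle : R.map ξ.toMonoidHom ≤ R := by
      rw [hR0, Subgroup.map_sup, Subgroup.map_commutator, hξG4,
        Subgroup.map_top_of_surjective _ ξ.surjective]
      refine sup_le_sup_left ?_ _
      rw [Subgroup.map_le_iff_le_comap, hK, Subgroup.closure_le]
      rintro y (⟨a, ha, rfl⟩ | ⟨a, ha, c, hc, rfl⟩)
      · exact Subgroup.subset_closure
          (Or.inl ⟨ξ a, hξL.le ⟨a, ha, rfl⟩, (map_pow ξ a p).symm⟩)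
      · exact Subgroup.subset_closure (Or.inr ⟨ξ a, hξL.le ⟨a, ha, rfl⟩, ξ c,
          hξL.le ⟨c, hc, rfl⟩, (map_commutatorElement ξ a c).symm⟩)
    exact hle ⟨x, hx, rfl⟩
  -- the computation
  have hcentral1 : ∀ g : G, ∀ y, (y ∈ D.Φ ∨ y = b) →
      Commute (QuotientGroup.mk' Φ1 g) (QuotientGroup.mk' Φ1 y) := by
    intro g y hy
    rw [commute_iff_eq, ← commutatorElement_eq_one_iff_mul_comm, ← map_commutatorElement,
      QuotientGroup.mk'_apply, QuotientGroup.eq_one_iff]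
    rcases hy with hy | rfl
    · exact ⟨hIΦ (hLI g y (hΦL hy)), hIW _ (hLI g y (hΦL hy))⟩
    · exact ⟨hIΦ (hLI g b hbL), hIW _ (hLI g b hbL)⟩
  have hβ2 : ∀ g : G, Commute (QuotientGroup.mk' Φ2 g) (QuotientGroup.mk' Φ2 ⁅n, b⁆) := by
    intro g
    rw [commute_iff_eq, ← commutatorElement_eq_one_iff_mul_comm, ← map_commutatorElement,
      QuotientGroup.mk'_apply, QuotientGroup.eq_one_iff]
    refine ⟨hLΦ g _ (hΦL hβΦ), ?_⟩
    show ω ⁅g, ⁅n, b⁆⁆ ∈ W2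
    rw [show ⁅g, ⁅n, b⁆⁆ = g * ⁅n, b⁆ * g⁻¹ * ⁅n, b⁆⁻¹ from commutatorElement_def _ _,
      hωm _ (hΦn.conj_mem _ hβΦ g) _ (D.Φ.inv_mem hβΦ), hωinv _ hβΦ, ← sub_eq_add_neg]
    exact hconj2 g _ hβΦ hβW
  have hmain : ∀ (μ : G) (l j : ZMod p), μ ∈ M → D.q μ = l • D.q m + j • D.q b →
      ∀ (u : G) (c : ℕ) (a y z : ZMod p), u ∈ D.E → D.q u = a • D.q e + y • D.q m + z • D.q b →
      ⁅u * n ^ c, ⁅u * n ^ c, μ⁆⁆ ∈ H ∧
        ω ⁅u * n ^ c, ⁅u * n ^ c, μ⁆⁆ -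
          l • ((2 * a * c) • C e b + ((c : ZMod p) * c) • ω ⁅n, b⁆) ∈ W2 := by
    intro μ l j hμ hqμ u c a y z hu hqu
    set v := u * n ^ c with hv
    set x := ⁅v, μ⁆ with hx
    set κ : ℕ := c * l.val with hκ
    have hxL : x ∈ L := hML v μ hμ
    set ψ := (b ^ κ)⁻¹ * x with hψ
    have hψdec : x = b ^ κ * ψ := (mul_inv_cancel_left _ _).symm
    have h1 : QuotientGroup.mk' Φ1 ⁅n ^ c, μ⁆ = QuotientGroup.mk' Φ1 b ^ κ := by
      have hμ' : (m ^ l.val * b ^ j.val)⁻¹ * μ ∈ D.Φ := by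
        rw [← D.q_eq_iff (D.E.mul_mem (D.E.pow_mem hmE _) (D.E.pow_mem hbE _)) hμ.1,
          D.q_mul _ (D.E.pow_mem hmE _) _ (D.E.pow_mem hbE _), D.q_pow hmE, D.q_pow hbE, hqμ]
        simp only [ZMod.natCast_zmod_val]
      have hc1 := (hcentral1 (n ^ c) _ (Or.inl hμ')).eq
      have hc2 := ((hcentral1 (n ^ c) b (Or.inr rfl)).pow_right j.val).eq
      rw [show μ = m ^ l.val * b ^ j.val * ((m ^ l.val * b ^ j.val)⁻¹ * μ) from
        (mul_inv_cancel_left _ _).symm, map_commutatorElement, map_mul, map_mul, map_pow _ b]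
      set N' := QuotientGroup.mk' Φ1 (n ^ c)
      set Mm := QuotientGroup.mk' Φ1 (m ^ l.val)
      set B := QuotientGroup.mk' Φ1 b ^ j.val
      set P := QuotientGroup.mk' Φ1 ((m ^ l.val * b ^ j.val)⁻¹ * μ)
      rw [show ⁅N', Mm * B * P⁆ = ⁅N', Mm⁆ * (Mm * ⁅N', B⁆ * Mm⁻¹) *
          (Mm * B * ⁅N', P⁆ * (Mm * B)⁻¹) by simp only [commutatorElement_def]; group,
        commutatorElement_eq_one_iff_mul_comm.2 hc2, commutatorElement_eq_one_iff_mul_comm.2 hc1]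
      simp only [mul_one, mul_inv_cancel, N', Mm, map_pow]
      exact comm_pow_pow (z := QuotientGroup.mk' Φ1 b) (by rw [← map_commutatorElement, ← hb])
        (hcentral1 n b (Or.inr rfl)).symm (hcentral1 m b (Or.inr rfl)).symm c l.val
    have h2 : QuotientGroup.mk' Φ1 ψ = QuotientGroup.mk' Φ1 ⁅u, μ⁆ := by
      rw [hψ, hx, hv, show ⁅u * n ^ c, μ⁆ = u * ⁅n ^ c, μ⁆ * u⁻¹ * ⁅u, μ⁆ by
        simp only [commutatorElement_def]; group]
      simp only [map_mul, map_inv, map_pow, h1]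
      rw [((hcentral1 u b (Or.inr rfl)).pow_right κ).eq, mul_inv_cancel_right, inv_mul_cancel_left]
    have hψΦ : ψ ∈ D.Φ := by
      rw [QuotientGroup.mk'_apply, QuotientGroup.mk'_apply, QuotientGroup.eq] at h2
      have h := D.Φ.mul_mem (D.comm_mem hu hμ.1) (D.Φ.inv_mem h2.1)
      rwa [show ⁅u, μ⁆ * (ψ⁻¹ * ⁅u, μ⁆)⁻¹ = ψ by group] at h
    have h3 : ω ψ - (a * l) • C e m ∈ W1 := by
      rw [QuotientGroup.mk'_apply, QuotientGroup.mk'_apply, QuotientGroup.eq] at h2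
      have h4 : ω (ψ⁻¹ * ⁅u, μ⁆) ∈ W1 := h2.2
      rw [hωm _ (D.Φ.inv_mem hψΦ) _ (D.comm_mem hu hμ.1), hωinv _ hψΦ] at h4
      have h5 : C u μ - (a * l) • C e m ∈ W1 := by
        rw [hCexp u hu μ hμ.1 a y z hqu, hCskew μ hμ.1 e he, hCskew μ hμ.1 m hmE,
          hCskew μ hμ.1 b hbE, hCexp μ hμ.1 e he 0 l j (by rw [zero_smul, zero_add]; exact hqμ),
          hCexp μ hμ.1 m hmE 0 l j (by rw [zero_smul, zero_add]; exact hqμ),
          hCexp μ hμ.1 b hbE 0 l j (by rw [zero_smul, zero_add]; exact hqμ),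
          hCskew e he m hmE, hCskew e he b hbE, hCskew m hmE b hbE, hCself m, hCself b]
        refine Submodule.mem_span_pair.2 ⟨a * j, y * j - z * l, ?_⟩
        module
      rw [show ω ψ - (a * l) • C e m =
        -(-ω ψ + ω ⁅u, μ⁆) + (C u μ - (a * l) • C e m) by show _ = _ + (ω ⁅u, μ⁆ - _); abel]
      exact W1.add_mem (W1.neg_mem h4) h5
    have hy1 : ⁅v, x⁆ ∈ G4 := by
      rw [← commutatorElement_inv]
      exact G4.inv_mem (Subgroup.commutator_mem_commutator hxL (Subgroup.mem_top v))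
    refine ⟨Subgroup.mem_sup_left hy1, ?_⟩
    have hbκ : b ^ κ ∈ L := L.pow_mem hbL κ
    have e1 : ⁅v, x⁆ = ⁅v, b ^ κ⁆ * (b ^ κ * ⁅v, ψ⁆ * (b ^ κ)⁻¹) := by
      rw [hψdec]; simp only [commutatorElement_def]; group
    have e2 : ⁅v, b ^ κ⁆ = u * ⁅n ^ c, b ^ κ⁆ * u⁻¹ * ⁅u, b ^ κ⁆ := by
      rw [hv]; simp only [commutatorElement_def]; group
    have m1 : ⁅v, b ^ κ⁆ ∈ D.Φ := hLΦ v _ hbκ
    have m2 : ⁅v, ψ⁆ ∈ D.Φ := hLΦ v _ (hΦL hψΦ)
    have m3 : ⁅n ^ c, b ^ κ⁆ ∈ D.Φ := hLΦ _ _ hbκ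
    rw [e1, hωm _ m1 _ (hΦn.conj_mem _ m2 _), hωE _ (D.E.pow_mem hbE κ) _ m2, e2,
      hωm _ (hΦn.conj_mem _ m3 u) _ (hLΦ u _ hbκ), hωE u hu _ m3,
      show ⁅v, ψ⁆ = v * ψ * v⁻¹ * ψ⁻¹ from commutatorElement_def _ _,
      hωm _ (hΦn.conj_mem _ hψΦ v) _ (D.Φ.inv_mem hψΦ), hωinv _ hψΦ]
    have h6 : ω ⁅n ^ c, b ^ κ⁆ - (((c * κ : ℕ) : ZMod p)) • ω ⁅n, b⁆ ∈ W2 := by
      have hq : QuotientGroup.mk' Φ2 ⁅n ^ c, b ^ κ⁆ = QuotientGroup.mk' Φ2 (⁅n, b⁆ ^ (c * κ)) := by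
        rw [map_commutatorElement, map_pow, map_pow, map_pow]
        exact comm_pow_pow (map_commutatorElement _ n b).symm (hβ2 n).symm (hβ2 b).symm c κ
      rw [QuotientGroup.mk'_apply, QuotientGroup.mk'_apply, QuotientGroup.eq] at hq
      have h : ω (⁅n ^ c, b ^ κ⁆⁻¹ * ⁅n, b⁆ ^ (c * κ)) ∈ W2 := hq.2
      rw [hωm _ (D.Φ.inv_mem m3) _ (D.Φ.pow_mem hβΦ _), hωinv _ m3, hωpow _ hβΦ] at h
      rw [← neg_sub, sub_eq_neg_add]
      exact W2.neg_mem h
    have h7 : ω ⁅u, b ^ κ⁆ - (κ : ZMod p) • (a • C e b) ∈ W2 := by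
      show C u (b ^ κ) - _ ∈ W2
      rw [hCskew _ (D.E.pow_mem hbE κ) u hu, hCpow b hbE u hu κ, hCskew u hu b hbE,
        hCexp u hu b hbE a y z hqu, hCself b]
      refine Submodule.mem_span_singleton.2 ⟨(κ : ZMod p) * y, ?_⟩
      module
    have h8 := hconj c u hu ψ hψΦ
    rw [← hv] at h8
    have h9 : (c : ZMod p) • δ (ω ψ) - ((c : ZMod p) * (a * l)) • C e b ∈ W2 := by
      have h10 : δ (ω ψ) - (a * l) • C e b ∈ W2 := by
        have h11 := hδW1 _ h3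
        rw [map_sub, map_smul, hδem] at h11
        rw [show δ (ω ψ) - (a * l) • C e b =
          (δ (ω ψ) - (a * l) • (C e b + C m b)) + (a * l) • C m b by module]
        exact W2.add_mem h11 (W2.smul_mem _ hmbW2)
      rw [← smul_smul, ← smul_sub]
      exact W2.smul_mem _ h10
    have hsum := W2.add_mem (W2.add_mem (W2.add_mem h6 h7) h8) h9
    have hκc : (κ : ZMod p) = c * l := by rw [hκ, Nat.cast_mul, ZMod.natCast_zmod_val]
    rw [Nat.cast_mul, hκc] at hsum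
    rw [hκc] at *
    convert hsum using 1
    module
  have hbase : ⁅e, ⁅e, m⁆⁆ ∈ R := by
    obtain ⟨h1, h2⟩ := hmain m 1 0 hmM (by simp) e 0 1 0 0 he (by simp)
    simp only [pow_zero, mul_one, Nat.cast_zero, mul_zero, zero_smul, add_zero, smul_zero,
      sub_zero] at h1 h2
    rw [hReq]
    exact ⟨h1, hIΦ (hHI h1), h2⟩
  have hfinal : ∀ v μ : G, ⁅v, ⁅v, μ⁆⁆ ∈ R → μ ∈ M → μ ∉ L →
      ∀ (u : G) (c : ℕ) (a y z : ZMod p), u ∈ D.E →
      D.q u = a • D.q e + y • D.q m + z • D.q b → v = u * n ^ c →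
      (2 * a * (c : ZMod p)) • C e b + ((c : ZMod p) * c) • ω ⁅n, b⁆ ∈ W2 := by
    intro v μ hvR hμ hμL u c a y z hu hqu hv
    obtain ⟨l, j, hlj⟩ := Submodule.mem_span_pair.1 hμ.2
    have hl : l ≠ 0 := fun h => hμL ⟨hμ.1, by
      rw [← hlj, h, zero_smul, zero_add]
      exact U1.smul_mem _ (Submodule.mem_span_singleton_self _)⟩
    obtain ⟨-, h2⟩ := hmain μ l j hμ hlj.symm u c a y z hu hqu
    rw [← hv] at h2
    have h3 : ω ⁅v, ⁅v, μ⁆⁆ ∈ W2 := (hRle hvR).1.2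
    refine (W2.smul_mem_iff hl).1 ?_
    have h4 := W2.sub_mem h3 h2
    rwa [sub_sub_cancel] at h4
  have hξm : ξ m ∈ M ∧ ξ m ∉ L := by
    refine ⟨hξM.le ⟨m, hmM, rfl⟩, fun h => hmL ?_⟩
    rw [← hξL] at h
    obtain ⟨a, ha, hae⟩ := h
    rwa [← ξ.injective hae]
  have hξ2m : ξ (ξ m) ∈ M ∧ ξ (ξ m) ∉ L := by
    refine ⟨hξM.le ⟨_, hξm.1, rfl⟩, fun h => hξm.2 ?_⟩
    rw [← hξL] at h
    obtain ⟨a, ha, hae⟩ := h
    rwa [← ξ.injective hae]
  have hξe : ξ e ∈ E' := ⟨e, he, rfl⟩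
  have hξeE : ξ e ∉ D.E := by
    intro h
    have h1 : ξ e ∈ M := hMeq ▸ ⟨h, hξe⟩
    rw [← hξM] at h1
    obtain ⟨a, ha, hae⟩ := h1
    exact heM (ξ.injective hae ▸ ha)
  have hξ2e : ξ (ξ e) ∉ D.E ∧ ξ (ξ e) ∉ E' := by
    refine ⟨fun h => hξ2 ?_, fun h => ?_⟩
    · refine Subgroup.eq_of_le_of_card_ge ?_
        (Subgroup.card_map_of_injective (ξ ^ 2).injective).ge
      rintro _ ⟨a, ha, rfl⟩
      obtain ⟨x, y, z, φ, hφ, rfl, -⟩ := hqpre a ha
      show ξ (ξ (e ^ x * m ^ y * b ^ z * φ)) ∈ D.E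
      rw [map_mul, map_mul, map_mul, map_mul, map_mul, map_mul, map_pow ξ e, map_pow ξ,
        map_pow ξ m, map_pow ξ, map_pow ξ b, map_pow ξ]
      have hM2 : ∀ w ∈ M, ξ (ξ w) ∈ D.E := fun w hw =>
        (hξM.le ⟨_, hξM.le ⟨w, hw, rfl⟩, rfl⟩ : ξ (ξ w) ∈ M).1
      exact D.E.mul_mem (D.E.mul_mem (D.E.mul_mem (D.E.pow_mem h x)
        (D.E.pow_mem (hM2 m hmM) y)) (D.E.pow_mem (hM2 b (hLM hbL)) z)) (hM2 φ (hLM (hΦL hφ)))
    · obtain ⟨a, ha, hae⟩ := h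
      exact hξeE (ξ.injective hae ▸ ha)
  obtain ⟨c1, u1, hu1, hv1⟩ := D.exists_decomp hn (ξ e)
  obtain ⟨a1, y1, z1, hq1⟩ := span_three hli (D.q u1)
  have hc1 : (c1 : ZMod p) ≠ 0 := fun h => hξeE (by
    obtain ⟨d, rfl⟩ := (ZMod.natCast_eq_zero_iff _ _).1 h
    rw [hv1, pow_mul]
    exact D.E.mul_mem hu1 (D.E.pow_mem (D.pow_p_mem n) d))
  have ha1 : a1 = 0 := by
    have hu : u1 ∈ M := hMeq ▸ ⟨hu1, (E'.mul_mem_cancel_right (E'.pow_mem hnE' c1)).1 (hv1 ▸ hξe)⟩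
    obtain ⟨r, s, hrs⟩ := Submodule.mem_span_pair.1 hu.2
    have h := Fintype.linearIndependent_iff.1 hli ![a1, y1 - r, z1 - s] (by
      simp only [Fin.sum_univ_three, Matrix.cons_val_zero, Matrix.cons_val_one, Matrix.cons_val,
        sub_smul]
      rw [show a1 • D.q e + (y1 • D.q m - r • D.q m) + (z1 • D.q b - s • D.q b) =
        (a1 • D.q e + y1 • D.q m + z1 • D.q b) - (r • D.q m + s • D.q b) by abel, ← hq1, hrs,
        sub_self]) 0
    simpa using h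
  have hR1 : ⁅ξ e, ⁅ξ e, ξ m⁆⁆ ∈ R := by
    have h := hξR _ hbase
    rwa [map_commutatorElement, map_commutatorElement] at h
  have hβW2 : ω ⁅n, b⁆ ∈ W2 := by
    have h := hfinal _ _ hR1 hξm.1 hξm.2 u1 c1 a1 y1 z1 hu1 hq1 hv1
    rw [ha1, mul_zero, zero_mul, zero_smul, zero_add] at h
    exact (W2.smul_mem_iff (mul_ne_zero hc1 hc1)).1 h
  obtain ⟨c2, u2, hu2, hv2⟩ := D.exists_decomp hn (ξ (ξ e))
  obtain ⟨a2, y2, z2, hq2⟩ := span_three hli (D.q u2)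
  have hc2 : (c2 : ZMod p) ≠ 0 := fun h => hξ2e.1 (by
    obtain ⟨d, rfl⟩ := (ZMod.natCast_eq_zero_iff _ _).1 h
    rw [hv2, pow_mul]
    exact D.E.mul_mem hu2 (D.E.pow_mem (D.pow_p_mem n) d))
  have ha2 : a2 ≠ 0 := fun h => hξ2e.2 (by
    have hu : u2 ∈ M := ⟨hu2, by
      rw [hq2, h, zero_smul, zero_add]
      exact Submodule.mem_span_pair.2 ⟨_, _, rfl⟩⟩
    rw [hv2]
    exact E'.mul_mem (hMeq.ge hu).2 (E'.pow_mem hnE' c2))
  have hR2 : ⁅ξ (ξ e), ⁅ξ (ξ e), ξ (ξ m)⁆⁆ ∈ R := by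
    have h := hξR _ hR1
    rwa [map_commutatorElement, map_commutatorElement] at h
  have h := hfinal _ _ hR2 hξ2m.1 hξ2m.2 u2 c2 a2 y2 z2 hu2 hq2 hv2
  refine hebW2 ((W2.smul_mem_iff (s := 2 * a2 * (c2 : ZMod p)) ?_).1 ?_)
  · refine mul_ne_zero (mul_ne_zero (fun h2 => ?_) ha2) hc2
    have : ((2 : ℕ) : ZMod p) = 0 := by exact_mod_cast h2
    rw [ZMod.natCast_eq_zero_iff] at this
    have := Nat.le_of_dvd two_pos this
    omega
  · have h2 := W2.sub_mem h (W2.smul_mem ((c2 : ZMod p) * c2) hβW2)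
    rwa [add_sub_cancel_right] at h2

end Cfsg.Agent.Invol.EssThree
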